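import Mathlib

/-!
Counting in doubly transitive groups in which only the identity fixes three points.
-/

set_option autoImplicit false
set_option linter.style.haveILetI false

open MulAction

namespace CfsgLib.Zassenhaus

/-- Doubly transitive, faithful, and only the identity fixes three points. -/
structure ZG (G Ω : Type*) [Group G] [MulAction G Ω] : Prop where
  trans : ∀ a b c d : Ω, a ≠ b → c ≠ d → ∃ g : G, g • a = c ∧ g • b = d
  free : ∀ g : G, ∀ a b c : Ω, a ≠ b → b ≠ c → a ≠ c → g • a = a → g • b = b → g • c = c → g = 1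
  three : 3 ≤ Nat.card Ω

variable {G Ω : Type*} [Group G] [MulAction G Ω]

variable (G) in
/-- The stabilizer of two points. -/
abbrev D2 (a b : Ω) : Subgroup G := stabilizer G a ⊓ stabilizer G b

theorem mem_D2 {a b : Ω} {g : G} : g ∈ D2 G a b ↔ g • a = a ∧ g • b = b := Iff.rfl

theorem fix_pow {g : G} {a : Ω} (h : g • a = a) : ∀ k : ℕ, g ^ k • a = a
  | 0 => by simp
  | k + 1 => by rw [pow_succ, mul_smul, h, fix_pow h k]

/-- Regard an abstract hypothesis as the structure. -/
theorem ZG.mk' [Finite Ω] (hf : FaithfulSMul G Ω) (h2 : IsMultiplyPretransitive G Ω 2)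
    (h3 : ∀ g : G, ∀ a b c : Ω, a ≠ b → b ≠ c → a ≠ c → g • a = a → g • b = b → g • c = c → g = 1)
    (h4 : ∃ g : G, g ≠ 1 ∧ ∃ a b : Ω, a ≠ b ∧ g • a = a ∧ g • b = b) : ZG G Ω := by
  haveI := Fintype.ofFinite Ω
  refine ⟨fun a b c d hab hcd => (is_two_pretransitive_iff.mp h2) hab hcd, h3, ?_⟩
  obtain ⟨g, hg, a, b, hab, ha, hb⟩ := h4
  obtain ⟨c, hc⟩ : ∃ c : Ω, g • c ≠ c := by
    by_contra hc
    push Not at hc
    exact hg (hf.eq_of_smul_eq_smul fun x => by rw [hc x, one_smul])
  classical
  have hcard : ({a, b, c} : Finset Ω).card = 3 :=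
    Finset.card_eq_three.mpr ⟨a, b, c, hab, fun e => hc (e ▸ ha), fun e => hc (e ▸ hb), rfl⟩
  rw [Nat.card_eq_fintype_card, ← hcard]
  exact Finset.card_le_univ _

variable (hz : ZG G Ω)
include hz

theorem finite_points : Finite Ω := Nat.finite_of_card_ne_zero (by have := hz.three; omega)

theorem exists_third (a b : Ω) : ∃ c : Ω, c ≠ a ∧ c ≠ b := by
  haveI := finite_points hz
  haveI := Fintype.ofFinite Ω
  classical
  by_contra h
  push Not at h
  have hle : (Finset.univ : Finset Ω).card ≤ ({a, b} : Finset Ω).card :=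
    Finset.card_le_card fun x _ => by
      by_cases hx : x = a
      · simp [hx]
      · simp [h x hx]
  have := hz.three
  rw [Nat.card_eq_fintype_card, ← Finset.card_univ] at this
  have := Finset.card_insert_le a ({b} : Finset Ω)
  simp at this
  omega

theorem transitive : IsPretransitive G Ω := ⟨fun a c => by
  obtain ⟨b, hb, -⟩ := exists_third hz a a
  obtain ⟨d, hd, -⟩ := exists_third hz c c
  obtain ⟨g, hg, -⟩ := hz.trans a b c d hb.symm hd.symm
  exact ⟨g, hg⟩⟩

theorem eq_of_three {g h : G} {a b c : Ω} (hab : a ≠ b) (hbc : b ≠ c) (hac : a ≠ c)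
    (ha : g • a = h • a) (hb : g • b = h • b) (hc : g • c = h • c) : g = h :=
  (inv_mul_eq_one.mp (hz.free _ a b c hab hbc hac (by rw [mul_smul, ha, inv_smul_smul])
    (by rw [mul_smul, hb, inv_smul_smul]) (by rw [mul_smul, hc, inv_smul_smul]))).symm

theorem eq_one_of_fixes_all {g : G} (h : ∀ x : Ω, g • x = x) : g = 1 := by
  haveI := finite_points hz
  haveI := Fintype.ofFinite Ω
  have h3 := hz.three
  rw [Nat.card_eq_fintype_card] at h3
  obtain ⟨e⟩ : Nonempty (Fin 3 ↪ Ω) := Function.Embedding.nonempty_of_card_le (by simpa using h3)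
  exact hz.free g (e 0) (e 1) (e 2) (e.injective.ne (by decide)) (e.injective.ne (by decide))
    (e.injective.ne (by decide)) (h _) (h _) (h _)

theorem finite_group : Finite G := by
  haveI := finite_points hz
  refine Finite.of_injective (MulAction.toPerm : G → Equiv.Perm Ω) fun g h e => ?_
  refine (inv_mul_eq_one.mp (eq_one_of_fixes_all hz fun x => ?_)).symm
  rw [mul_smul, show g • x = h • x from congrArg (fun f : Equiv.Perm Ω => f x) e, inv_smul_smul]

/-- A non-identity element of a two-point stabilizer fixes exactly those two points. -/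
theorem fixed_of_mem {a b : Ω} (hab : a ≠ b) {g : G} (hg : g ∈ D2 G a b) (h1 : g ≠ 1) {x : Ω}
    (hx : g • x = x) : x = a ∨ x = b := by
  by_contra h
  push Not at h
  exact h1 (hz.free g a b x hab (Ne.symm h.2) (Ne.symm h.1) hg.1 hg.2 hx)

theorem card_stab {a b : Ω} (hab : a ≠ b) :
    Nat.card (stabilizer G a) = (Nat.card Ω - 1) * Nat.card (D2 G a b) := by
  haveI := finite_points hz
  haveI := Fintype.ofFinite Ω
  classical
  have horb : orbit (stabilizer G a) b = {x : Ω | x ≠ a} := by
    ext x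
    constructor
    · rintro ⟨⟨g, hg⟩, rfl⟩ e
      exact hab (smul_left_cancel g (show g • a = g • b from (show g • a = a from hg).trans e.symm))
    · intro hx
      obtain ⟨g, h1, h2⟩ := hz.trans a b a x hab (Ne.symm hx)
      exact ⟨⟨g, h1⟩, h2⟩
  have hstab : stabilizer (stabilizer G a) b = (D2 G a b).subgroupOf (stabilizer G a) := by
    ext ⟨g, hg⟩
    exact ⟨fun h => ⟨hg, h⟩, fun h => h.2⟩
  have h := Nat.card_congr (orbitProdStabilizerEquivGroup (stabilizer G a) b)
  rw [Nat.card_prod, horb, hstab,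
    Nat.card_congr (Subgroup.subgroupOfEquivOfLe (inf_le_left : D2 G a b ≤ stabilizer G a)).toEquiv] at h
  rw [← h]
  congr 1
  rw [Nat.card_coe_set_eq, show {x : Ω | x ≠ a} = ({a} : Set Ω)ᶜ from rfl, Set.ncard_compl,
    Set.ncard_singleton]

theorem card_group {a b : Ω} (hab : a ≠ b) :
    Nat.card G = Nat.card Ω * (Nat.card Ω - 1) * Nat.card (D2 G a b) := by
  haveI := transitive hz
  rw [← (stabilizer G a).card_mul_index, index_stabilizer_of_transitive, card_stab hz hab]
  ring

theorem card_D2 {a b c : Ω} (hab : a ≠ b) (hac : a ≠ c) :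
    Nat.card (D2 G a b) = Nat.card (D2 G a c) := by
  have h1 := card_stab hz hab
  rw [card_stab hz hac] at h1
  exact Nat.eq_of_mul_eq_mul_left (by have := hz.three; omega) h1.symm

/-- The elements fixing only `a`, with the identity. -/
def kerSet (G : Type*) [Group G] [MulAction G Ω] (a : Ω) : Set G :=
  {g | g = 1 ∨ (g • a = a ∧ ∀ c : Ω, g • c = c → c = a)}

omit hz in
theorem kerSet_conj {a : Ω} {g u : G} (hu : u ∈ kerSet G a) : g * u * g⁻¹ ∈ kerSet G (g • a) := by
  rcases hu with rfl | ⟨h1, h2⟩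
  · exact Or.inl (by simp)
  refine Or.inr ⟨by rw [mul_smul, mul_smul, inv_smul_smul, h1], fun c hc => ?_⟩
  rw [mul_smul, mul_smul] at hc
  have := h2 (g⁻¹ • c) (eq_inv_smul_iff.mpr hc)
  rw [← this, smul_inv_smul]

theorem ncard_kerSet (a : Ω) : (kerSet G a).ncard = Nat.card Ω - 1 := by
  haveI := finite_points hz
  haveI := finite_group hz
  haveI := Fintype.ofFinite Ω
  haveI := Fintype.ofFinite G
  classical
  obtain ⟨b, hb, -⟩ := exists_third hz a a
  set P : Finset Ω := Finset.univ.erase a with hP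
  set F : Ω → Finset G := fun c => Finset.univ.filter fun g : G => g ∈ D2 G a c ∧ g ≠ 1 with hF
  set S : Finset G := Finset.univ.filter fun g : G => g ∈ stabilizer G a with hS
  set K : Finset G := Finset.univ.filter fun g : G => g ∈ kerSet G a with hK
  have hdisj : (P : Set Ω).PairwiseDisjoint F := by
    intro c hc d hd hcd
    rw [Function.onFun, Finset.disjoint_left]
    intro g hg hg'
    simp only [hF, Finset.mem_filter, Finset.mem_univ, true_and] at hg hg'
    rcases fixed_of_mem hz (Finset.ne_of_mem_erase hc).symm hg.1 hg.2 hg'.1.2 with h | h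
    · exact (Finset.ne_of_mem_erase hd) h
    · exact hcd h.symm
  have hFc : ∀ c ∈ P, (F c).card + 1 = Nat.card (D2 G a b) := by
    intro c hc
    rw [card_D2 hz hb.symm (Finset.ne_of_mem_erase hc).symm, Nat.card_eq_fintype_card, Fintype.card_subtype]
    have e : F c = (Finset.univ.filter fun g : G => g ∈ D2 G a c).erase 1 := by
      ext g; simp [hF, and_comm]
    rw [e, Finset.card_erase_add_one (by simp)]
  have hsplit : S = P.biUnion F ∪ K := by
    ext g
    simp only [hS, hF, hK, hP, Finset.mem_filter, Finset.mem_univ, true_and, Finset.mem_union,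
      Finset.mem_biUnion, Finset.mem_erase, and_true]
    constructor
    · intro hg
      by_cases h1 : g = 1
      · exact Or.inr (Or.inl h1)
      by_cases h : ∃ c, g • c = c ∧ c ≠ a
      · obtain ⟨c, hc, hca⟩ := h
        exact Or.inl ⟨c, hca, ⟨hg, hc⟩, h1⟩
      · push Not at h
        exact Or.inr (Or.inr ⟨hg, h⟩)
    · rintro (⟨c, -, hg, -⟩ | h | ⟨h, -⟩)
      · exact hg.1
      · rw [h]; exact one_mem _
      · exact h
  have hd2 : Disjoint (P.biUnion F) K := by
    rw [Finset.disjoint_left]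
    intro g hg hg'
    simp only [hF, hK, hP, Finset.mem_filter, Finset.mem_univ, true_and, Finset.mem_biUnion,
      Finset.mem_erase, and_true] at hg hg'
    obtain ⟨c, hca, hc, h1⟩ := hg
    rcases hg' with h | ⟨-, h⟩
    · exact h1 h
    · exact hca (h c hc.2)
  have hcard : S.card = (∑ c ∈ P, (F c).card) + K.card := by
    rw [hsplit, Finset.card_union_of_disjoint hd2, Finset.card_biUnion hdisj]
  have hsum : (∑ c ∈ P, (F c).card) + P.card = P.card * Nat.card (D2 G a b) := by
    rw [Finset.card_eq_sum_ones P, ← Finset.sum_add_distrib, Finset.sum_congr rfl hFc,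
      Finset.sum_const, ← Finset.card_eq_sum_ones, smul_eq_mul]
  have hSc : S.card = Nat.card (stabilizer G a) := by
    rw [Nat.card_eq_fintype_card, Fintype.card_subtype]
  have hPc : P.card = Nat.card Ω - 1 := by
    rw [hP, Finset.card_erase_of_mem (Finset.mem_univ _), Finset.card_univ, Nat.card_eq_fintype_card]
  rw [card_stab hz hb.symm, ← hPc, ← hsum, hcard] at hSc
  rw [← hPc, Set.ncard_eq_toFinset_card']
  have : (kerSet G a).toFinset = K := by ext g; simp [hK]
  rw [this]
  omega

theorem exists_swapping {a b : Ω} (hab : a ≠ b) : ∃ g : G, g • a = b ∧ g • b = a :=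
  hz.trans a b b a hab hab.symm

theorem ncard_swapping {a b : Ω} (hab : a ≠ b) :
    {g : G | g • a = b ∧ g • b = a}.ncard = Nat.card (D2 G a b) := by
  obtain ⟨s, h1, h2⟩ := exists_swapping hz hab
  rw [← Nat.card_coe_set_eq]
  refine (Nat.card_congr
    { toFun := fun g => ⟨s * g.1, by rw [mul_smul, g.2.1, h1], by rw [mul_smul, g.2.2, h2]⟩
      invFun := fun g => ⟨s⁻¹ * g.1, mem_D2.mpr ⟨by rw [mul_smul, g.2.1, ← h1, inv_smul_smul],
        by rw [mul_smul, g.2.2, ← h2, inv_smul_smul]⟩⟩
      left_inv := fun g => Subtype.ext (inv_mul_cancel_left s g.1)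
      right_inv := fun g => Subtype.ext (mul_inv_cancel_left s g.1) }).symm

/-- An element normalizing a non-trivial two-point stabilizer preserves the pair. -/
theorem pair_of_conj {a b : Ω} (hab : a ≠ b) {g x : G} (hx : x ∈ D2 G a b) (h1 : x ≠ 1)
    (hc : g * x * g⁻¹ ∈ D2 G a b) : (g • a = a ∧ g • b = b) ∨ (g • a = b ∧ g • b = a) := by
  have h1' : g * x * g⁻¹ ≠ 1 := fun e => h1 (conj_eq_one_iff.mp e)
  have fa : (g * x * g⁻¹) • (g • a) = g • a := by rw [mul_smul, mul_smul, inv_smul_smul, hx.1]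
  have fb : (g * x * g⁻¹) • (g • b) = g • b := by rw [mul_smul, mul_smul, inv_smul_smul, hx.2]
  have hne : g • a ≠ g • b := fun e => hab (smul_left_cancel g e)
  rcases fixed_of_mem hz hab hc h1' fa with e | e <;> rcases fixed_of_mem hz hab hc h1' fb with e' | e'
  · exact absurd (e.trans e'.symm) hne
  · exact Or.inl ⟨e, e'⟩
  · exact Or.inr ⟨e, e'⟩
  · exact absurd (e.trans e'.symm) hne

omit hz in
theorem mem_normalizer_D2 {a b : Ω} {g : G}
    (h : (g • a = a ∧ g • b = b) ∨ (g • a = b ∧ g • b = a)) :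
    g ∈ Subgroup.normalizer (D2 G a b : Set G) := by
  rw [Subgroup.mem_normalizer_iff]
  intro x
  simp only [mem_D2]
  rcases h with ⟨ha, hb⟩ | ⟨ha, hb⟩
  · have ha' : g⁻¹ • a = a := inv_smul_eq_iff.mpr ha.symm
    have hb' : g⁻¹ • b = b := inv_smul_eq_iff.mpr hb.symm
    simp only [mul_smul, ha', hb']
    constructor
    · rintro ⟨h1, h2⟩; exact ⟨by rw [h1, ha], by rw [h2, hb]⟩
    · rintro ⟨h1, h2⟩; exact ⟨smul_left_cancel g (h1.trans ha.symm), smul_left_cancel g (h2.trans hb.symm)⟩
  · have ha' : g⁻¹ • a = b := inv_smul_eq_iff.mpr hb.symm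
    have hb' : g⁻¹ • b = a := inv_smul_eq_iff.mpr ha.symm
    simp only [mul_smul, ha', hb']
    constructor
    · rintro ⟨h1, h2⟩; exact ⟨by rw [h2, hb], by rw [h1, ha]⟩
    · rintro ⟨h1, h2⟩; exact ⟨smul_left_cancel g (h2.trans ha.symm), smul_left_cancel g (h1.trans hb.symm)⟩

end CfsgLib.Zassenhaus
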