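import Cfsg.Prelude.Def_LieExceptional
import Cfsg.Agent.Lib.Zassenhaus.Basic
import Cfsg.Agent.Lib.FrobCompl.Kernel

/-!
# Normal subgroups of Zassenhaus groups
-/

set_option autoImplicit false
set_option linter.style.haveILetI false
set_option linter.unusedSectionVars false

open MulAction

namespace CfsgLib.Zassenhaus

variable {G Ω : Type*} [Group G] [MulAction G Ω]

/-- A transitive semiregular subgroup normalised by a doubly transitive group is commutative. -/
theorem regular_comm [Finite G]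
    (htr : ∀ x y x' y' : Ω, x ≠ y → x' ≠ y' → ∃ g : G, g • x = x' ∧ g • y = y')
    (R : Subgroup G) [R.Normal] {a : Ω} (hfree : ∀ r ∈ R, r • a = a → r = 1) :
    ∀ r ∈ R, ∀ s ∈ R, r * s = s * r := by
  classical
  have hinj : ∀ r s : R, (r : G) • a = (s : G) • a → r = s := fun r s h => by
    have := hfree _ (R.mul_mem (R.inv_mem s.2) r.2) (by rw [mul_smul, h, inv_smul_smul])
    exact Subtype.ext (inv_mul_eq_one.mp this).symm
  have hcN : ∀ m n : R, m ≠ 1 → n ≠ 1 → ∃ g : G, MulAut.conjNormal g m = n := by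
    intro m n hm hn
    obtain ⟨g, hg1, hg2⟩ := htr a ((m : G) • a) a ((n : G) • a)
      (fun h => hm (Subtype.ext (hfree _ m.2 h.symm))) (fun h => hn (Subtype.ext (hfree _ n.2 h.symm)))
    refine ⟨g, hinj _ _ ?_⟩
    rw [MulAut.conjNormal_apply, mul_smul, mul_smul, inv_smul_eq_iff.mpr hg1.symm, hg2]
  rcases subsingleton_or_nontrivial R with hs | hnt
  · intro r hr s hs'
    have := congrArg Subtype.val (Subsingleton.elim (⟨r, hr⟩ : R) ⟨s, hs'⟩)
    rw [show r = s from this]
  obtain ⟨p, hp, hpd⟩ := Nat.exists_prime_and_dvd (Finite.one_lt_card (α := R)).ne'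
  haveI : Fact p.Prime := ⟨hp⟩
  obtain ⟨z, hz⟩ := exists_prime_orderOf_dvd_card' (G := R) p hpd
  have hz1 : z ≠ 1 := fun h => by rw [h, orderOf_one] at hz; exact hp.one_lt.ne hz
  have hR : IsPGroup p R := fun n => ⟨1, by
    by_cases hn : n = 1
    · rw [hn, one_pow]
    obtain ⟨g, rfl⟩ := hcN z n hz1 hn
    rw [← map_pow, pow_one, ← hz, pow_orderOf_eq_one, map_one]⟩
  haveI := hR.center_nontrivial
  obtain ⟨⟨w, hw⟩, hw1⟩ := exists_ne (1 : Subgroup.center R)
  intro r hr s hs
  suffices h : (⟨r, hr⟩ : R) * ⟨s, hs⟩ = ⟨s, hs⟩ * ⟨r, hr⟩ from congrArg Subtype.val h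
  generalize (⟨r, hr⟩ : R) = m
  generalize (⟨s, hs⟩ : R) = n
  by_cases hn : n = 1
  · rw [hn, mul_one, one_mul]
  obtain ⟨g, rfl⟩ := hcN w n (fun h => hw1 (Subtype.ext h)) hn
  have := congrArg (MulAut.conjNormal g) (Subgroup.mem_center_iff.mp hw ((MulAut.conjNormal g)⁻¹ m))
  simpa [map_mul] using this

variable (hz : ZG G Ω)
include hz

/-- A nontrivial normal subgroup is transitive. -/
theorem normal_transitive (N : Subgroup G) [hN : N.Normal] (hne : N ≠ ⊥) : IsPretransitive N Ω := by
  haveI := N.nontrivial_iff_ne_bot.mpr hne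
  obtain ⟨⟨n, hn⟩, hn1⟩ := exists_ne (1 : N)
  obtain ⟨x, hx⟩ : ∃ x : Ω, n • x ≠ x := by
    by_contra h
    push Not at h
    exact hn1 (Subtype.ext (eq_one_of_fixes_all hz h))
  refine ⟨fun c d => ?_⟩
  by_cases hcd : c = d
  · exact ⟨1, by rw [one_smul, hcd]⟩
  obtain ⟨g, hg1, hg2⟩ := hz.trans x (n • x) c d (Ne.symm hx) hcd
  exact ⟨⟨g * n * g⁻¹, hN.conj_mem n hn g⟩, by
    show (g * n * g⁻¹) • c = d
    rw [← hg1, mul_smul, mul_smul, inv_smul_smul, hg2]⟩

variable (hreg : ∀ M : Subgroup G, M.Normal → IsPretransitive M Ω → ∃ a : Ω, stabilizer M a ≠ ⊥)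
include hreg

/-- A nontrivial normal subgroup contains an element fixing two points. -/
theorem exists_two_fixed (N : Subgroup G) [hN : N.Normal] (hne : N ≠ ⊥) :
    ∃ n ∈ N, n ≠ 1 ∧ ∃ c d : Ω, c ≠ d ∧ n • c = c ∧ n • d = d := by
  classical
  haveI := finite_points hz
  haveI := finite_group hz
  haveI := normal_transitive hz N hne
  by_contra h
  push Not at h
  obtain ⟨a, ha⟩ := hreg N hN inferInstance
  have hS : Cfsg.IsFrobeniusComplement (stabilizer N a) := by
    refine ⟨ha, fun e => ?_, fun g hg => (Subgroup.eq_bot_iff_forall _).mpr ?_⟩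
    · obtain ⟨b, hb, -⟩ := exists_third hz a a
      obtain ⟨n, hn⟩ := exists_smul_eq N a b
      have h' : n • a = a := mem_stabilizer_iff.mp (e.symm ▸ Subgroup.mem_top n)
      exact hb (hn.symm.trans h')
    · rintro x ⟨hx, y, hy, rfl⟩
      by_contra h1
      refine h _ (MulAut.conj g y).2 (fun e => h1 (Subtype.ext e)) a ((g : G) • a)
        (fun e => hg e.symm) hx ?_
      show ((g : G) * (y : G) * (g : G)⁻¹) • (g : G) • a = (g : G) • a
      rw [smul_smul, inv_mul_cancel_right, mul_smul, show (y : G) • a = a from hy]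
  obtain ⟨K, hK, hKn, hKc⟩ := CfsgLib.FrobCompl.exists_kernel_complement hS
  have hker : ∀ x : N, x ∈ K ↔ x = 1 ∨ ∀ c : Ω, x • c ≠ c := by
    intro x
    rw [← SetLike.mem_coe, hK]
    refine or_congr_right ⟨fun h1 c hc => ?_, fun h1 g hg => ?_⟩
    · obtain ⟨g, rfl⟩ := exists_smul_eq N a c
      apply h1 g
      refine ⟨g⁻¹ * x * g, ?_, ?_⟩
      · show (g⁻¹ * x * g) • a = a
        rw [mul_smul, mul_smul, hc, inv_smul_smul]
      · show g * (g⁻¹ * x * g) * g⁻¹ = x
        group
    · obtain ⟨y, hy, rfl⟩ := hg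
      apply h1 (g • a)
      show (g * y * g⁻¹) • g • a = g • a
      rw [smul_smul, inv_mul_cancel_right, mul_smul, show y • a = a from hy]
  have hn : (K.map N.subtype).Normal := ⟨by
    rintro _ ⟨k, hk, rfl⟩ g
    refine ⟨⟨g * k * g⁻¹, hN.conj_mem _ k.2 g⟩, (hker _).mpr ?_, rfl⟩
    rcases (hker k).mp hk with h1 | h1
    · exact Or.inl (Subtype.ext (by subst h1; simp))
    · refine Or.inr fun c hc => h1 (g⁻¹ • c) ?_
      show (k : G) • g⁻¹ • c = g⁻¹ • c
      rw [eq_inv_smul_iff, smul_smul, smul_smul]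
      exact hc⟩
  obtain ⟨c, hc⟩ := hreg _ hn (normal_transitive hz _ fun e => by
    rw [Subgroup.map_eq_bot_iff_of_injective _ N.subtype_injective] at e
    subst e
    exact hS.2.1 (Subgroup.isComplement'_bot_left.mp hKc))
  apply hc
  rw [Subgroup.eq_bot_iff_forall]
  rintro ⟨_, k, hk, rfl⟩ hkc
  rcases (hker k).mp hk with h1 | h1
  · subst h1; rfl
  · exact absurd (show k • c = c from hkc) (h1 c)

/-- A nontrivial normal subgroup is doubly transitive. -/
theorem normal_two_transitive (N : Subgroup G) [hN : N.Normal] (hne : N ≠ ⊥) {x y x' y' : Ω}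
    (hxy : x ≠ y) (hxy' : x' ≠ y') : ∃ n ∈ N, n • x = x' ∧ n • y = y' := by
  classical
  haveI := finite_points hz
  haveI := finite_group hz
  haveI := Fintype.ofFinite G
  haveI := Fintype.ofFinite Ω
  haveI := normal_transitive hz N hne
  obtain ⟨n₁, hn₁, hn₁1, c₀, d₀, hcd₀, hc₀, hd₀⟩ := exists_two_fixed hz hreg N hne
  set S := N ⊓ stabilizer G x with hS
  set T : Ω → Finset G := fun c => Finset.univ.filter fun g : G => g ∈ S ∧ g • c = c ∧ g ≠ 1 with hT
  have hTne : ∀ c, c ≠ x → (T c).Nonempty := by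
    intro c hc
    obtain ⟨g, hg1, hg2⟩ := hz.trans c₀ d₀ x c hcd₀ (Ne.symm hc)
    refine ⟨g * n₁ * g⁻¹, ?_⟩
    simp only [hT, Finset.mem_filter, Finset.mem_univ, true_and, hS, Subgroup.mem_inf, mem_stabilizer_iff]
    refine ⟨⟨hN.conj_mem _ hn₁ g, ?_⟩, ?_, fun e => hn₁1 (conj_eq_one_iff.mp e)⟩
    · rw [← hg1, mul_smul, mul_smul, inv_smul_smul, hc₀]
    · rw [← hg2, mul_smul, mul_smul, inv_smul_smul, hd₀]
  -- orbits of the point stabilizer in `N`
  have horb : ∀ c, c ≠ x → (T c).card + 1 = Nat.card (stabilizer S c) := by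
    intro c hc
    rw [Nat.card_eq_fintype_card, ← Fintype.card_coe]
    have e : (Finset.univ.filter fun g : G => g ∈ S ∧ g • c = c) = insert 1 (T c) := by
      ext g
      simp only [hT, Finset.mem_filter, Finset.mem_univ, true_and, Finset.mem_insert]
      by_cases h : g = 1
      · simp [h, S.one_mem]
      · simp [h]
    calc Fintype.card (T c) + 1 = (Finset.univ.filter fun g : G => g ∈ S ∧ g • c = c).card := by
          rw [e, Finset.card_insert_of_notMem (by simp [hT]), Fintype.card_coe]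
      _ = Fintype.card (stabilizer S c) := by
          rw [← Fintype.card_subtype]
          exact Fintype.card_congr
            { toFun := fun g => ⟨⟨g.1, g.2.1⟩, g.2.2⟩
              invFun := fun g => ⟨g.1.1, g.1.2, g.2⟩
              left_inv := fun g => rfl
              right_inv := fun g => rfl }
  have heq : ∀ c d, c ≠ x → d ≠ x → (T c).card = (T d).card := by
    intro c d hc hd
    obtain ⟨g, hg1, hg2⟩ := hz.trans x c x d (Ne.symm hc) (Ne.symm hd)
    have key : ∀ (g : G) (c d : Ω), g • x = x → g • c = d → ∀ h ∈ T c, g * h * g⁻¹ ∈ T d := by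
      intro g c d hg1 hg2 h hh
      simp only [hT, Finset.mem_filter, Finset.mem_univ, true_and, hS, Subgroup.mem_inf,
        mem_stabilizer_iff] at hh ⊢
      refine ⟨⟨hN.conj_mem _ hh.1.1 g, ?_⟩, ?_, fun e => hh.2.2 (conj_eq_one_iff.mp e)⟩
      · rw [mul_smul, mul_smul, inv_smul_eq_iff.mpr hg1.symm, hh.1.2, hg1]
      · rw [mul_smul, mul_smul, inv_smul_eq_iff.mpr hg2.symm, hh.2.1, hg2]
    refine le_antisymm
      (Finset.card_le_card_of_injOn (fun h => g * h * g⁻¹) (fun h hh => key g c d hg1 hg2 h hh)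
        fun h _ h' _ e => mul_left_cancel (mul_right_cancel e))
      (Finset.card_le_card_of_injOn (fun h => g⁻¹ * h * g⁻¹⁻¹)
        (fun h hh => key g⁻¹ d c (inv_smul_eq_iff.mpr hg1.symm) (inv_smul_eq_iff.mpr hg2.symm) h hh)
        fun h _ h' _ e => mul_left_cancel (mul_right_cancel e))
  have hdisj : ((Finset.univ.erase x : Finset Ω) : Set Ω).PairwiseDisjoint T := by
    intro c hc d hd hcd
    rw [Function.onFun, Finset.disjoint_left]
    intro g hg hg'
    simp only [hT, Finset.mem_filter, Finset.mem_univ, true_and] at hg hg'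
    exact hg.2.2 (hz.free g x c d (Finset.ne_of_mem_erase hc).symm hcd (Finset.ne_of_mem_erase hd).symm
      hg.1.2 hg.2.1 hg'.2.1)
  have hstab : ∀ b, b ≠ x → ∀ d, d ≠ x → ∃ s ∈ S, s • b = d := by
    intro b hb d hd
    by_contra hno
    push Not at hno
    have hsize : ∀ e, e ≠ x → Nat.card (orbit S e) * ((T b).card + 1) = Nat.card S := fun e he => by
      rw [heq b e hb he, horb e he, ← Nat.card_prod]
      exact Nat.card_congr (orbitProdStabilizerEquivGroup S e)
    have hsum : (T b).card * (Fintype.card Ω - 1) + 1 ≤ Nat.card S := by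
      have hu : ((Finset.univ.erase x).biUnion T).card + 1 ≤ Nat.card S := by
        rw [Nat.card_eq_fintype_card, Fintype.card_subtype, Nat.add_one_le_iff]
        refine Finset.card_lt_card ⟨fun g hg => ?_, fun h => ?_⟩
        · simp only [hT, Finset.mem_biUnion, Finset.mem_filter, Finset.mem_univ, true_and] at hg ⊢
          obtain ⟨-, -, hg, -⟩ := hg
          exact hg
        · have := h (Finset.mem_filter.mpr ⟨Finset.mem_univ _, S.one_mem⟩)
          simp [hT] at this
      rw [Finset.card_biUnion hdisj, Finset.sum_congr rfl fun c hc => heq c b (Finset.ne_of_mem_erase hc) hb,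
        Finset.sum_const, Finset.card_erase_of_mem (Finset.mem_univ x), Finset.card_univ, smul_eq_mul] at hu
      linarith [mul_comm (T b).card (Fintype.card Ω - 1)]
    have hpos : 0 < (T b).card := Finset.card_pos.mpr (hTne b hb)
    have h2 : Nat.card (orbit S b) + Nat.card (orbit S d) ≤ Fintype.card Ω - 1 := by
      rw [Nat.card_eq_card_toFinset, Nat.card_eq_card_toFinset, ← Finset.card_union_of_disjoint,
        ← Finset.card_univ, ← Finset.card_erase_of_mem (Finset.mem_univ x)]
      · refine Finset.card_le_card fun e he => Finset.mem_erase.mpr ⟨?_, Finset.mem_univ _⟩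
        simp only [Finset.mem_union, Set.mem_toFinset] at he
        rcases he with ⟨s, rfl⟩ | ⟨s, rfl⟩ <;> intro e
        · exact hb ((smul_left_cancel_iff (s : G)).mp (e.trans (show (s : G) • x = x from s.2.2).symm))
        · exact hd ((smul_left_cancel_iff (s : G)).mp (e.trans (show (s : G) • x = x from s.2.2).symm))
      · rw [Finset.disjoint_left]
        intro e he he'
        simp only [Set.mem_toFinset] at he he'
        obtain ⟨s, hs⟩ := he
        obtain ⟨s', hs'⟩ := he'
        refine hno (s'⁻¹ * s : S) (s'⁻¹ * s : S).2 ?_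
        show ((s'⁻¹ * s : S) : G) • b = d
        rw [Subgroup.coe_mul, Subgroup.coe_inv, mul_smul, inv_smul_eq_iff]
        exact hs.trans hs'.symm
    nlinarith [hsize b hb, hsize d hd, hsum, h2, hpos]
  obtain ⟨n, hn⟩ := exists_smul_eq N x' x
  have hn' : (n : G) • x' = x := hn
  obtain ⟨s, hs, hsy⟩ := hstab y hxy.symm ((n : G) • y')
    (fun e => hxy' ((smul_left_cancel_iff (n : G)).mp (hn'.trans e.symm)))
  refine ⟨(n : G)⁻¹ * s, N.mul_mem (N.inv_mem n.2) hs.1, ?_, ?_⟩
  · rw [mul_smul, show s • x = x from hs.2, ← hn', inv_smul_smul]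
  · rw [mul_smul, hsy, inv_smul_smul]

/-- No normal subgroup of a nontrivial normal subgroup is regular. -/
theorem normal_no_regular (N : Subgroup G) [hN : N.Normal] (hne : N ≠ ⊥) (M : Subgroup N) [hM : M.Normal]
    [hMt : IsPretransitive M Ω] : ∃ a : Ω, stabilizer M a ≠ ⊥ := by
  classical
  haveI := finite_points hz
  haveI := finite_group hz
  by_contra hno
  push Not at hno
  have h2N : ∀ x y x' y' : Ω, x ≠ y → x' ≠ y' → ∃ n : N, n • x = x' ∧ n • y = y' :=
    fun x y x' y' h h' => by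
      obtain ⟨n, hn, h1, h2⟩ := normal_two_transitive hz hreg N hne h h'
      exact ⟨⟨n, hn⟩, h1, h2⟩
  obtain ⟨a, -⟩ : ∃ a : Ω, True := by
    have := hz.three
    haveI : Nonempty Ω := (Nat.card_pos_iff.mp (by omega)).1
    exact ⟨Classical.arbitrary Ω, trivial⟩
  have hfree : ∀ c : Ω, ∀ r ∈ M, r • c = c → r = 1 := fun c r hr h => by
    have : (⟨r, hr⟩ : M) ∈ stabilizer M c := h
    rw [hno c, Subgroup.mem_bot] at this
    exact congrArg Subtype.val this
  have hMc := regular_comm h2N M (hfree a)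
  -- the image in `G` is normal, being unique
  have hnorm : (M.map N.subtype).Normal := by
    refine ⟨?_⟩
    rintro _ ⟨m, hm, rfl⟩ g
    refine ⟨MulAut.conjNormal g m, ?_, rfl⟩
    set M' : Subgroup N := M.map (MulAut.conjNormal g).toMonoidHom with hM'
    haveI hM'n : M'.Normal := hM.map _ (MulAut.conjNormal g).surjective
    have hfree' : ∀ c : Ω, ∀ r ∈ M', r • c = c → r = 1 := by
      rintro c _ ⟨r, hr, rfl⟩ hc
      have : r • g⁻¹ • c = g⁻¹ • c := by
        have hc' : (g * (r : G) * g⁻¹) • c = c := hc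
        show (r : G) • g⁻¹ • c = g⁻¹ • c
        rw [mul_smul, mul_smul] at hc'
        exact eq_inv_smul_iff.mpr hc'
      rw [hfree _ r hr this, map_one]
    suffices M' = M by rw [← this]; exact ⟨m, hm, rfl⟩
    by_cases hint : M ⊓ M' = ⊥
    · exfalso
      have hcm : ∀ u ∈ M', ∀ w ∈ M, u * w = w * u := fun u hu w hw =>
        (Subgroup.commute_of_normal_of_disjoint M' M hM'n hM
          (disjoint_iff.mpr (by rwa [inf_comm])) u w hu hw).eq
      obtain ⟨b, hb, -⟩ := exists_third hz a a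
      obtain ⟨⟨w, hw⟩, hwb⟩ := exists_smul_eq M a b
      have hw1 : w ≠ 1 := fun e => hb (by
        subst e
        exact hwb.symm.trans (one_smul N a))
      have hle : M' ≤ M := by
        intro u hu
        obtain ⟨⟨r, hr⟩, hra⟩ := exists_smul_eq M a (u • a)
        replace hra : r • a = u • a := hra
        suffices r⁻¹ * u = 1 by rw [inv_mul_eq_one] at this; exact this ▸ hr
        refine Subtype.ext (eq_one_of_fixes_all hz fun c => ?_)
        obtain ⟨⟨s, hs⟩, rfl⟩ := exists_smul_eq M a c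
        show (r⁻¹ * u) • s • a = s • a
        rw [smul_smul, show r⁻¹ * u * s = s * (r⁻¹ * u) by
          rw [mul_assoc, hcm u hu s hs, ← mul_assoc, hMc _ (M.inv_mem hr) s hs, mul_assoc], mul_smul,
          mul_smul, ← hra, inv_smul_smul]
      have hM'bot : M' = ⊥ := by rw [← inf_eq_right.mpr hle, hint]
      have hM'bot' := (Subgroup.map_eq_bot_iff_of_injective M (f := (MulAut.conjNormal g).toMonoidHom)
        (MulAut.conjNormal g).injective).mp hM'bot
      exact hw1 ((Subgroup.eq_bot_iff_forall _).mp hM'bot' w hw)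
    · -- a common nontrivial normal part is already transitive
      set I := M ⊓ M' with hI
      obtain ⟨⟨i, hi⟩, hi1⟩ : ∃ i : I, i ≠ 1 := by
        haveI := I.nontrivial_iff_ne_bot.mpr hint
        exact exists_ne 1
      have hIt : ∀ c : Ω, ∃ r ∈ I, r • a = c := by
        intro c
        by_cases hc : c = a
        · exact ⟨1, I.one_mem, by rw [one_smul, hc]⟩
        obtain ⟨n, hn1, hn2⟩ := h2N a (i • a) a c
          (fun e => hi1 (Subtype.ext (hfree a i hi.1 e.symm))) (Ne.symm hc)
        exact ⟨n * i * n⁻¹, ⟨hM.conj_mem i hi.1 n, hM'n.conj_mem i hi.2 n⟩, by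
          rw [mul_smul, mul_smul, inv_smul_eq_iff.mpr hn1.symm, hn2]⟩
      refine le_antisymm (fun u hu => ?_) (fun u hu => ?_)
      · obtain ⟨r, hr, hra⟩ := hIt (u • a)
        have := hfree' a (r⁻¹ * u) (M'.mul_mem (M'.inv_mem hr.2) hu) (by rw [mul_smul, ← hra, inv_smul_smul])
        rw [inv_mul_eq_one] at this
        exact this ▸ hr.1
      · obtain ⟨r, hr, hra⟩ := hIt (u • a)
        have := hfree a (r⁻¹ * u) (M.mul_mem (M.inv_mem hr.1) hu) (by rw [mul_smul, ← hra, inv_smul_smul])
        rw [inv_mul_eq_one] at this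
        exact this ▸ hr.2
  obtain ⟨c, hc⟩ := hreg _ hnorm ⟨fun x y => by
    obtain ⟨⟨r, hr⟩, hrx⟩ := exists_smul_eq M x y
    exact ⟨⟨(r : G), r, hr, rfl⟩, hrx⟩⟩
  apply hc
  rw [Subgroup.eq_bot_iff_forall]
  rintro ⟨_, r, hr, rfl⟩ hrc
  obtain rfl := hfree c r hr hrc
  rfl

end CfsgLib.Zassenhaus
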