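import Cfsg.Agent.Lib.Zassenhaus.FrobeniusKernel
import Cfsg.Agent.Lib.FrobCompl.Noncyclic

/-!
# Two-point stabilizers of odd order in simple Zassenhaus groups

Transfer shows that the swapping elements invert the two-point stabilizer, which is then cyclic.
-/

set_option autoImplicit false
set_option linter.style.haveILetI false
set_option linter.unusedSectionVars false

open MulAction

namespace CfsgLib.Zassenhaus

variable {G Ω : Type*} [Group G] [MulAction G Ω] [Finite G] (hz : ZG G Ω)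
include hz

/-- A prime dividing the order of a two-point stabilizer divides neither `n` nor `n - 1`, if odd. -/
theorem modEq_two {a b : Ω} (hab : a ≠ b) {p : ℕ} [Fact p.Prime] {P : Subgroup G} (hP : IsPGroup p P)
    (hPH : P ≤ D2 G a b) (hne : P ≠ ⊥) : Nat.card Ω ≡ 2 [MOD p] := by
  classical
  haveI := finite_points hz
  haveI := Fintype.ofFinite Ω
  obtain ⟨⟨x, hx⟩, hx1⟩ : ∃ x : P, x ≠ 1 := by
    haveI := P.nontrivial_iff_ne_bot.mpr hne
    exact exists_ne 1
  have h : fixedPoints P Ω = {a, b} := by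
    ext c
    constructor
    · intro hc
      exact fixed_of_mem hz hab (hPH hx) (fun e => hx1 (Subtype.ext e)) (hc ⟨x, hx⟩)
    · rintro (rfl | rfl) g
      exacts [(hPH g.2).1, (hPH g.2).2]
  have h2 := hP.card_modEq_card_fixedPoints Ω
  rwa [h, Nat.card_coe_set_eq, Set.ncard_pair hab] at h2

/-- A Sylow `p`-subgroup of an odd two-point stabilizer is a Sylow subgroup of the group. -/
theorem sylow_of_le {a b : Ω} (hab : a ≠ b) {p : ℕ} [hp : Fact p.Prime] (hp2 : p ≠ 2)
    (P : Sylow p (D2 G a b)) (hne : (P : Subgroup (D2 G a b)) ≠ ⊥) :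
    ∃ Q : Sylow p G, (Q : Subgroup G) = (P : Subgroup (D2 G a b)).map (D2 G a b).subtype := by
  set R := (P : Subgroup (D2 G a b)).map (D2 G a b).subtype with hR
  have hRp : IsPGroup p R := P.2.map _
  have hRH : R ≤ D2 G a b := Subgroup.map_subtype_le _
  have hmod := modEq_two hz hab hRp hRH (by
    rw [hR, Ne, Subgroup.map_eq_bot_iff_of_injective _ (Subgroup.subtype_injective _)]; exact hne)
  have hn3 := hz.three
  have h1 : ¬ p ∣ Nat.card Ω := fun h => hp2 ((Nat.prime_dvd_prime_iff_eq hp.out Nat.prime_two).mp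
    (Nat.modEq_zero_iff_dvd.mp (hmod.symm.trans h.modEq_zero_nat)))
  have h2 : ¬ p ∣ Nat.card Ω - 1 := fun h => by
    have h' : Nat.card Ω ≡ 1 [MOD p] :=
      ((Nat.modEq_iff_dvd' (by omega)).mpr h).symm
    have := (Nat.modEq_iff_dvd' (by norm_num : (1 : ℕ) ≤ 2)).mp (h'.symm.trans hmod)
    exact hp.out.one_lt.ne' (Nat.dvd_one.mp this)
  have hidx : ¬ p ∣ R.index := by
    have e : Nat.card G = Nat.card R * ((Nat.card Ω * (Nat.card Ω - 1)) * (P : Subgroup (D2 G a b)).index) := by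
      rw [card_group hz hab, ← (P : Subgroup (D2 G a b)).card_mul_index, hR,
        Subgroup.card_map_of_injective (Subgroup.subtype_injective _)]
      ring
    rw [← R.card_mul_index] at e
    rw [Nat.eq_of_mul_eq_mul_left Nat.card_pos e]
    exact fun h => (hp.out.dvd_mul.mp h).elim (fun h => (hp.out.dvd_mul.mp h).elim h1 h2) P.not_dvd_index
  exact ⟨hRp.toSylow hidx, rfl⟩

omit hz in
/-- No normal subgroup has the order of a Sylow subgroup of `D2` as index. -/
def NoComplement (G : Type*) [Group G] (H : Subgroup G) : Prop :=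
  ∀ q : ℕ, q.Prime → q ∣ Nat.card H →
    ¬ ∃ N : Subgroup G, N.Normal ∧ N.index = q ^ (Nat.card G).factorization q

/-- An element swapping the two points and inducing inversion on a Sylow subgroup. -/
theorem exists_inverting_sylow {a b : Ω} (hab : a ≠ b) {p : ℕ} [hp : Fact p.Prime] (hp2 : p ≠ 2)
    (P : Sylow p (D2 G a b)) (hne : (P : Subgroup (D2 G a b)) ≠ ⊥) [IsCyclic (P : Subgroup (D2 G a b))]
    (hnc : NoComplement G (D2 G a b)) (hcent : ∀ h : D2 G a b, h ∈ Subgroup.normalizer ((P : Subgroup (D2 G a b)) : Set (D2 G a b)) →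
      ∀ x ∈ (P : Subgroup (D2 G a b)), h * x = x * h) :
    ∃ g : G, g • a = b ∧ g • b = a ∧ ∀ x ∈ (P : Subgroup (D2 G a b)), g * (x : G) * g⁻¹ = (x : G)⁻¹ := by
  obtain ⟨Q, hQ⟩ := sylow_of_le hz hab hp2 P hne
  haveI : IsCyclic Q := by
    show IsCyclic (Q : Subgroup G)
    rw [hQ]
    exact isCyclic_of_surjective _
      ((P : Subgroup (D2 G a b)).equivMapOfInjective _ (Subgroup.subtype_injective _)).surjective
  have hnot : ¬ Subgroup.normalizer ((Q : Subgroup G) : Set G) ≤ Subgroup.centralizer ((Q : Subgroup G) : Set G) := by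
    intro hle
    have hc := MonoidHom.ker_transferSylow_isComplement' Q hle
    refine hnc p hp.out ?_ ⟨_, MonoidHom.normal_ker (MonoidHom.transferSylow Q hle), ?_⟩
    · obtain ⟨m, hm⟩ := P.2.exists_card_eq
      refine dvd_trans ?_ (P : Subgroup (D2 G a b)).card_subgroup_dvd_card
      rw [hm]
      refine dvd_pow_self p fun h0 => hne ?_
      rw [h0, pow_zero] at hm
      exact Subgroup.card_eq_one.mp hm
    · rw [hc.symm.index_eq_card]
      exact Sylow.card_eq_multiplicity Q
  obtain ⟨g, hgN, hgC⟩ := SetLike.not_le_iff_exists.mp hnot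
  -- `g` permutes the two fixed points
  obtain ⟨⟨x, hxP⟩, hx1⟩ : ∃ x : (P : Subgroup (D2 G a b)), x ≠ 1 := by
    haveI := (P : Subgroup (D2 G a b)).nontrivial_iff_ne_bot.mpr hne
    exact exists_ne 1
  have hxG : (x : G) ≠ 1 := fun e => hx1 (Subtype.ext (Subtype.ext e))
  have hmap : ∀ c, (c = a ∨ c = b) → g • c = a ∨ g • c = b := by
    intro c hc
    have hxQ : g⁻¹ * (x : G) * g ∈ (Q : Subgroup G) := by
      have := (Subgroup.mem_normalizer_iff.mp (Subgroup.inv_mem _ hgN) (x : G)).mp (by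
        rw [hQ]; exact ⟨x, hxP, rfl⟩)
      simpa using this
    rw [hQ] at hxQ
    obtain ⟨y, -, hy⟩ := hxQ
    refine fixed_of_mem hz hab x.2 hxG ?_
    have : (y : G) • c = c := by rcases hc with rfl | rfl <;> [exact y.2.1; exact y.2.2]
    rw [show (y : G) = g⁻¹ * (x : G) * g from hy, mul_smul, mul_smul, inv_smul_eq_iff] at this
    exact this
  have hswap : g • a = b ∧ g • b = a := by
    rcases hmap a (Or.inl rfl) with h | h
    · exfalso
      have hb : g • b = b := (hmap b (Or.inr rfl)).resolve_left fun h' =>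
        hab ((smul_left_cancel_iff g).mp (h.trans h'.symm))
      refine hgC ?_
      rw [Subgroup.mem_centralizer_iff]
      intro y hy
      rw [hQ] at hy
      obtain ⟨z, hz', rfl⟩ := hy
      have hgn : (⟨g, h, hb⟩ : D2 G a b) ∈ Subgroup.normalizer ((P : Subgroup (D2 G a b)) : Set _) := by
        rw [Subgroup.mem_normalizer_iff]
        intro w
        have := Subgroup.mem_normalizer_iff.mp hgN (w : G)
        rw [hQ] at this
        simp only [Subgroup.mem_map, Subgroup.coe_subtype] at this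
        constructor
        · intro hw
          obtain ⟨w', hw', e⟩ := this.mp ⟨w, hw, rfl⟩
          rwa [show w' = ⟨g, h, hb⟩ * w * (⟨g, h, hb⟩ : D2 G a b)⁻¹ from Subtype.ext e] at hw'
        · intro hw
          obtain ⟨w', hw', e⟩ := this.mpr ⟨_, hw, rfl⟩
          rwa [show w' = w from Subtype.ext e] at hw'
      exact (congrArg Subtype.val (hcent _ hgn z hz')).symm
    · refine ⟨h, (hmap b (Or.inr rfl)).resolve_right fun h' => hab ((smul_left_cancel_iff g).mp (h.trans h'.symm))⟩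
  refine ⟨g, hswap.1, hswap.2, ?_⟩
  -- conjugation by `g` is a nontrivial involutory automorphism of a cyclic group of odd order
  obtain ⟨⟨w, hwP⟩, hw⟩ := IsCyclic.exists_generator (α := (P : Subgroup (D2 G a b)))
  have hwpow : ∀ x ∈ (P : Subgroup (D2 G a b)), ∃ i : ℤ, (w : G) ^ i = (x : G) := by
    intro x hx
    obtain ⟨i, hi⟩ := Subgroup.mem_zpowers_iff.mp (hw ⟨x, hx⟩)
    exact ⟨i, by
      have := congrArg (fun y : (P : Subgroup (D2 G a b)) => ((y : D2 G a b) : G)) hi
      simpa using this⟩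
  obtain ⟨j, hj⟩ : ∃ j : ℤ, (w : G) ^ j = g * (w : G) * g⁻¹ := by
    have := (Subgroup.mem_normalizer_iff.mp hgN (w : G)).mp (by rw [hQ]; exact ⟨w, hwP, rfl⟩)
    rw [hQ] at this
    obtain ⟨y, hy, e⟩ := this
    obtain ⟨i, hi⟩ := hwpow y hy
    exact ⟨i, hi.trans e⟩
  have hg2 : g * g * (w : G) * (g * g)⁻¹ = w := by
    have hgg : g * g ∈ D2 G a b := mem_D2.mpr
      ⟨by rw [mul_smul, hswap.1, hswap.2], by rw [mul_smul, hswap.2, hswap.1]⟩
    have hn : (⟨g * g, hgg⟩ : D2 G a b) ∈ Subgroup.normalizer ((P : Subgroup (D2 G a b)) : Set _) := by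
      rw [Subgroup.mem_normalizer_iff]
      intro z
      have := Subgroup.mem_normalizer_iff.mp (Subgroup.mul_mem _ hgN hgN) (z : G)
      rw [hQ] at this
      simp only [Subgroup.mem_map, Subgroup.coe_subtype] at this
      constructor
      · intro hz'
        obtain ⟨w', hw', e⟩ := this.mp ⟨z, hz', rfl⟩
        rwa [show w' = ⟨g * g, hgg⟩ * z * (⟨g * g, hgg⟩ : D2 G a b)⁻¹ from Subtype.ext e] at hw'
      · intro hz'
        obtain ⟨w', hw', e⟩ := this.mpr ⟨_, hz', rfl⟩
        rwa [show w' = z from Subtype.ext e] at hw'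
    have := congrArg Subtype.val (hcent _ hn w hwP)
    exact mul_inv_eq_iff_eq_mul.mpr this
  have hjj : (w : G) ^ (j * j) = w := by
    rw [zpow_mul, hj, conj_zpow, hj]
    calc g * (g * (w : G) * g⁻¹) * g⁻¹ = g * g * (w : G) * (g * g)⁻¹ := by group
      _ = w := hg2
  obtain ⟨m, hm⟩ := IsPGroup.iff_orderOf.mp P.2 ⟨w, hwP⟩
  rw [← Subgroup.orderOf_coe, ← Subgroup.orderOf_coe] at hm
  have hdiv : ((p : ℤ) ^ m) ∣ (j - 1) * (j + 1) := by
    have h1 : (w : G) ^ (j * j - 1) = 1 := by rw [zpow_sub_one, hjj, mul_inv_cancel]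
    have := orderOf_dvd_iff_zpow_eq_one.mpr h1
    rw [hm] at this
    rw [show (j - 1) * (j + 1) = j * j - 1 by ring]
    exact_mod_cast this
  have hpi : Prime (p : ℤ) := Nat.prime_iff_prime_int.mp hp.out
  have hnot1 : ¬ ((p : ℤ) ^ m) ∣ j - 1 := by
    intro hd
    apply hgC
    have e1 : g * (w : G) * g⁻¹ = w := by
      rw [← hj]
      have : (w : G) ^ (j - 1) = 1 := orderOf_dvd_iff_zpow_eq_one.mp (by rw [hm]; exact_mod_cast hd)
      rwa [zpow_sub_one, mul_inv_eq_one] at this
    rw [Subgroup.mem_centralizer_iff]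
    intro y hy
    rw [hQ] at hy
    obtain ⟨z, hz', rfl⟩ := hy
    obtain ⟨i, hi⟩ := hwpow z hz'
    show (z : G) * g = g * (z : G)
    rw [← hi, ← mul_inv_eq_iff_eq_mul.mp (show g * (w : G) ^ i * g⁻¹ = (w : G) ^ i by rw [← conj_zpow, e1])]
  have hplus : ((p : ℤ) ^ m) ∣ j + 1 := by
    refine (hpi.dvd_or_dvd (?_ : (p : ℤ) ∣ (j - 1) * (j + 1))).elim (fun h => ?_) fun h => ?_
    · rcases Nat.eq_zero_or_pos m with h0 | h0
      · exact absurd (h0 ▸ (by simp : (p : ℤ) ^ 0 ∣ j - 1)) hnot1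
      · exact (dvd_pow_self _ h0.ne').trans hdiv
    · have hnp : ¬ (p : ℤ) ∣ j + 1 := fun h' => by
        have h2 := dvd_sub h' h
        rw [show j + 1 - (j - 1) = 2 by ring] at h2
        exact hp2 ((Nat.prime_dvd_prime_iff_eq hp.out Nat.prime_two).mp (by exact_mod_cast h2))
      exact absurd (hpi.pow_dvd_of_dvd_mul_right m hnp hdiv) hnot1
    · have hnp : ¬ (p : ℤ) ∣ j - 1 := fun h' => by
        have h2 := dvd_sub h h'
        rw [show j + 1 - (j - 1) = 2 by ring] at h2
        exact hp2 ((Nat.prime_dvd_prime_iff_eq hp.out Nat.prime_two).mp (by exact_mod_cast h2))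
      exact hpi.pow_dvd_of_dvd_mul_left m hnp hdiv
  have e1 : g * (w : G) * g⁻¹ = (w : G)⁻¹ := by
    rw [← hj]
    have : (w : G) ^ (j + 1) = 1 := orderOf_dvd_iff_zpow_eq_one.mp (by rw [hm]; exact_mod_cast hplus)
    rw [zpow_add_one] at this
    exact eq_inv_of_mul_eq_one_left this
  intro z hz'
  obtain ⟨i, hi⟩ := hwpow z hz'
  rw [← hi, ← conj_zpow, e1, inv_zpow]

/-- Two-point stabilizers of odd order are cyclic and inverted by the involutions swapping the points. -/
theorem odd_stab' {a b : Ω} (hab : a ≠ b) (hne : D2 G a b ≠ ⊥) (hodd : Odd (Nat.card (D2 G a b)))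
    (hnc : NoComplement G (D2 G a b)) :
    IsCyclic (D2 G a b) ∧ ∀ v : G, v • a = b → v • b = a → ∀ h ∈ D2 G a b, v * h * v⁻¹ = h⁻¹ := by
  classical
  obtain ⟨U, hU⟩ := exists_regKernel hz hab hne
  haveI := hU.nil
  have hS := hU.setting hz hab.symm
  -- the Sylow subgroups are cyclic
  set V := (Subgroup.center U).map U.subtype with hV
  haveI : IsMulCommutative V := ⟨⟨fun x y => by
    obtain ⟨_, a', ha', rfl⟩ := x
    obtain ⟨_, b', hb', rfl⟩ := y
    exact Subtype.ext (congrArg (Subtype.val : U → G) (Subgroup.mem_center_iff.mp hb' a'))⟩⟩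
  have hVne : V ≠ ⊥ := by
    haveI := U.nontrivial_iff_ne_bot.mpr hS.ne_bot
    rw [hV, Ne, Subgroup.map_eq_bot_iff_of_injective _ U.subtype_injective]
    exact Group.IsNilpotent.center_ne_bot U
  have hnormV : D2 G a b ≤ Subgroup.normalizer (V : Set G) := by
    have key : ∀ h ∈ D2 G a b, ∀ x ∈ V, h * x * h⁻¹ ∈ V := by
      rintro h hh _ ⟨z, hzc, rfl⟩
      refine ⟨⟨h * z * h⁻¹, hS.norm h hh z z.2⟩, Subgroup.mem_center_iff.mpr fun u => Subtype.ext ?_, rfl⟩
      have := congrArg Subtype.val (Subgroup.mem_center_iff.mp hzc ⟨h⁻¹ * u * h, by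
        simpa using hS.norm h⁻¹ (inv_mem hh) u u.2⟩)
      show (u : G) * (h * z * h⁻¹) = h * z * h⁻¹ * u
      calc (u : G) * (h * z * h⁻¹) = h * ((h⁻¹ * u * h) * z) * h⁻¹ := by group
        _ = h * (z * (h⁻¹ * u * h)) * h⁻¹ := by rw [show (h⁻¹ * (u : G) * h) * z = z * (h⁻¹ * u * h) from this]
        _ = _ := by group
    intro h hh
    rw [Subgroup.mem_normalizer_iff]
    intro x
    refine ⟨key h hh x, fun hx => ?_⟩
    have := key h⁻¹ (inv_mem hh) _ hx
    simpa [mul_assoc] using this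
  have hfpf : ∀ e ∈ D2 G a b, e ≠ 1 → V ⊓ Subgroup.centralizer {e} = ⊥ := by
    intro e he he1
    rw [Subgroup.eq_bot_iff_forall]
    rintro x ⟨⟨z, -, rfl⟩, hx⟩
    by_contra hx1
    exact he1 (hS.free e he z z.2 hx1 (mul_inv_eq_iff_eq_mul.mpr
      (Subgroup.mem_centralizer_singleton_iff.mp hx).symm))
  haveI : IsZGroup (D2 G a b) := ⟨fun p hp P => by
    haveI := Fact.mk hp
    by_cases h2 : p = 2
    · haveI : Subsingleton P := by
        refine Finite.card_le_one_iff_subsingleton.mp ?_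
        obtain ⟨m, hm⟩ := P.2.exists_card_eq
        subst h2
        rcases Nat.eq_zero_or_pos m with h | h
        · rw [hm, h]; norm_num
        · exfalso
          have hd : 2 ∣ Nat.card (D2 G a b) :=
            (hm ▸ dvd_pow_self 2 h.ne').trans (P : Subgroup (D2 G a b)).card_subgroup_dvd_card
          exact Nat.not_even_iff_odd.mpr hodd (even_iff_two_dvd.mpr hd)
      infer_instance
    · have hc := (CfsgLib.FrobCompl.sylow_structure hVne hnormV hfpf (P.2.map (D2 G a b).subtype)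
        (Subgroup.map_subtype_le _)).1 h2
      exact isCyclic_of_surjective _
        ((P : Subgroup (D2 G a b)).equivMapOfInjective _ (Subgroup.subtype_injective _)).symm.surjective⟩
  set A := commutator (D2 G a b) with hA
  have hcop := IsZGroup.coprime_commutator_index (D2 G a b)
  have hconjmem : ∀ v : G, v • a = b → v • b = a → ∀ x ∈ D2 G a b, v * x * v⁻¹ ∈ D2 G a b := by
    intro v hva hvb x hx
    refine mem_D2.mpr ⟨?_, ?_⟩
    · rw [mul_smul, mul_smul, inv_smul_eq_iff.mpr hvb.symm, show x • b = b from hx.2, hvb]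
    · rw [mul_smul, mul_smul, inv_smul_eq_iff.mpr hva.symm, show x • a = a from hx.1, hva]
  have hAinv : ∀ v : G, ∀ hva : v • a = b, ∀ hvb : v • b = a, ∀ x : D2 G a b, x ∈ A →
      (⟨v * x * v⁻¹, hconjmem v hva hvb x x.2⟩ : D2 G a b) ∈ A := by
    intro v hva hvb x hx
    let c : D2 G a b →* D2 G a b :=
      { toFun := fun x => ⟨v * x * v⁻¹, hconjmem v hva hvb x x.2⟩
        map_one' := Subtype.ext (by simp)
        map_mul' := fun x y => Subtype.ext (by simp [mul_assoc]) }
    have := Subgroup.mem_map_of_mem c hx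
    rw [hA, map_commutator_eq] at this
    exact Subgroup.commutator_mono le_top le_top this
  have hnormal : A.Normal := by rw [hA]; infer_instance
  -- modulo the derived subgroup, swapping elements invert
  have hmod : ∀ v : G, ∀ hva : v • a = b, ∀ hvb : v • b = a, ∀ x : D2 G a b,
      (⟨v * x * v⁻¹, hconjmem v hva hvb x x.2⟩ : D2 G a b) * x ∈ A := by
    intro v hva hvb
    let q := QuotientGroup.mk' A
    have hqc : ∀ x y : D2 G a b, q x * q y = q y * q x := fun x y => by
      rw [← map_mul, ← map_mul, QuotientGroup.mk'_eq_mk']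
      exact ⟨(x * y)⁻¹ * (y * x), by
        rw [show (x * y)⁻¹ * (y * x) = y⁻¹ * x⁻¹ * y⁻¹⁻¹ * x⁻¹⁻¹ by group]
        exact Subgroup.commutator_mem_commutator (Subgroup.mem_top _) (Subgroup.mem_top _), by group⟩
    have mul_comm' : ∀ r s : D2 G a b ⧸ A, r * s = s * r := fun r s => by
      obtain ⟨r, rfl⟩ := QuotientGroup.mk_surjective r
      obtain ⟨s, rfl⟩ := QuotientGroup.mk_surjective s
      exact hqc r s
    let S : Subgroup (D2 G a b) :=
      { carrier := {x | q ⟨v * x * v⁻¹, hconjmem v hva hvb x x.2⟩ * q x = 1}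
        one_mem' := by
          show q ⟨v * ((1 : D2 G a b) : G) * v⁻¹, _⟩ * q 1 = 1
          rw [map_one, mul_one]
          exact (congrArg q (Subtype.ext (by simp) : _ = (1 : D2 G a b))).trans (map_one q)
        mul_mem' := fun {x y} hx hy => by
          show q ⟨v * ((x * y : D2 G a b) : G) * v⁻¹, _⟩ * q (x * y) = 1
          have e : (⟨v * ((x * y : D2 G a b) : G) * v⁻¹, hconjmem v hva hvb _ (x * y).2⟩ : D2 G a b) =
              ⟨v * x * v⁻¹, hconjmem v hva hvb x x.2⟩ * ⟨v * y * v⁻¹, hconjmem v hva hvb y y.2⟩ :=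
            Subtype.ext (by simp [mul_assoc])
          rw [e, map_mul, map_mul, mul_assoc (q _), ← mul_assoc (q ⟨v * y * v⁻¹, hconjmem v hva hvb y y.2⟩),
            mul_comm' (q ⟨v * y * v⁻¹, hconjmem v hva hvb y y.2⟩) (q x), mul_assoc (q x),
            show q ⟨v * y * v⁻¹, hconjmem v hva hvb y y.2⟩ * q y = 1 from hy, mul_one]
          exact hx
        inv_mem' := fun {x} hx => by
          show q ⟨v * ((x⁻¹ : D2 G a b) : G) * v⁻¹, _⟩ * q x⁻¹ = 1
          have e : (⟨v * ((x⁻¹ : D2 G a b) : G) * v⁻¹, hconjmem v hva hvb _ x⁻¹.2⟩ : D2 G a b) =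
              (⟨v * x * v⁻¹, hconjmem v hva hvb x x.2⟩ : D2 G a b)⁻¹ := Subtype.ext (by simp [mul_assoc])
          rw [e, map_inv, map_inv, ← mul_inv_rev, inv_eq_one, mul_comm']
          exact hx }
    have hAS : A ≤ S := fun x hx => by
      show q _ * q x = 1
      rw [show q ⟨v * x * v⁻¹, hconjmem v hva hvb x x.2⟩ = 1 from (QuotientGroup.eq_one_iff _).mpr (hAinv v hva hvb x hx),
        show q x = 1 from (QuotientGroup.eq_one_iff _).mpr hx, mul_one]
    have htop : S = ⊤ := by
      refine Subgroup.eq_top_of_card_eq _ (Nat.dvd_antisymm S.card_subgroup_dvd_card ?_)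
      rw [Nat.dvd_iff_prime_pow_dvd_dvd]
      intro p i hp hi
      rcases Nat.eq_zero_or_pos i with rfl | hi0
      · simp
      haveI := Fact.mk hp
      obtain ⟨P⟩ : Nonempty (Sylow p (D2 G a b)) := inferInstance
      suffices hPS : (P : Subgroup (D2 G a b)) ≤ S by
        refine ((Nat.Prime.pow_dvd_iff_le_factorization hp Nat.card_pos.ne').mp hi |> fun h => ?_)
        refine (pow_dvd_pow p h).trans ?_
        rw [← P.card_eq_multiplicity]
        exact Subgroup.card_dvd_of_le hPS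
      by_cases hpA : p ∣ Nat.card A
      · -- the Sylow subgroup lies in the derived subgroup
        refine le_trans ?_ hAS
        intro x hx
        rw [← QuotientGroup.eq_one_iff]
        have h1 : orderOf (q x) ∣ A.index := by rw [Subgroup.index]; exact orderOf_dvd_natCard _
        obtain ⟨m, hm⟩ := IsPGroup.iff_orderOf.mp P.2 ⟨x, hx⟩
        rw [← Subgroup.orderOf_coe] at hm
        have h2 : orderOf (q x) ∣ p ^ m := hm ▸ orderOf_map_dvd q x
        exact orderOf_eq_one_iff.mp (Nat.eq_one_of_dvd_coprimes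
          (Nat.Coprime.pow_left m (hcop.coprime_dvd_left hpA)) h2 h1)
      · have hne' : (P : Subgroup (D2 G a b)) ≠ ⊥ := P.ne_bot_of_dvd_card ((dvd_pow_self p hi0.ne').trans hi)
        have hp2 : p ≠ 2 := fun h => Nat.not_even_iff_odd.mpr hodd
          (even_iff_two_dvd.mpr (h ▸ (dvd_pow_self p hi0.ne').trans hi))
        obtain ⟨g, hga, hgb, hg⟩ := exists_inverting_sylow hz hab hp2 P hne' hnc (by
          intro h hh x hx
          have h1 : h * x * h⁻¹ * x⁻¹ ∈ (P : Subgroup (D2 G a b)) :=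
            Subgroup.mul_mem _ ((Subgroup.mem_normalizer_iff.mp hh x).mp hx) (Subgroup.inv_mem _ hx)
          have h2 : h * x * h⁻¹ * x⁻¹ ∈ A :=
            Subgroup.commutator_mem_commutator (Subgroup.mem_top h) (Subgroup.mem_top x)
          obtain ⟨m, hm⟩ := P.2.exists_card_eq
          have h3 : orderOf (h * x * h⁻¹ * x⁻¹) = 1 := Nat.eq_one_of_dvd_coprimes
            (Nat.Coprime.pow_left m (hp.coprime_iff_not_dvd.mpr hpA))
            (hm ▸ Subgroup.orderOf_dvd_natCard _ h1) (Subgroup.orderOf_dvd_natCard _ h2)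
          rw [orderOf_eq_one_iff, mul_inv_eq_one, mul_inv_eq_iff_eq_mul] at h3
          exact h3)
        intro x hx
        show q _ * q x = 1
        have hvg : v * g⁻¹ ∈ D2 G a b := mem_D2.mpr
          ⟨by rw [mul_smul, inv_smul_eq_iff.mpr hgb.symm, hvb],
           by rw [mul_smul, inv_smul_eq_iff.mpr hga.symm, hva]⟩
        have e : (⟨v * x * v⁻¹, hconjmem v hva hvb x x.2⟩ : D2 G a b) =
            ⟨v * g⁻¹, hvg⟩ * x⁻¹ * (⟨v * g⁻¹, hvg⟩ : D2 G a b)⁻¹ := Subtype.ext (by
          show v * (x : G) * v⁻¹ = v * g⁻¹ * (x : G)⁻¹ * (v * g⁻¹)⁻¹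
          rw [← hg x hx]; group)
        rw [e, map_mul, map_mul, map_inv, map_inv, mul_comm' (q _) ((q x)⁻¹), mul_inv_cancel_right, inv_mul_cancel]
    intro x
    have : x ∈ S := htop ▸ Subgroup.mem_top x
    rw [← QuotientGroup.eq_one_iff]
    show q _ = 1
    rw [map_mul]
    exact this
  -- hence the derived subgroup is central
  obtain ⟨v₀, hva₀, hvb₀⟩ := exists_swapping hz hab
  haveI : IsCyclic A := IsZGroup.isCyclic_commutator (D2 G a b)
  have hAc : ∀ r s : A, r * s = s * r := fun r s => (IsCyclic.commGroup (α := A)).mul_comm r s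
  have hcentral : A ≤ Subgroup.center (D2 G a b) := by
    intro r hr
    rw [Subgroup.mem_center_iff]
    intro x
    obtain ⟨⟨z, hzA⟩, hzgen⟩ := IsCyclic.exists_generator (α := A)
    have hpow : ∀ y : D2 G a b, y ∈ A → ∃ i : ℤ, (z : D2 G a b) ^ i = y := fun y hy => by
      obtain ⟨i, hi⟩ := Subgroup.mem_zpowers_iff.mp (hzgen ⟨y, hy⟩)
      exact ⟨i, by simpa using congrArg Subtype.val hi⟩
    obtain ⟨e, he⟩ := hpow _ (hnormal.conj_mem z hzA x)
    obtain ⟨f, hf⟩ := hpow _ (hAinv v₀ hva₀ hvb₀ z hzA)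
    -- conjugation by `v x v⁻¹` agrees with that by `x` and by `x⁻¹`
    set x' : D2 G a b := ⟨v₀ * x * v₀⁻¹, hconjmem v₀ hva₀ hvb₀ x x.2⟩ with hx'
    set z' : D2 G a b := ⟨v₀ * z * v₀⁻¹, hconjmem v₀ hva₀ hvb₀ z z.2⟩ with hz'
    have h1 : x' * z' * x'⁻¹ = z' ^ e := by
      refine Subtype.ext ?_
      have := congrArg (fun y : D2 G a b => v₀ * (y : G) * v₀⁻¹) he
      simp only [Subgroup.coe_zpow, Subgroup.coe_mul, Subgroup.coe_inv] at this
      show v₀ * (x : G) * v₀⁻¹ * (v₀ * z * v₀⁻¹) * (v₀ * (x : G) * v₀⁻¹)⁻¹ = ((z' ^ e : D2 G a b) : G)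
      rw [Subgroup.coe_zpow, show ((z' : D2 G a b) : G) = v₀ * z * v₀⁻¹ from rfl, conj_zpow, this]
      group
    have h2 : x * z' * x⁻¹ = z' ^ e := by
      rw [← hf, ← conj_zpow, ← he, ← zpow_mul, ← zpow_mul, mul_comm]
    have hax : x' * x ∈ A := hmod v₀ hva₀ hvb₀ x
    have h3 : x' * x * z' * (x' * x)⁻¹ = z' := by
      have := congrArg Subtype.val (hAc ⟨_, hax⟩ ⟨z', hAinv v₀ hva₀ hvb₀ z hzA⟩)
      rw [mul_inv_eq_iff_eq_mul]
      exact this
    have h4 : x * z' * x⁻¹ = x'⁻¹ * z' * x' := by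
      calc x * z' * x⁻¹ = x'⁻¹ * (x' * x * z' * (x' * x)⁻¹) * x' := by group
        _ = _ := by rw [h3]
    have h5 : x * (x * z' * x⁻¹) * x⁻¹ = z' := by
      calc x * (x * z' * x⁻¹) * x⁻¹ = x * z' ^ e * x⁻¹ := by rw [h2]
        _ = (x * z' * x⁻¹) ^ e := (conj_zpow).symm
        _ = (x'⁻¹ * z' * x'⁻¹⁻¹) ^ e := by rw [inv_inv, h4]
        _ = x'⁻¹ * z' ^ e * x'⁻¹⁻¹ := conj_zpow
        _ = z' := by rw [← h1]; group
    -- so an element of odd order acts as the identity
    have hx2 : x * x * z' = z' * (x * x) := by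
      rw [← mul_inv_eq_iff_eq_mul]
      calc x * x * z' * (x * x)⁻¹ = x * (x * z' * x⁻¹) * x⁻¹ := by group
        _ = z' := h5
    have hxz : x * z' = z' * x := by
      obtain ⟨i, hi⟩ : Odd (orderOf x) := hodd.of_dvd_nat (orderOf_dvd_natCard x)
      have e2 : (x * x) ^ (i + 1) = x := by
        rw [← pow_two, ← pow_mul, show 2 * (i + 1) = orderOf x + 1 by omega, pow_succ, pow_orderOf_eq_one, one_mul]
      have := (show Commute (x * x) z' from hx2).pow_left (i + 1)
      rw [e2] at this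
      exact this.eq
    -- `z'` generates too
    obtain ⟨i, hi⟩ : ∃ i : ℤ, z' ^ i = r := by
      obtain ⟨i, hi⟩ := hpow _ (hAinv v₀⁻¹ (inv_smul_eq_iff.mpr hvb₀.symm) (inv_smul_eq_iff.mpr hva₀.symm) r hr)
      refine ⟨i, Subtype.ext ?_⟩
      have := congrArg (fun y : D2 G a b => v₀ * (y : G) * v₀⁻¹) hi
      simp only [Subgroup.coe_zpow] at this
      rw [Subgroup.coe_zpow, show ((z' : D2 G a b) : G) = v₀ * z * v₀⁻¹ from rfl, conj_zpow, this]
      group
    rw [← hi]
    exact ((show Commute x z' from hxz).zpow_right i).eq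
  haveI : Group.IsNilpotent (Abelianization (D2 G a b)) := inferInstance
  haveI : Group.IsNilpotent (D2 G a b) :=
    Subgroup.isNilpotent_of_ker_le_center (Abelianization.of (G := D2 G a b)) (by
      rw [Abelianization.ker_of]; exact hcentral)
  haveI hcyc : IsCyclic (D2 G a b) := inferInstance
  refine ⟨hcyc, fun v hva hvb h hh => ?_⟩
  have hAbot : A = ⊥ := by
    rw [hA, commutator_def, Subgroup.commutator_eq_bot_iff_le_centralizer]
    intro x _
    rw [Subgroup.mem_centralizer_iff]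
    intro y _
    exact (IsCyclic.commGroup (α := D2 G a b)).mul_comm y x
  have := hmod v hva hvb ⟨h, hh⟩
  rw [hAbot, Subgroup.mem_bot] at this
  exact eq_inv_of_mul_eq_one_left (congrArg Subtype.val this)

omit [Finite G] in
/-- A simple group has no normal complements. -/
theorem noComplement_of_simple [Finite G] [IsSimpleGroup G] {a b : Ω} (hab : a ≠ b) :
    NoComplement G (D2 G a b) := by
  rintro q hq hqk ⟨N, hN, hNi⟩
  have hcard := card_group hz hab
  have hn := hz.three
  have hdvd : q ∣ Nat.card G := hcard ▸ hqk.mul_left _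
  rcases hN.eq_bot_or_eq_top with h | h
  · rw [h, Subgroup.index_bot] at hNi
    have hmod : Nat.card Ω * (Nat.card Ω - 1) ∣ q ^ (Nat.card G).factorization q :=
      hNi ▸ hcard ▸ dvd_mul_right _ _
    obtain ⟨i, -, hi⟩ := (Nat.dvd_prime_pow hq).mp (dvd_trans (dvd_mul_right _ _) hmod)
    obtain ⟨j, -, hj⟩ := (Nat.dvd_prime_pow hq).mp (dvd_trans (dvd_mul_left _ _) hmod)
    have hi0 : i ≠ 0 := fun h0 => by rw [h0, pow_zero] at hi; omega
    have hj0 : j ≠ 0 := fun h0 => by rw [h0, pow_zero] at hj; omega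
    have h1 := Nat.dvd_sub (hi ▸ dvd_pow_self q hi0) (hj ▸ dvd_pow_self q hj0)
    rw [show Nat.card Ω - (Nat.card Ω - 1) = 1 by omega, Nat.dvd_one] at h1
    exact hq.one_lt.ne' h1
  · rw [h, Subgroup.index_top] at hNi
    have := hq.factorization_pos_of_dvd Nat.card_pos.ne' hdvd
    exact hq.one_lt.ne ((Nat.pow_eq_one.mp hNi.symm).resolve_right this.ne').symm

/-- Two-point stabilizers of odd order in a simple group. -/
theorem odd_stab [IsSimpleGroup G] {a b : Ω} (hab : a ≠ b) (hne : D2 G a b ≠ ⊥)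
    (hodd : Odd (Nat.card (D2 G a b))) :
    IsCyclic (D2 G a b) ∧ ∀ v : G, v • a = b → v • b = a → ∀ h ∈ D2 G a b, v * h * v⁻¹ = h⁻¹ :=
  odd_stab' hz hab hne hodd (noComplement_of_simple hz hab)

end CfsgLib.Zassenhaus
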