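import Cfsg.Agent.Lib.Zassenhaus.Coord
import Cfsg.Agent.Lib.SL2.PSL

/-!
The extreme case of an even two-point stabilizer is the projective special linear group.
-/

set_option autoImplicit false
set_option linter.style.haveILetI false
set_option linter.unusedFintypeInType false
set_option linter.unusedDecidableInType false

open MulAction Matrix
open scoped MatrixGroups

namespace CfsgLib.Zassenhaus

section Generation

variable {K : Type*} [Field K]

/-- Upper unipotent. -/
def upperU (x : K) : SL(2, K) := ⟨!![1, x; 0, 1], by simp [Matrix.det_fin_two]⟩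

/-- The Weyl element. -/
def weylW : SL(2, K) := ⟨!![0, -1; 1, 0], by simp [Matrix.det_fin_two]⟩

theorem coe_upperU (x : K) : ((upperU x : SL(2, K)) : Matrix (Fin 2) (Fin 2) K) = !![1, x; 0, 1] := rfl

theorem coe_weylW : ((weylW : SL(2, K)) : Matrix (Fin 2) (Fin 2) K) = !![0, -1; 1, 0] := rfl

theorem coe_weylW_inv : ((weylW⁻¹ : SL(2, K)) : Matrix (Fin 2) (Fin 2) K) = !![0, 1; -1, 0] := by
  rw [Matrix.SpecialLinearGroup.coe_inv, coe_weylW, Matrix.adjugate_fin_two_of, neg_neg]

theorem mem_of_gens {H : Subgroup SL(2, K)} (hU : ∀ x, upperU x ∈ H) (hW : weylW ∈ H) (g : SL(2, K)) :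
    g ∈ H := by
  have key : ∀ g : SL(2, K), (g : Matrix (Fin 2) (Fin 2) K) 1 0 ≠ 0 → g ∈ H := by
    intro g hc
    set a := (g : Matrix (Fin 2) (Fin 2) K) 0 0 with ha
    set b := (g : Matrix (Fin 2) (Fin 2) K) 0 1 with hb
    set c := (g : Matrix (Fin 2) (Fin 2) K) 1 0 with hc'
    set d := (g : Matrix (Fin 2) (Fin 2) K) 1 1 with hd
    have hdet : a * d - b * c = 1 := by
      have h : Matrix.det (g : Matrix (Fin 2) (Fin 2) K) = 1 := g.det_coe
      rw [Matrix.det_fin_two] at h
      exact h
    have e : g = upperU ((a - 1) / c) * (weylW * upperU (-c) * weylW⁻¹) * upperU ((d - 1) / c) := by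
      apply Matrix.SpecialLinearGroup.ext
      intro i j
      simp only [Matrix.SpecialLinearGroup.coe_mul, coe_upperU, coe_weylW, coe_weylW_inv]
      fin_cases i <;> fin_cases j <;> simp [Matrix.mul_apply, Fin.sum_univ_two, ← ha, ← hb, ← hc', ← hd] <;>
        field_simp <;> grind
    rw [e]
    exact mul_mem (mul_mem (hU _) (mul_mem (mul_mem hW (hU _)) (inv_mem hW))) (hU _)
  by_cases hc : (g : Matrix (Fin 2) (Fin 2) K) 1 0 = 0
  · have h : weylW⁻¹ * g ∈ H := by
      refine key _ ?_
      have hdet : (g : Matrix (Fin 2) (Fin 2) K) 0 0 * (g : Matrix (Fin 2) (Fin 2) K) 1 1 = 1 := by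
        have h : Matrix.det (g : Matrix (Fin 2) (Fin 2) K) = 1 := g.det_coe
        rw [Matrix.det_fin_two, hc] at h
        linear_combination h
      have : ((weylW⁻¹ * g : SL(2, K)) : Matrix (Fin 2) (Fin 2) K) 1 0 = -(g : Matrix (Fin 2) (Fin 2) K) 0 0 := by
        rw [Matrix.SpecialLinearGroup.coe_mul, coe_weylW_inv]
        simp [Matrix.mul_apply, Fin.sum_univ_two]
      rw [this, neg_ne_zero]
      exact left_ne_zero_of_mul (hdet ▸ one_ne_zero)
    have := mul_mem hW h
    rwa [mul_inv_cancel_left] at this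
  · exact key g hc

end Generation

variable {G Ω : Type*} [Group G] [MulAction G Ω]

theorem toGL_apply {K : Type*} [Field K] (g : SL(2, K)) (i j : Fin 2) :
    ((Matrix.SpecialLinearGroup.toGL g : GL (Fin 2) K) : Matrix (Fin 2) (Fin 2) K) i j =
      (g : Matrix (Fin 2) (Fin 2) K) i j := rfl

theorem iso_PSL (hx : Ext G Ω) {a b : Ω} (hab : a ≠ b) :
    ∃ (K : Type) (_ : Field K) (_ : Fintype K), ringChar K ≠ 2 ∧ Fintype.card K + 1 = Nat.card Ω ∧
      Nonempty (G ≃* ProjectiveSpecialLinearGroup (Fin 2) K) := by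
  classical
  haveI := finite_points hx.zg
  haveI := finite_group hx.zg
  obtain ⟨K, instK, instF, hcard, e, ea, eb, htr, χ, hχ, hdil⟩ := exists_coord hx a b hab
  set k := Nat.card (D2 G a b) with hk
  have hkeven : Even k := hx.even a b hab
  have hkpos : 0 < k := Nat.card_pos
  have hodd : ringChar K ≠ 2 := by
    intro h2
    have h := FiniteField.even_card_of_char_two h2
    omega
  refine ⟨K, instK, instF, hodd, by rw [hcard, hx.two_mul a b hab], ?_⟩
  have hq2 : Fintype.card K / 2 = k := by omega
  -- squares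
  have hχsq : ∀ d, IsSquare ((χ d : K)) := fun d => by
    rw [FiniteField.isSquare_iff hodd (Units.ne_zero _), hq2, hk, ← Units.val_pow_eq_pow_val, ← map_pow,
      pow_card_eq_one', map_one, Units.val_one]
  have hsqχ : ∀ x : K, x ≠ 0 → IsSquare x → ∃ d, (χ d : K) = x := by
    intro x hx0 hxsq
    haveI : Fintype (D2 G a b) := Fintype.ofFinite _
    have hsub : Finset.univ.image (fun d => (χ d : K)) ⊆ (Polynomial.nthRoots k (1 : K)).toFinset := by
      intro y hy
      obtain ⟨d, -, rfl⟩ := Finset.mem_image.mp hy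
      rw [Multiset.mem_toFinset, Polynomial.mem_nthRoots hkpos, hk, ← Units.val_pow_eq_pow_val, ← map_pow,
        pow_card_eq_one', map_one, Units.val_one]
    have hge : (Polynomial.nthRoots k (1 : K)).toFinset.card ≤ (Finset.univ.image (fun d => (χ d : K))).card := by
      rw [Finset.card_image_of_injective (Finset.univ : Finset (D2 G a b)) (f := fun d => (χ d : K))
        fun d d' h => hχ (Units.ext h), Finset.card_univ, ← Nat.card_eq_fintype_card, ← hk]
      exact (Multiset.toFinset_card_le _).trans (Polynomial.card_nthRoots k 1)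
    have hmem : x ∈ (Polynomial.nthRoots k (1 : K)).toFinset := by
      rw [Multiset.mem_toFinset, Polynomial.mem_nthRoots hkpos, ← hq2]
      exact (FiniteField.isSquare_iff hodd hx0).mp hxsq
    rw [← Finset.eq_of_subset_of_card_le hsub hge] at hmem
    obtain ⟨d, -, hd⟩ := Finset.mem_image.mp hmem
    exact ⟨d, hd⟩
  have hm1 : IsSquare (-1 : K) := by
    rw [FiniteField.isSquare_iff hodd (neg_ne_zero.mpr one_ne_zero), hq2, hkeven.neg_one_pow]
  have hns2 : ∀ x y : K, ¬ IsSquare x → ¬ IsSquare y → IsSquare (x * y) := by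
    intro x y hx' hy'
    have key : ∀ z : K, ¬ IsSquare z → z ≠ 0 ∧ z ^ (Fintype.card K / 2) = -1 := fun z hz => by
      have hz0 : z ≠ 0 := fun h => hz (h ▸ IsSquare.zero)
      exact ⟨hz0, (FiniteField.pow_dichotomy hodd hz0).resolve_left
        fun h => hz ((FiniteField.isSquare_iff hodd hz0).mpr h)⟩
    obtain ⟨hx0, hxp⟩ := key x hx'
    obtain ⟨hy0, hyp⟩ := key y hy'
    rw [FiniteField.isSquare_iff hodd (mul_ne_zero hx0 hy0), mul_pow, hxp, hyp]
    ring
  have hne : ∀ {x y : K}, x ≠ y → e (x : OnePoint K) ≠ e (y : OnePoint K) := fun h he =>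
    h (OnePoint.coe_injective (e.injective he))
  have hnea : ∀ x : K, e (x : OnePoint K) ≠ a := fun x h => OnePoint.coe_ne_infty x (e.injective (h.trans ea.symm))
  have hcoe : ∀ {x y : K}, e (x : OnePoint K) = e (y : OnePoint K) → x = y := fun h =>
    OnePoint.coe_injective (e.injective h)
  -- maps induced by swapping elements
  have hswap : ∀ t : G, t • a = b → t • b = a → ∃ f : K → K, (∀ x, x ≠ 0 → f x ≠ 0 ∧
      t • e (x : OnePoint K) = e (f x : OnePoint K) ∧ IsSquare (x * f x)) ∧
      ∀ l x, l ≠ 0 → IsSquare l → x ≠ 0 → f (l * x) = l⁻¹ * f x := by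
    intro t ta tb
    obtain ⟨-, htt, c, c', hcc, hc, hc'⟩ := hx.swap_refl t a b hab ta tb
    have hmap : ∀ x : K, x ≠ 0 → ∃ y : K, y ≠ 0 ∧ t • e (x : OnePoint K) = e (y : OnePoint K) := by
      intro x hx0
      cases h : e.symm (t • e (x : OnePoint K)) with
      | infty =>
        exfalso
        have h' : t • e (x : OnePoint K) = a := by rw [← ea, ← h, Equiv.apply_symm_apply]
        exact hne hx0 ((smul_left_cancel t (h'.trans tb.symm)).trans eb.symm)
      | coe y =>
        have h' : t • e (x : OnePoint K) = e (y : OnePoint K) := by rw [← h, Equiv.apply_symm_apply]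
        refine ⟨y, fun hy => hnea x ?_, h'⟩
        rw [hy, eb] at h'
        exact smul_left_cancel t (h'.trans ta.symm)
    choose! f hf0 hf using hmap
    have hff : ∀ x, x ≠ 0 → f (f x) = x := fun x hx0 => hcoe (by
      rw [← hf _ (hf0 x hx0), ← hf x hx0, swap_of_moved htt])
    have hlin : ∀ l x, l ≠ 0 → IsSquare l → x ≠ 0 → f (l * x) = l⁻¹ * f x := by
      intro l x hl hlsq hx0
      obtain ⟨d, hd⟩ := hsqχ l hl hlsq
      have hinv := D2_inverted hx hab ta tb d.2
      have h1 : t • (d : G) • e (x : OnePoint K) = ((d⁻¹ : D2 G a b) : G) • t • e (x : OnePoint K) := by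
        rw [← mul_smul, ← mul_smul, Subgroup.coe_inv, ← hinv,
          show t * (d : G) * t * t = t * (d : G) * (t * t) by group, htt, mul_one]
      rw [hdil, hf x hx0, hdil, hd, hf _ (mul_ne_zero hl hx0)] at h1
      have := hcoe h1
      rw [this, map_inv, Units.val_inv_eq_inv_val, hd]
    -- a fixed point
    obtain ⟨x0, hx0, hfix⟩ : ∃ x0 : K, x0 ≠ 0 ∧ f x0 = x0 := by
      have hca : c ≠ a := fun h => hab (by rw [h, ta] at hc; exact hc.symm)
      have hcb : c ≠ b := fun h => hab (by rw [h, tb] at hc; exact hc)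
      cases h : e.symm c with
      | infty => exact absurd (by rw [← ea, ← h, Equiv.apply_symm_apply] : c = a) hca
      | coe x =>
        have hcx : c = e (x : OnePoint K) := by rw [← h, Equiv.apply_symm_apply]
        have hx0 : x ≠ 0 := fun e0 => hcb (by rw [hcx, e0, eb])
        exact ⟨x, hx0, hcoe (by rw [← hf x hx0, ← hcx, hc])⟩
    have hsame : ∀ x, x ≠ 0 → IsSquare (x * x0) → IsSquare (x * f x) := by
      intro x hx' hsq
      have hl : IsSquare (x / x0) := by
        have : x / x0 = x * x0 / (x0 * x0) := by field_simp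
        rw [this]; exact hsq.div ⟨x0, rfl⟩
      have h1 := hlin (x / x0) x0 (div_ne_zero hx' hx0) hl hx0
      rw [div_mul_cancel₀ x hx0, hfix] at h1
      rw [h1]
      exact ⟨x0, by field_simp⟩
    refine ⟨f, fun x hx' => ⟨hf0 x hx', hf x hx', ?_⟩, hlin⟩
    by_cases h1 : IsSquare (x * x0)
    · exact hsame x hx' h1
    by_cases h2 : IsSquare (f x * x0)
    · have h3 := hsame (f x) (hf0 x hx') h2
      rw [hff x hx', mul_comm] at h3
      exact h3
    · have h3 := (hns2 _ _ h1 h2).div (⟨x0, rfl⟩ : IsSquare (x0 * x0))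
      rwa [show x * x0 * (f x * x0) / (x0 * x0) = x * f x by field_simp] at h3
  -- normalise
  obtain ⟨t0, t0a, t0b⟩ := exists_swapping hx.zg hab
  obtain ⟨f0, hf0, -⟩ := hswap t0 t0a t0b
  obtain ⟨hc0, hc1, hc2⟩ := hf0 1 one_ne_zero
  rw [one_mul] at hc2
  obtain ⟨d0, hd0⟩ := hsqχ (f0 1)⁻¹ (inv_ne_zero hc0) hc2.inv
  set t : G := (d0 : G) * t0 with ht
  have ta : t • a = b := by rw [ht, mul_smul, t0a, show (d0 : G) • b = b from d0.2.2]
  have tb : t • b = a := by rw [ht, mul_smul, t0b, show (d0 : G) • a = a from d0.2.1]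
  obtain ⟨f, hf, hlin⟩ := hswap t ta tb
  have hf1 : f 1 = 1 := hcoe (by rw [← (hf 1 one_ne_zero).2.1, ht, mul_smul, hc1, hdil, hd0, inv_mul_cancel₀ hc0])
  have hsqf : ∀ x, x ≠ 0 → IsSquare x → f x = x⁻¹ := fun x hx0 hsq => by
    rw [show x = x * 1 from (mul_one x).symm, hlin x 1 hx0 hsq one_ne_zero, hf1, mul_one, mul_one]
  have hconst : ∀ x y, ¬ IsSquare x → ¬ IsSquare y → x * f x = y * f y := by
    intro x y hx' hy'
    have hx0 : x ≠ 0 := fun h => hx' (h ▸ IsSquare.zero)
    have hy0 : y ≠ 0 := fun h => hy' (h ▸ IsSquare.zero)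
    have hl : IsSquare (x / y) := by
      by_contra hn
      have h1 := hns2 _ _ hn hy'
      rw [div_mul_cancel₀ x hy0] at h1
      exact hx' h1
    have h1 := hlin (x / y) y (div_ne_zero hx0 hy0) hl hy0
    rw [div_mul_cancel₀ x hy0] at h1
    rw [h1]; field_simp
  choose T hTa hT using htr
  set h : G := t * T (-1) * t * T 1 * t * T (-1) with hhdef
  have hfa : t • e ((0 : K) : OnePoint K) = a := by rw [eb, tb]
  have hTb : ∀ s, T s • b = e (s : OnePoint K) := fun s => by rw [← eb, hT, zero_add]
  have hfm1 : f (-1) = -1 := by rw [hsqf _ (neg_ne_zero.mpr one_ne_zero) hm1]; norm_num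
  have hha : h • a = a := by
    simp only [hhdef, mul_smul]
    rw [hTa, ta, hTb, (hf 1 one_ne_zero).2.1, hf1, hT, add_neg_cancel, hfa]
  have hm10 : (-1 : K) ≠ 0 := neg_ne_zero.mpr one_ne_zero
  have hhb : h • b = b := by
    simp only [hhdef, mul_smul]
    rw [hTb, (hf _ hm10).2.1, hfm1, hT, neg_add_cancel, hfa, hTa, ta]
  have hh1 : h • e ((1 : K) : OnePoint K) = e ((-1 : K) : OnePoint K) := by
    simp only [hhdef, mul_smul]
    rw [hT, add_neg_cancel, hfa, hTa, ta, hTb, (hf _ hm10).2.1, hfm1]
  have hhx : ∀ x : K, h • e (x : OnePoint K) = e ((-x : K) : OnePoint K) := by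
    have h1 := hdil ⟨h, hha, hhb⟩ 1
    rw [show ((⟨h, hha, hhb⟩ : D2 G a b) : G) = h from rfl, hh1, mul_one] at h1
    intro x
    have h2 := hdil ⟨h, hha, hhb⟩ x
    rw [← hcoe h1, neg_one_mul] at h2
    exact h2
  -- the constant is one
  obtain ⟨ν, hν⟩ := FiniteField.exists_nonsquare hodd
  have hkey : ∀ x, ¬ IsSquare x → x * f x = 1 := by
    obtain ⟨y, hy0, hysq, hy1, hy1sq⟩ : ∃ y : K, y ≠ 0 ∧ IsSquare y ∧ y + 1 ≠ 0 ∧ ¬ IsSquare (y + 1) := by
      by_contra hno
      push Not at hno
      set S : Finset K := Finset.univ.filter fun y : K => IsSquare y with hS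
      have hstep : ∀ y ∈ S, y + 1 ∈ S := by
        intro y hy
        simp only [hS, Finset.mem_filter, Finset.mem_univ, true_and] at hy ⊢
        by_cases hy0 : y = 0
        · rw [hy0, zero_add]; exact IsSquare.one
        by_cases hy1 : y + 1 = 0
        · rw [hy1]; exact IsSquare.zero
        exact hno y hy0 hy hy1
      have himg : S.map (addRightEmbedding (1 : K)) = S := by
        refine Finset.eq_of_subset_of_card_le ?_ (by rw [Finset.card_map])
        intro z hz
        obtain ⟨y, hy, rfl⟩ := Finset.mem_map.mp hz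
        exact hstep y hy
      have hsum : ∑ y ∈ S, (y + 1) = ∑ y ∈ S, y := by
        conv_rhs => rw [← himg, Finset.sum_map]
        rfl
      rw [Finset.sum_add_distrib, add_eq_left, Finset.sum_const, nsmul_one] at hsum
      have hSc : S.card = k + 1 := by
        haveI : Fintype (D2 G a b) := Fintype.ofFinite _
        have : S = insert 0 (Finset.univ.image fun d => (χ d : K)) := by
          ext y
          simp only [hS, Finset.mem_filter, Finset.mem_univ, true_and, Finset.mem_insert, Finset.mem_image]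
          constructor
          · intro hy
            by_cases hy0 : y = 0
            · exact Or.inl hy0
            · exact Or.inr (hsqχ y hy0 hy)
          · rintro (rfl | ⟨d, rfl⟩)
            · exact IsSquare.zero
            · exact hχsq d
        rw [this, Finset.card_insert_of_notMem (by simp),
          Finset.card_image_of_injective (Finset.univ : Finset (D2 G a b)) (f := fun d => (χ d : K))
            fun d d' h => hχ (Units.ext h), Finset.card_univ, ← Nat.card_eq_fintype_card]
      have h0 : ((Fintype.card K : ℕ) : K) = 0 := Nat.cast_card_eq_zero K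
      rw [hSc, Nat.cast_add, Nat.cast_one] at hsum
      rw [hcard, Nat.cast_add, Nat.cast_mul, Nat.cast_one] at h0
      have : (1 : K) = 0 := by push_cast at h0; linear_combination 2 * hsum - h0
      exact one_ne_zero this
    set x := y + 1 with hxdef
    set κ := x * f x with hκ
    have hns : ¬ IsSquare (x / y) := by
      intro hs
      have := hs.mul hysq
      rw [div_mul_cancel₀ x hy0] at this
      exact hy1sq this
    have hfxy : f (x / y) = κ * y / x := by
      have h1 := hconst _ _ hns hy1sq
      rw [← hκ] at h1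
      rw [← h1]; field_simp
    have hval : h • e (x : OnePoint K) = t • e ((κ * y / x + -1 : K) : OnePoint K) := by
      simp only [hhdef, mul_smul]
      have hxy : y⁻¹ + 1 = x / y := by rw [hxdef]; field_simp; ring
      rw [hT, show x + -1 = y by rw [hxdef]; ring, (hf y hy0).2.1, hsqf y hy0 hysq, hT, hxy,
        (hf _ (div_ne_zero hy1 hy0)).2.1, hfxy, hT]
    rw [hhx] at hval
    set w := κ * y / x + -1 with hw
    have hw0 : w ≠ 0 := fun h0 => by rw [h0, hfa] at hval; exact hnea _ hval
    rw [(hf w hw0).2.1] at hval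
    have hfw : f w = -x := (hcoe hval).symm
    have hew : w * f w = 1 + (1 - κ) * y := by
      rw [hfw, hw]; field_simp; rw [hxdef]; ring
    have hκ1 : κ = 1 := by
      by_cases hwsq : IsSquare w
      · rw [hsqf w hw0 hwsq, mul_inv_cancel₀ hw0] at hew
        have : (1 - κ) * y = 0 := by linear_combination -hew
        rcases mul_eq_zero.mp this with h' | h'
        · linear_combination -h'
        · exact absurd h' hy0
      · rw [hconst w x hwsq hy1sq, ← hκ] at hew
        have : (1 - κ) * x = 0 := by rw [hxdef]; linear_combination -hew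
        rcases mul_eq_zero.mp this with h' | h'
        · linear_combination -h'
        · exact absurd h' hy1
    intro z hz
    rw [hconst z x hz hy1sq, ← hκ, hκ1]
  have hinv : ∀ x, x ≠ 0 → f x = x⁻¹ := by
    intro x hx0
    by_cases hsq : IsSquare x
    · exact hsqf x hx0 hsq
    · exact eq_inv_of_mul_eq_one_right (hkey x hsq)
  -- the identification
  let Ψ : G →* Equiv.Perm Ω := MulAction.toPermHom G Ω
  have hΨ : Function.Injective Ψ := fun g g' hgg => by
    refine (inv_mul_eq_one.mp (eq_one_of_fixes_all hx.zg fun p => ?_)).symm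
    rw [mul_smul, show g • p = g' • p from congrArg (fun σ : Equiv.Perm Ω => σ p) hgg, inv_smul_smul]
  let Φ : SL(2, K) →* Equiv.Perm Ω :=
    ((e.permCongrHom).toMonoidHom.comp (MulAction.toPermHom (GL (Fin 2) K) (OnePoint K))).comp
      Matrix.SpecialLinearGroup.toGL
  have hΦ : ∀ (g : SL(2, K)) (p : OnePoint K),
      Φ g (e p) = e ((Matrix.SpecialLinearGroup.toGL g) • p) := fun g p => by
    simp [Φ, Equiv.permCongrHom, Equiv.permCongr_apply]
  have hrange : ∀ g, Φ g ∈ Ψ.range := by
    intro g
    refine mem_of_gens (H := Ψ.range.comap Φ) (fun s => ⟨T s, ?_⟩) ?_ g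
    · refine Equiv.ext fun p => ?_
      obtain ⟨z, rfl⟩ := e.surjective p
      rw [hΦ]
      cases z with
      | infty =>
        show T s • e OnePoint.infty = _
        rw [OnePoint.smul_infty_eq_ite, if_pos (by simp [toGL_apply, coe_upperU]), ea, hTa]
      | coe x =>
        show T s • e (x : OnePoint K) = _
        rw [OnePoint.smul_some_eq_ite, if_neg (by simp [toGL_apply, coe_upperU]), hT]
        simp [toGL_apply, coe_upperU]
    · obtain ⟨dm, hdm⟩ := hsqχ (-1) hm10 hm1
      refine ⟨(dm : G) * t, Equiv.ext fun p => ?_⟩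
      obtain ⟨z, rfl⟩ := e.surjective p
      rw [hΦ]
      show ((dm : G) * t) • e z = _
      cases z with
      | infty =>
        rw [OnePoint.smul_infty_eq_ite, if_neg (by simp [toGL_apply, coe_weylW]), ea, mul_smul, ta,
          show (dm : G) • b = b from dm.2.2]
        simp [toGL_apply, coe_weylW, eb]
      | coe x =>
        by_cases hx0 : x = 0
        · subst hx0
          rw [OnePoint.smul_some_eq_ite, if_pos (by simp [toGL_apply, coe_weylW]), mul_smul, hfa,
            show (dm : G) • a = a from dm.2.1, ea]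
        · rw [OnePoint.smul_some_eq_ite, if_neg (by simpa [toGL_apply, coe_weylW] using hx0), mul_smul, (hf x hx0).2.1,
            hinv x hx0, hdil, hdm]
          simp [toGL_apply, coe_weylW, neg_div]
  let eΨ : G ≃* Ψ.range := MonoidHom.ofInjective hΨ
  let ρ : SL(2, K) →* G := eΨ.symm.toMonoidHom.comp (Φ.codRestrict Ψ.range hrange)
  have hker : ρ.ker = Subgroup.center SL(2, K) := by
    ext g
    have h1 : g ∈ ρ.ker ↔ Φ g = 1 := by
      rw [MonoidHom.mem_ker]
      constructor
      · intro h'
        have := eΨ.symm.injective (h'.trans (map_one eΨ.symm).symm)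
        exact congrArg Subtype.val this
      · intro h'
        show eΨ.symm ⟨Φ g, hrange g⟩ = 1
        rw [show (⟨Φ g, hrange g⟩ : Ψ.range) = 1 from Subtype.ext h', map_one]
    rw [h1]
    constructor
    · intro hg
      have hp : ∀ p, (Matrix.SpecialLinearGroup.toGL g) • p = p := fun p => e.injective (by
        rw [← hΦ, hg]; rfl)
      have h10 : (g : Matrix (Fin 2) (Fin 2) K) 1 0 = 0 := OnePoint.smul_infty_eq_self_iff.mp (hp _)
      have hcalc : ∀ x : K, (g : Matrix (Fin 2) (Fin 2) K) 1 1 ≠ 0 →
          ((g : Matrix (Fin 2) (Fin 2) K) 0 0 * x + (g : Matrix (Fin 2) (Fin 2) K) 0 1) /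
            (g : Matrix (Fin 2) (Fin 2) K) 1 1 = x := by
        intro x hd
        have := hp (x : OnePoint K)
        rw [OnePoint.smul_some_eq_ite, if_neg (by simp [h10, hd])] at this
        have := OnePoint.coe_injective this
        simpa [h10] using this
      have hd : (g : Matrix (Fin 2) (Fin 2) K) 1 1 ≠ 0 := fun h0 => by
        have h : Matrix.det (g : Matrix (Fin 2) (Fin 2) K) = 1 := g.det_coe
        rw [Matrix.det_fin_two, h10, h0] at h
        simp at h
      have h01 : (g : Matrix (Fin 2) (Fin 2) K) 0 1 = 0 := by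
        have := hcalc 0 hd
        simpa [hd] using this
      have h00 : (g : Matrix (Fin 2) (Fin 2) K) 0 0 = (g : Matrix (Fin 2) (Fin 2) K) 1 1 := by
        have := hcalc 1 hd
        rw [h01, mul_one, add_zero, div_eq_one_iff_eq hd] at this
        exact this
      refine Matrix.SpecialLinearGroup.mem_center_iff.mpr ⟨(g : Matrix (Fin 2) (Fin 2) K) 0 0, ?_, ?_⟩
      · have h : Matrix.det (g : Matrix (Fin 2) (Fin 2) K) = 1 := g.det_coe
        rw [Matrix.det_fin_two, h10, h01, ← h00] at h
        rw [Fintype.card_fin]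
        linear_combination h
      · ext i j
        fin_cases i <;> fin_cases j <;> simp [h10, h01, h00]
    · intro hg
      obtain ⟨r, hr, hrg⟩ := Matrix.SpecialLinearGroup.mem_center_iff.mp hg
      have hr0 : r ≠ 0 := by
        intro h0; rw [h0, Fintype.card_fin] at hr; simp at hr
      refine Equiv.ext fun p => ?_
      obtain ⟨z, rfl⟩ := e.surjective p
      rw [hΦ, Equiv.Perm.one_apply]
      congr 1
      have hent : ∀ i j, (g : Matrix (Fin 2) (Fin 2) K) i j = if i = j then r else 0 := fun i j => by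
        rw [← hrg]; simp [Matrix.scalar_apply, Matrix.diagonal]
      cases z with
      | infty => rw [OnePoint.smul_infty_eq_ite, if_pos (by simp [hent])]
      | coe x =>
        rw [OnePoint.smul_some_eq_ite, if_neg (by simp [hent, hr0])]
        simp [hent, hr0]
  have hinj := QuotientGroup.kerLift_injective ρ
  have hPcard : Nat.card G = Nat.card (ProjectiveSpecialLinearGroup (Fin 2) K) := by
    have hP : 2 * Nat.card (ProjectiveSpecialLinearGroup (Fin 2) K) =
        Fintype.card K * ((Fintype.card K - 1) * (Fintype.card K + 1)) := by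
      have := CfsgLib.SL2.card_PSL (F := K)
      rw [Nat.card_eq_fintype_card (α := K), show Nat.gcd 2 (Fintype.card K - 1) = 2 from
        Nat.gcd_eq_left (Dvd.intro k (by omega))] at this
      exact this
    have hG := card_group hx.zg hab
    rw [hx.two_mul a b hab, ← hk] at hG
    rw [hcard] at hP
    have h2 : 2 * Nat.card G = (2 * k + 1) * ((2 * k + 1 - 1) * (2 * k + 1 + 1)) := by
      rw [hG, show 2 * k + 2 - 1 = 2 * k + 1 by omega, show 2 * k + 1 - 1 = 2 * k by omega]; ring
    omega
  let π : ProjectiveSpecialLinearGroup (Fin 2) K →* G :=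
    (QuotientGroup.kerLift ρ).comp (QuotientGroup.quotientMulEquivOfEq hker.symm).toMonoidHom
  have hπ : Function.Injective π := hinj.comp (MulEquiv.injective _)
  exact ⟨(MulEquiv.ofBijective π ((Nat.bijective_iff_injective_and_card π).mpr ⟨hπ, hPcard.symm⟩)).symm⟩

end CfsgLib.Zassenhaus
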