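import Cfsg.Agent.Lib.Zassenhaus.SharplyEven
import Cfsg.Agent.Lib.Zassenhaus.Ident

/-!
# Simple Zassenhaus groups with two-point stabilizers of even order
-/

set_option autoImplicit false
set_option linter.style.haveILetI false
set_option linter.unusedSectionVars false

open MulAction

namespace CfsgLib.Zassenhaus

variable {G Ω : Type*} [Group G] [MulAction G Ω] [Finite G] (hz : ZG G Ω)
include hz

/-- The order of a two-point stabilizer divides `n - 2`. -/
theorem card_D2_dvd {a b : Ω} (hab : a ≠ b) : Nat.card (D2 G a b) ∣ Nat.card Ω - 2 := by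
  classical
  haveI := finite_points hz
  haveI := Fintype.ofFinite Ω
  haveI := Fintype.ofFinite (D2 G a b)
  set S : Finset Ω := Finset.univ \ {a, b}
  have hS : S.card = Nat.card Ω - 2 := by
    rw [Finset.card_univ_sdiff, Finset.card_pair hab, Nat.card_eq_fintype_card]
  let orb : Ω → Finset Ω := fun c => Finset.univ.image fun h : D2 G a b => (h : G) • c
  have hself : ∀ c, c ∈ orb c := fun c => Finset.mem_image.mpr ⟨1, Finset.mem_univ _, by simp⟩
  rw [← hS, Finset.card_eq_sum_card_image orb S]
  refine Finset.dvd_sum fun O hO => ?_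
  obtain ⟨c, hc, rfl⟩ := Finset.mem_image.mp hO
  simp only [S, Finset.mem_sdiff, Finset.mem_univ, true_and, Finset.mem_insert, Finset.mem_singleton,
    not_or] at hc
  have e : (S.filter fun d => orb d = orb c) = orb c := by
    ext d
    rw [Finset.mem_filter]
    refine ⟨fun ⟨_, h⟩ => h ▸ hself d, fun hd => ?_⟩
    obtain ⟨h, -, rfl⟩ := Finset.mem_image.mp hd
    refine ⟨?_, Finset.ext fun x => ?_⟩
    · simp only [S, Finset.mem_sdiff, Finset.mem_univ, true_and, Finset.mem_insert, Finset.mem_singleton,
        not_or]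
      exact ⟨fun e => hc.1 ((smul_left_cancel_iff (h : G)).mp (e.trans h.2.1.symm)),
        fun e => hc.2 ((smul_left_cancel_iff (h : G)).mp (e.trans h.2.2.symm))⟩
    · simp only [orb, Finset.mem_image, Finset.mem_univ, true_and]
      constructor
      · rintro ⟨k, rfl⟩
        exact ⟨k * h, by rw [Subgroup.coe_mul, mul_smul]⟩
      · rintro ⟨k, rfl⟩
        exact ⟨k * h⁻¹, by rw [Subgroup.coe_mul, Subgroup.coe_inv, mul_smul, inv_smul_smul]⟩
  rw [e, Finset.card_image_of_injective _ fun h k e' => Subtype.ext (eq_of_three hz hab (Ne.symm hc.2) (Ne.symm hc.1)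
    ((show (h : G) • a = a from h.2.1).trans k.2.1.symm)
    ((show (h : G) • b = b from h.2.2).trans k.2.2.symm) e'), Finset.card_univ, Nat.card_eq_fintype_card]

/-- A simple group has the extreme order of a two-point stabilizer, if this is even. -/
theorem ext_of_simple [IsSimpleGroup G] {a b : Ω} (hab : a ≠ b)
    (heven : Even (Nat.card (D2 G a b))) : Ext G Ω := by
  have hn := hz.three
  have hk0 : 0 < Nat.card (D2 G a b) := Nat.card_pos
  obtain ⟨r, hr⟩ := card_D2_dvd hz hab
  have hb := (even_bound hz hab heven).1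
  by_cases hr2 : r ≤ 1
  · exfalso
    have hr1 : r = 1 := by
      rcases Nat.eq_zero_or_pos r with h | h
      · rw [h, mul_zero] at hr; omega
      · omega
    rw [hr1, mul_one] at hr
    have hcard : Nat.card (D2 G a b) + 2 = Nat.card Ω := by omega
    obtain ⟨M, hM, hMi, hMH⟩ := exists_index_two hz hab hcard (hcard ▸ heven.add even_two)
    rcases hM.eq_bot_or_eq_top with h | h
    · rw [h, Subgroup.index_bot, card_group hz hab] at hMi
      have h6 : 3 * 2 ≤ Nat.card Ω * (Nat.card Ω - 1) := Nat.mul_le_mul hn (by omega)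
      have := Nat.mul_le_mul h6 (show 1 ≤ Nat.card (D2 G a b) from hk0)
      omega
    · exact hMH (h ▸ le_top)
  · refine Ext.of_le hz hab heven ?_
    rw [hr, mul_comm 2]
    exact Nat.mul_le_mul_left _ (by omega)

end CfsgLib.Zassenhaus
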