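import Cfsg.Agent.Lib.Zassenhaus.FeitAbelian
import Cfsg.Agent.Lib.Zassenhaus.OddStab
import Cfsg.Agent.Lib.Zassenhaus.NormalSubgroup
import Cfsg.Agent.Lib.Zassenhaus.SimpleEven

/-!
# Feit's inequality by descent to a normal subgroup without complements
-/

set_option autoImplicit false
set_option linter.style.haveILetI false
set_option linter.unusedSectionVars false

open MulAction

universe u w

namespace CfsgLib.Zassenhaus

variable {Ω : Type w}

/-- With a swapping inversion the inequality holds. -/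
theorem two_orbits_of_noComplement {G : Type u} [Group G] [MulAction G Ω] [Finite G] (hz : ZG G Ω)
    {a b : Ω} (hab : a ≠ b) (hne : D2 G a b ≠ ⊥) (hodd : Odd (Nat.card (D2 G a b)))
    (hnc : NoComplement G (D2 G a b)) {U : Subgroup G} (hU : RegKernel a U)
    (hc : ∀ x y : U, x * y = y * x) : Nat.card U - 1 ≤ 2 * Nat.card (D2 G a b) := by
  classical
  haveI := Fintype.ofFinite G
  haveI := Fintype.ofFinite U
  haveI := Fintype.ofFinite (D2 G a b)
  haveI := Fintype.ofFinite (stabilizer G a)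
  obtain ⟨hcyc, hinv⟩ := odd_stab' hz hab hne hodd hnc
  obtain ⟨v, va, vb⟩ := exists_swapping hz hab
  haveI := (D2 G a b).nontrivial_iff_ne_bot.mpr hne
  have hO : OddInv G Ω a b U v :=
    ⟨hz, hU, hab.symm, va, vb, hinv v va vb,
      fun x y => (IsCyclic.commGroup (α := D2 G a b)).mul_comm x y, hodd, Finite.one_lt_card⟩
  exact hO.two_orbits hc

/-- Feit's inequality; in the extreme case there is no normal complement. -/
theorem feit_abelian {G : Type u} [Group G] [MulAction G Ω] [Finite G] (hz : ZG G Ω)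
    (hreg : ∀ M : Subgroup G, M.Normal → IsPretransitive M Ω → ∃ a : Ω, stabilizer M a ≠ ⊥)
    {a b : Ω} (hab : a ≠ b) (hne : D2 G a b ≠ ⊥) (hodd : Odd (Nat.card (D2 G a b)))
    {U : Subgroup G} (hU : RegKernel a U) (hc : ∀ x y : U, x * y = y * x) :
    Nat.card U - 1 ≤ 2 * Nat.card (D2 G a b) ∧
      (2 * Nat.card (D2 G a b) ≤ Nat.card U - 1 → NoComplement G (D2 G a b)) := by
  induction hn : Nat.card G using Nat.strong_induction_on generalizing G with
  | _ n ih =>
  classical
  haveI := finite_points hz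
  subst hn
  by_cases hnc : NoComplement G (D2 G a b)
  · exact ⟨two_orbits_of_noComplement hz hab hne hodd hnc hU hc, fun _ => hnc⟩
  simp only [NoComplement, not_forall, not_not] at hnc
  obtain ⟨r, hr, hrk, N, hN, hNi⟩ := hnc
  haveI := hN
  have hkU : Nat.card (D2 G a b) ∣ Nat.card U - 1 := by
    rw [hU.card_eq hz hab.symm, show Nat.card Ω - 1 - 1 = Nat.card Ω - 2 by omega]
    exact card_D2_dvd hz hab
  have hrU : ¬ r ∣ Nat.card U := fun h => by
    have h1 := Nat.dvd_sub h (hrk.trans hkU)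
    have hU0 : 0 < Nat.card U := Nat.card_pos
    rw [show Nat.card U - (Nat.card U - 1) = 1 by omega, Nat.dvd_one] at h1
    exact hr.one_lt.ne' h1
  have hUN : U ≤ N := by
    intro u hu
    rw [← QuotientGroup.eq_one_iff (N := N) u, ← orderOf_eq_one_iff]
    have h1 : orderOf (QuotientGroup.mk' N u) ∣ Nat.card U :=
      (orderOf_map_dvd _ u).trans (Subgroup.orderOf_dvd_natCard U hu)
    have h2 : orderOf (QuotientGroup.mk' N u) ∣ r ^ (Nat.card G).factorization r := hNi ▸ orderOf_dvd_natCard _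
    exact Nat.dvd_one.mp (((Nat.Prime.coprime_iff_not_dvd hr).mpr hrU).pow_left _ ▸ Nat.dvd_gcd h2 h1)
  have hUne : U ≠ ⊥ := (hU.setting hz hab.symm).ne_bot
  have hNne : N ≠ ⊥ := fun h => hUne (eq_bot_iff.mpr (h ▸ hUN))
  -- the normal subgroup is again of this kind, with a smaller two-point stabilizer
  have hz' : ZG N Ω := by
    refine ⟨fun x y x' y' hxy hxy' => ?_, fun g => fun c d e h1 h2 h3 g1 g2 g3 => ?_, hz.three⟩
    · obtain ⟨m, hm, h1, h2⟩ := normal_two_transitive hz hreg N hNne hxy hxy'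
      exact ⟨⟨m, hm⟩, h1, h2⟩
    · exact Subtype.ext (hz.free g c d e h1 h2 h3 g1 g2 g3)
  have hreg' : ∀ M : Subgroup N, M.Normal → IsPretransitive M Ω → ∃ a : Ω, stabilizer M a ≠ ⊥ :=
    fun M hM hMt => normal_no_regular hz hreg N hNne M
  have hcard' : Nat.card (D2 N a b) = Nat.card (N ⊓ D2 G a b : Subgroup G) :=
    Nat.card_congr
      { toFun := fun g => ⟨((g : N) : G), (g : N).2, g.2.1, g.2.2⟩
        invFun := fun g => ⟨⟨g.1, g.2.1⟩, g.2.2.1, g.2.2.2⟩
        left_inv := fun _ => rfl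
        right_inv := fun _ => rfl }
  have hdvd : Nat.card (D2 N a b) ∣ Nat.card (D2 G a b) :=
    hcard' ▸ Subgroup.card_dvd_of_le inf_le_right
  have hlt : Nat.card N < Nat.card G := by
    rw [← N.card_mul_index, hNi]
    exact lt_mul_right Nat.card_pos (Nat.one_lt_pow
      (hr.factorization_pos_of_dvd Nat.card_pos.ne' (hrk.trans (D2 G a b).card_subgroup_dvd_card)).ne' hr.one_lt)
  have hklt : Nat.card (D2 N a b) < Nat.card (D2 G a b) := by
    refine lt_of_le_of_ne (Nat.le_of_dvd Nat.card_pos hdvd) fun e => ?_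
    have := card_group hz' hab
    rw [e, ← card_group hz hab] at this
    omega
  have hne' : D2 N a b ≠ ⊥ := by
    obtain ⟨m, hm, hm1, c, d, hcd, hmc, hmd⟩ := exists_two_fixed hz hreg N hNne
    obtain ⟨g, hgc, hgd⟩ := hz'.trans c d a b hcd hab
    intro h
    have hmem : g * ⟨m, hm⟩ * g⁻¹ ∈ D2 N a b := mem_D2.mpr
      ⟨by rw [← hgc, mul_smul, mul_smul, inv_smul_smul]; exact congrArg (g • ·) hmc,
       by rw [← hgd, mul_smul, mul_smul, inv_smul_smul]; exact congrArg (g • ·) hmd⟩
    rw [h, Subgroup.mem_bot, conj_eq_one_iff] at hmem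
    exact hm1 (congrArg Subtype.val hmem)
  let U' : Subgroup N := U.subgroupOf N
  let e : U' ≃* U := Subgroup.subgroupOfEquivOfLe hUN
  have hU' : RegKernel a U' :=
    { le := fun u hu => hU.le hu
      normal := fun h hh u hu => hU.normal h hh u hu
      reg := fun c d hc hd => by
        obtain ⟨u, hu, huu⟩ := hU.reg c d hc hd
        refine ⟨e.symm u, hu, fun w hw => ?_⟩
        exact e.injective ((huu (e w) hw).trans (e.apply_symm_apply u).symm)
      nil := by haveI := hU.nil; exact Group.nilpotent_of_surjective e.symm.toMonoidHom e.symm.surjective }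
  have hUc' : Nat.card U' = Nat.card U := Nat.card_congr e.toEquiv
  obtain ⟨h1, -⟩ := ih _ hlt hz' hreg' hne' (hodd.of_dvd_nat hdvd) hU'
    (fun x y => e.injective (by rw [map_mul, map_mul, hc])) rfl
  rw [hUc'] at h1
  exact ⟨by omega, fun h2 => absurd h2 (by omega)⟩

end CfsgLib.Zassenhaus
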