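import Cfsg.Agent.Lib.Zassenhaus.SimpleEven

/-!
# Zassenhaus groups with a large two-point stabilizer have an elementary abelian regular subgroup
-/

set_option autoImplicit false
set_option linter.style.haveILetI false
set_option linter.unusedSectionVars false

open MulAction

namespace CfsgLib.Zassenhaus

variable {G Ω : Type*} [Group G] [MulAction G Ω] [Finite G] (hz : ZG G Ω)
include hz

/-- A regular normal subgroup of a point stabilizer is the set of elements fixing only that point. -/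
theorem reg_eq_kerSet {a b : Ω} (hb : b ≠ a) {F : Subgroup G} (hFle : F ≤ stabilizer G a)
    (hreg : ∀ c d : Ω, c ≠ a → d ≠ a → ∃! u : F, (u : G) • c = d) : (F : Set G) = kerSet G a := by
  classical
  haveI := finite_points hz
  haveI := Fintype.ofFinite Ω
  have hsub : (F : Set G) ⊆ kerSet G a := by
    intro u hu
    by_cases h1 : u = 1
    · exact Or.inl h1
    refine Or.inr ⟨hFle hu, fun c hc => ?_⟩
    by_contra hca
    exact h1 (congrArg Subtype.val ((hreg c c hca hca).unique (y₁ := ⟨u, hu⟩) (y₂ := 1) hc (one_smul G c)))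
  refine Set.eq_of_subset_of_ncard_le hsub ?_ (Set.toFinite _)
  rw [ncard_kerSet hz, show ((F : Set G)).ncard = Nat.card F from (Nat.card_coe_set_eq _).symm]
  have hmem : ∀ u : F, (u : G) • b ≠ a := fun u e =>
    hb ((smul_left_cancel_iff (u : G)).mp (e.trans (show (u : G) • a = a from hFle u.2).symm))
  let f : F → {y : Ω // y ≠ a} := fun u => ⟨(u : G) • b, hmem u⟩
  have hf : Function.Surjective f := fun y => by
    obtain ⟨u, hu, -⟩ := hreg b y hb y.2
    exact ⟨u, Subtype.ext hu⟩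
  refine le_of_eq_of_le ?_ (Nat.card_le_card_of_surjective f hf)
  rw [Nat.card_eq_fintype_card, Nat.card_eq_fintype_card, Fintype.card_subtype_compl,
    Fintype.card_subtype_eq]

theorem reg_eq_regKernel {a b : Ω} (hb : b ≠ a) {U F : Subgroup G} (hU : RegKernel a U)
    (hFle : F ≤ stabilizer G a) (hreg : ∀ c d : Ω, c ≠ a → d ≠ a → ∃! u : F, (u : G) • c = d) : F = U :=
  SetLike.coe_injective ((reg_eq_kerSet hz hb hFle hreg).trans (reg_eq_kerSet hz hb hU.le hU.reg).symm)

/-- A regular normal subgroup of a point stabilizer is nilpotent. -/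
theorem regKernel_of_reg {a b : Ω} (hab : a ≠ b) (hne : D2 G a b ≠ ⊥) {F : Subgroup G}
    (hFle : F ≤ stabilizer G a) (hreg : ∀ c d : Ω, c ≠ a → d ≠ a → ∃! u : F, (u : G) • c = d) :
    RegKernel a F := by
  obtain ⟨U, hU⟩ := exists_regKernel hz hab hne
  rw [reg_eq_regKernel hz hab.symm hU hFle hreg]
  exact hU

/-- An invariant proper subgroup of the regular subgroup is small. -/
theorem invariant_eq {a b : Ω} (hb : b ≠ a) {U V : Subgroup G} (hU : RegKernel a U)
    (hle : Nat.card Ω - 2 ≤ 2 * Nat.card (D2 G a b)) (hVU : V ≤ U) (hne : V ≠ ⊥)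
    (hinv : ∀ h ∈ D2 G a b, ∀ v ∈ V, h * v * h⁻¹ ∈ V) : V = U := by
  classical
  have hS := hU.setting hz hb
  obtain ⟨v, hv, hv1⟩ := V.bot_or_exists_ne_one.resolve_left hne
  let f : Option (D2 G a b) → V := fun o => o.elim 1 fun h => ⟨(h : G) * v * (h : G)⁻¹, hinv h h.2 v hv⟩
  have hne' : ∀ h : G, h * v * h⁻¹ ≠ 1 := fun h e => hv1 (conj_eq_one_iff.mp e)
  have hf : Function.Injective f := by
    rintro (_ | g) (_ | h) e
    · rfl
    · exact absurd (congrArg Subtype.val e).symm (hne' h)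
    · exact absurd (congrArg Subtype.val e) (hne' g)
    · have e' : (g : G) * v * (g : G)⁻¹ = (h : G) * v * (h : G)⁻¹ := congrArg Subtype.val e
      refine congrArg some (Subtype.ext (inv_mul_eq_one.mp ?_).symm)
      refine hS.free _ ((D2 G a b).mul_mem ((D2 G a b).inv_mem h.2) g.2) v (hVU hv) hv1 ?_
      calc (h : G)⁻¹ * g * v * ((h : G)⁻¹ * g)⁻¹ = (h : G)⁻¹ * ((g : G) * v * (g : G)⁻¹) * h := by group
        _ = v := by rw [e']; group
  have hk := Nat.card_le_card_of_injective f hf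
  rw [Finite.card_option] at hk
  by_contra hVne
  have hidx : V.relIndex U * Nat.card V = Nat.card U := by
    rw [← (V.subgroupOf U).card_mul_index, Nat.card_congr (Subgroup.subgroupOfEquivOfLe hVU).toEquiv,
      mul_comm]
    rfl
  have h2 : 1 < V.relIndex U := by
    rcases Nat.eq_zero_or_pos (V.relIndex U) with h | h
    · rw [h, zero_mul] at hidx; exact absurd hidx.symm Nat.card_pos.ne'
    · refine lt_of_le_of_ne h fun e => hVne ?_
      exact le_antisymm hVU (Subgroup.relIndex_eq_one.mp e.symm)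
  have h3 := Nat.mul_le_mul_right (Nat.card V) h2
  rw [hidx, hU.card_eq hz hb] at h3
  have := hz.three
  omega

/-- A large two-point stabilizer forces an elementary abelian regular subgroup. -/
theorem elementary_of_large {a b : Ω} (hb : b ≠ a) {U : Subgroup G} (hU : RegKernel a U)
    (hle : Nat.card Ω - 2 ≤ 2 * Nat.card (D2 G a b)) :
    IsMulCommutative U ∧ ∃ p f : ℕ, p.Prime ∧ (∀ u ∈ U, u ^ p = 1) ∧ Nat.card U = p ^ f := by
  classical
  have hS := hU.setting hz hb
  haveI := hU.nil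
  haveI : Nontrivial U := U.nontrivial_iff_ne_bot.mpr hS.ne_bot
  set V := (Subgroup.center U).map U.subtype with hV
  have hVne : V ≠ ⊥ := by
    rw [hV, Ne, Subgroup.map_eq_bot_iff_of_injective _ U.subtype_injective]
    exact Group.IsNilpotent.center_ne_bot U
  have hVinv : ∀ h ∈ D2 G a b, ∀ v ∈ V, h * v * h⁻¹ ∈ V := by
    rintro h hh _ ⟨z, hzc, rfl⟩
    refine ⟨⟨h * z * h⁻¹, hS.norm h hh z z.2⟩, Subgroup.mem_center_iff.mpr fun u => Subtype.ext ?_, rfl⟩
    have e : (h⁻¹ * (u : G) * h) * z = z * (h⁻¹ * u * h) :=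
      congrArg Subtype.val (Subgroup.mem_center_iff.mp hzc ⟨h⁻¹ * u * h, by
        simpa using hS.norm h⁻¹ (inv_mem hh) u u.2⟩)
    show (u : G) * (h * z * h⁻¹) = h * z * h⁻¹ * u
    calc (u : G) * (h * z * h⁻¹) = h * ((h⁻¹ * u * h) * z) * h⁻¹ := by group
      _ = h * (z * (h⁻¹ * u * h)) * h⁻¹ := by rw [e]
      _ = _ := by group
  have hVU := invariant_eq hz hb hU hle (Subgroup.map_subtype_le _) hVne hVinv
  have hcomm : ∀ x ∈ U, ∀ y ∈ U, x * y = y * x := by
    intro x hx y hy
    obtain ⟨z, hzc, rfl⟩ : x ∈ (Subgroup.center U).map U.subtype := by rw [hVU]; exact hx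
    exact (congrArg Subtype.val (Subgroup.mem_center_iff.mp hzc ⟨y, hy⟩)).symm
  refine ⟨⟨⟨fun x y => Subtype.ext (hcomm x x.2 y y.2)⟩⟩, ?_⟩
  obtain ⟨p, hp, hpd⟩ := Nat.exists_prime_and_dvd (Finite.one_lt_card (α := U)).ne'
  haveI := Fact.mk hp
  let W : Subgroup G :=
    { carrier := {u | u ∈ U ∧ u ^ p = 1}
      one_mem' := ⟨U.one_mem, one_pow p⟩
      mul_mem' := fun {x y} hx hy => ⟨U.mul_mem hx.1 hy.1, by
        rw [(show Commute x y from hcomm x hx.1 y hy.1).mul_pow, hx.2, hy.2, one_mul]⟩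
      inv_mem' := fun {x} hx => ⟨U.inv_mem hx.1, by rw [inv_pow, hx.2, inv_one]⟩ }
  obtain ⟨w, hw⟩ := exists_prime_orderOf_dvd_card' (G := U) p hpd
  have hWne : W ≠ ⊥ := fun e => by
    have hm : (w : G) ∈ W := ⟨w.2, by rw [← hw, ← Subgroup.orderOf_coe, pow_orderOf_eq_one]⟩
    rw [e, Subgroup.mem_bot] at hm
    rw [← Subgroup.orderOf_coe, hm, orderOf_one] at hw
    exact hp.one_lt.ne hw
  have hWU := invariant_eq hz hb hU hle (show W ≤ U from fun u hu => And.left hu) hWne fun h hh v hv =>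
    ⟨hS.norm h hh v hv.1, by rw [conj_pow, hv.2, mul_one, mul_inv_cancel]⟩
  have hexp : ∀ u ∈ U, u ^ p = 1 := fun u hu => (show u ∈ W from hWU.symm ▸ hu).2
  obtain ⟨f, hf⟩ := (show IsPGroup p U from fun u => ⟨1, by
    rw [pow_one]; exact Subtype.ext (hexp u u.2)⟩).exists_card_eq
  exact ⟨p, f, hp, hexp, hf⟩

end CfsgLib.Zassenhaus
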