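import Cfsg.Agent.Lib.Zassenhaus.CoordAbelian
import Cfsg.Agent.Lib.Zassenhaus.Ident

/-!
# Two orbits and an odd two-point stabilizer: the projective special linear group
-/

set_option autoImplicit false
set_option linter.style.haveILetI false
set_option linter.unusedFintypeInType false
set_option linter.unusedDecidableInType false

open MulAction Matrix
open scoped MatrixGroups

namespace CfsgLib.Zassenhaus

namespace AbExt

variable {G Ω : Type*} [Group G] [MulAction G Ω] [Finite G] {a b : Ω} {U : Subgroup G}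

theorem iso_PSL_odd (hx : AbExt G Ω a b U) (hodd : Odd (Nat.card (D2 G a b))) {v : G}
    (va : v • a = b) (vb : v • b = a) (hv2 : v * v = 1) (hvi : ∀ h ∈ D2 G a b, v * h * v⁻¹ = h⁻¹) :
    ∃ (K : Type) (_ : Field K) (_ : Fintype K), ringChar K ≠ 2 ∧
      Nonempty (G ≃* ProjectiveSpecialLinearGroup (Fin 2) K) := by
  classical
  haveI := finite_points hx.zg
  have hkodd := hodd
  obtain ⟨K, instK, instF, hcard, e, ea, eb, htr, χ, hχ, hdil⟩ := exists_coord hx
  set k := Nat.card (D2 G a b) with hk
  have hkpos : 0 < k := Nat.card_pos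
  obtain hodd : ringChar K ≠ 2 := by
    intro h2
    have h := FiniteField.even_card_of_char_two h2
    omega
  refine ⟨K, instK, instF, hodd, ?_⟩
  have hq2 : Fintype.card K / 2 = k := by omega
  -- squares
  have hχsq : ∀ d, IsSquare ((χ d : K)) := fun d => by
    rw [FiniteField.isSquare_iff hodd (Units.ne_zero _), hq2, hk, ← Units.val_pow_eq_pow_val, ← map_pow,
      pow_card_eq_one', map_one, Units.val_one]
  have hsqχ : ∀ x : K, x ≠ 0 → IsSquare x → ∃ d, (χ d : K) = x := by
    intro x hx0 hxsq
    haveI : Fintype (D2 G a b) := Fintype.ofFinite _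
    have hsub : Finset.univ.image (fun d => (χ d : K)) ⊆ (Polynomial.nthRoots k (1 : K)).toFinset := by
      intro y hy
      obtain ⟨d, -, rfl⟩ := Finset.mem_image.mp hy
      rw [Multiset.mem_toFinset, Polynomial.mem_nthRoots hkpos, hk, ← Units.val_pow_eq_pow_val, ← map_pow,
        pow_card_eq_one', map_one, Units.val_one]
    have hge : (Polynomial.nthRoots k (1 : K)).toFinset.card ≤ (Finset.univ.image (fun d => (χ d : K))).card := by
      rw [Finset.card_image_of_injective (Finset.univ : Finset (D2 G a b)) (f := fun d => (χ d : K))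
        fun d d' h => hχ (Units.ext h), Finset.card_univ, ← Nat.card_eq_fintype_card, ← hk]
      exact (Multiset.toFinset_card_le _).trans (Polynomial.card_nthRoots k 1)
    have hmem : x ∈ (Polynomial.nthRoots k (1 : K)).toFinset := by
      rw [Multiset.mem_toFinset, Polynomial.mem_nthRoots hkpos, ← hq2]
      exact (FiniteField.isSquare_iff hodd hx0).mp hxsq
    rw [← Finset.eq_of_subset_of_card_le hsub hge] at hmem
    obtain ⟨d, -, hd⟩ := Finset.mem_image.mp hmem
    exact ⟨d, hd⟩
  have hm10 : (-1 : K) ≠ 0 := neg_ne_zero.mpr one_ne_zero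
  have hm1 : ¬ IsSquare (-1 : K) := by
    rw [FiniteField.isSquare_iff hodd hm10, hq2, hkodd.neg_one_pow]
    intro h
    exact (Ring.neg_one_ne_one_of_char_ne_two hodd) h
  have hns2 : ∀ x y : K, ¬ IsSquare x → ¬ IsSquare y → IsSquare (x * y) := by
    intro x y hx' hy'
    have key : ∀ z : K, ¬ IsSquare z → z ≠ 0 ∧ z ^ (Fintype.card K / 2) = -1 := fun z hz => by
      have hz0 : z ≠ 0 := fun h => hz (h ▸ IsSquare.zero)
      exact ⟨hz0, (FiniteField.pow_dichotomy hodd hz0).resolve_left
        fun h => hz ((FiniteField.isSquare_iff hodd hz0).mpr h)⟩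
    obtain ⟨hx0, hxp⟩ := key x hx'
    obtain ⟨hy0, hyp⟩ := key y hy'
    rw [FiniteField.isSquare_iff hodd (mul_ne_zero hx0 hy0), mul_pow, hxp, hyp]
    ring
  have hne : ∀ {x y : K}, x ≠ y → e (x : OnePoint K) ≠ e (y : OnePoint K) := fun h he =>
    h (OnePoint.coe_injective (e.injective he))
  have hnea : ∀ x : K, e (x : OnePoint K) ≠ a := fun x h => OnePoint.coe_ne_infty x (e.injective (h.trans ea.symm))
  have hcoe : ∀ {x y : K}, e (x : OnePoint K) = e (y : OnePoint K) → x = y := fun h =>
    OnePoint.coe_injective (e.injective h)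
  have hmap : ∀ x : K, x ≠ 0 → ∃ y : K, y ≠ 0 ∧ v • e (x : OnePoint K) = e (y : OnePoint K) := by
    intro x hx0
    cases h : e.symm (v • e (x : OnePoint K)) with
    | infty =>
      exfalso
      have h' : v • e (x : OnePoint K) = a := by rw [← ea, ← h, Equiv.apply_symm_apply]
      exact hne hx0 ((smul_left_cancel v (h'.trans vb.symm)).trans eb.symm)
    | coe y =>
      have h' : v • e (x : OnePoint K) = e (y : OnePoint K) := by rw [← h, Equiv.apply_symm_apply]
      refine ⟨y, fun hy => hnea x ?_, h'⟩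
      rw [hy, eb] at h'
      exact smul_left_cancel v (h'.trans va.symm)
  choose! f hf0 hf using hmap
  have hff : ∀ x, x ≠ 0 → f (f x) = x := fun x hx0 => hcoe (by
    rw [← hf _ (hf0 x hx0), ← hf x hx0, ← mul_smul, hv2, one_smul])
  have hlin : ∀ l x, l ≠ 0 → IsSquare l → x ≠ 0 → f (l * x) = l⁻¹ * f x := by
    intro l x hl hlsq hx0
    obtain ⟨d, hd⟩ := hsqχ l hl hlsq
    have hinv := hvi d d.2
    have h1 : v • (d : G) • e (x : OnePoint K) = ((d⁻¹ : D2 G a b) : G) • v • e (x : OnePoint K) := by
      rw [← mul_smul, ← mul_smul, Subgroup.coe_inv, ← hinv, inv_mul_cancel_right]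
    rw [hdil, hf x hx0, hdil, hd, hf _ (mul_ne_zero hl hx0)] at h1
    have := hcoe h1
    rw [this, map_inv, Units.val_inv_eq_inv_val, hd]
  -- no two fixed points
  have hnofix : ∀ y z : K, y ≠ z → y ≠ 0 → z ≠ 0 → f y = y → f z ≠ z := by
    intro y z hyz hy0 hz0 hy hzz
    have hmem : v ∈ D2 G (e (y : OnePoint K)) (e (z : OnePoint K)) :=
      mem_D2.mpr ⟨by rw [hf y hy0, hy], by rw [hf z hz0, hzz]⟩
    have hv1 : v ≠ 1 := fun h => by rw [h, one_smul] at va; exact hx.hab va
    have ho : orderOf v = 2 := orderOf_eq_prime (by rw [pow_two, hv2]) hv1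
    have hc : Nat.card (D2 G (e (y : OnePoint K)) (e (z : OnePoint K))) = k := by
      have e1 := card_group hx.zg hx.hab
      rw [card_group hx.zg (hne hyz)] at e1
      exact Nat.eq_of_mul_eq_mul_left (Nat.mul_pos (by have := hx.zg.three; omega) (by have := hx.zg.three; omega)) e1
    have hd := Subgroup.orderOf_dvd_natCard _ hmem
    rw [ho, hc] at hd
    exact Nat.not_even_iff_odd.mpr hkodd (even_iff_two_dvd.mpr hd)
  have hsqf : ∀ l, l ≠ 0 → IsSquare l → f l = f 1 / l := fun l hl hls => by
    have := hlin l 1 hl hls one_ne_zero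
    rw [mul_one] at this
    rw [this, inv_mul_eq_div]
  have hnsq : ∀ x y, ¬ IsSquare x → ¬ IsSquare y → f x = y * f y / x := by
    intro x y hx' hy'
    have hx0 : x ≠ 0 := fun h => hx' (h ▸ IsSquare.zero)
    have hy0 : y ≠ 0 := fun h => hy' (h ▸ IsSquare.zero)
    have hl : IsSquare (x / y) := by
      have h1 := (hns2 _ _ hx' hy').div (⟨y, rfl⟩ : IsSquare (y * y))
      rwa [show x * y / (y * y) = x / y by field_simp] at h1
    have h1 := hlin (x / y) y (div_ne_zero hx0 hy0) hl hy0
    rw [div_mul_cancel₀ x hy0] at h1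
    rw [h1]; field_simp
  set c := f 1 with hc
  have hc0 : c ≠ 0 := hf0 1 one_ne_zero
  have hroot : ∀ y : K, y ≠ 0 → ∃ r, r * r = y * y ∧ IsSquare r := by
    intro y _
    by_cases h : IsSquare y
    · exact ⟨y, rfl, h⟩
    · refine ⟨-1 * y, by ring, hns2 _ _ hm1 h⟩
  have hcns : ¬ IsSquare c := by
    rintro ⟨y, hy⟩
    have hy0 : y ≠ 0 := fun h => hc0 (by rw [hy, h, mul_zero])
    obtain ⟨r, hr, hrs⟩ := hroot y hy0
    have hr0 : r ≠ 0 := fun h => by rw [h, mul_zero] at hr; exact mul_ne_zero hy0 hy0 hr.symm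
    have hfr : f r = r := by rw [hsqf r hr0 hrs, hy, ← hr, mul_div_assoc, div_self hr0, mul_one]
    -- the other kind of element also maps to its own kind
    have hx0 : f (-1) ≠ 0 := hf0 _ hm10
    have hns : ¬ IsSquare (f (-1)) := by
      intro hs
      have h1 := hsqf _ hx0 hs
      rw [hff _ hm10] at h1
      have h2 : f (-1) = -c := by field_simp at h1; linear_combination -h1
      rw [h2] at hs
      refine hm1 ?_
      have := hs.div (⟨y, hy⟩ : IsSquare c)
      rwa [neg_div, div_self hc0] at this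
    obtain ⟨w, hw⟩ := hns2 _ _ hm1 hns
    have hw0 : w ≠ 0 := fun h => by rw [h, mul_zero] at hw; exact mul_ne_zero hm10 hx0 hw
    obtain ⟨s, hs1, hs2⟩ := hroot w hw0
    have hz : ¬ IsSquare (-1 * s) := fun h => hm1 (by
      have hs0 : s ≠ 0 := fun h0 => by rw [h0, mul_zero] at hs1; exact mul_ne_zero hw0 hw0 hs1.symm
      have := h.div hs2
      rwa [mul_div_assoc, div_self hs0, mul_one] at this)
    have hz0 : (-1 * s) ≠ 0 := fun h => hz (h ▸ IsSquare.zero)
    refine hnofix r (-1 * s) (fun h => hz (h ▸ hrs)) hr0 hz0 hfr ?_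
    rw [hnsq _ _ hz hm1, div_eq_iff hz0, hw, ← hs1]
    ring
  have hfc : ∀ x, x ≠ 0 → f x = c / x := by
    intro x hx0
    by_cases hs : IsSquare x
    · exact hsqf x hx0 hs
    have hl : IsSquare (c / x) := by
      have h1 := (hns2 _ _ hcns hs).div (⟨x, rfl⟩ : IsSquare (x * x))
      rwa [show c * x / (x * x) = c / x by field_simp] at h1
    have hl0 : c / x ≠ 0 := div_ne_zero hc0 hx0
    have h1 := hsqf _ hl0 hl
    rw [show c / (c / x) = x by field_simp] at h1
    conv_lhs => rw [← h1]
    rw [hff _ hl0]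
  obtain ⟨dm, hdm⟩ : ∃ d, (χ d : K) = -1 / c := by
    refine hsqχ _ (div_ne_zero hm10 hc0) ?_
    have h1 := (hns2 _ _ hm1 hcns).div (⟨c, rfl⟩ : IsSquare (c * c))
    rwa [show -1 * c / (c * c) = -1 / c by field_simp] at h1
  choose T hTa hT using htr
  let Ψ : G →* Equiv.Perm Ω := MulAction.toPermHom G Ω
  have hΨ : Function.Injective Ψ := fun g g' hgg => by
    refine (inv_mul_eq_one.mp (eq_one_of_fixes_all hx.zg fun p => ?_)).symm
    rw [mul_smul, show g • p = g' • p from congrArg (fun σ : Equiv.Perm Ω => σ p) hgg, inv_smul_smul]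
  let Φ : SL(2, K) →* Equiv.Perm Ω :=
    ((e.permCongrHom).toMonoidHom.comp (MulAction.toPermHom (GL (Fin 2) K) (OnePoint K))).comp
      Matrix.SpecialLinearGroup.toGL
  have hΦ : ∀ (g : SL(2, K)) (p : OnePoint K),
      Φ g (e p) = e ((Matrix.SpecialLinearGroup.toGL g) • p) := fun g p => by
    simp [Φ, Equiv.permCongrHom, Equiv.permCongr_apply]
  have hrange : ∀ g, Φ g ∈ Ψ.range := by
    intro g
    refine mem_of_gens (H := Ψ.range.comap Φ) (fun s => ⟨T s, ?_⟩) ?_ g
    · refine Equiv.ext fun p => ?_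
      obtain ⟨z, rfl⟩ := e.surjective p
      rw [hΦ]
      cases z with
      | infty =>
        show T s • e OnePoint.infty = _
        rw [OnePoint.smul_infty_eq_ite, if_pos (by simp [toGL_apply, coe_upperU]), ea, hTa]
      | coe x =>
        show T s • e (x : OnePoint K) = _
        rw [OnePoint.smul_some_eq_ite, if_neg (by simp [toGL_apply, coe_upperU]), hT]
        simp [toGL_apply, coe_upperU]
    · refine ⟨(dm : G) * v, Equiv.ext fun p => ?_⟩
      obtain ⟨z, rfl⟩ := e.surjective p
      rw [hΦ]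
      show ((dm : G) * v) • e z = _
      cases z with
      | infty =>
        rw [OnePoint.smul_infty_eq_ite, if_neg (by simp [toGL_apply, coe_weylW]), ea, mul_smul, va,
          show (dm : G) • b = b from dm.2.2]
        simp [toGL_apply, coe_weylW, eb]
      | coe x =>
        by_cases hx0 : x = 0
        · subst hx0
          rw [OnePoint.smul_some_eq_ite, if_pos (by simp [toGL_apply, coe_weylW]), mul_smul, eb, vb,
            show (dm : G) • a = a from dm.2.1, ea]
        · rw [OnePoint.smul_some_eq_ite, if_neg (by simpa [toGL_apply, coe_weylW] using hx0), mul_smul, hf x hx0,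
            hfc x hx0, hdil, hdm]
          simp only [toGL_apply, coe_weylW]
          simp
          field_simp
  let eΨ : G ≃* Ψ.range := MonoidHom.ofInjective hΨ
  let ρ : SL(2, K) →* G := eΨ.symm.toMonoidHom.comp (Φ.codRestrict Ψ.range hrange)
  have hker : ρ.ker = Subgroup.center SL(2, K) := by
    ext g
    have h1 : g ∈ ρ.ker ↔ Φ g = 1 := by
      rw [MonoidHom.mem_ker]
      constructor
      · intro h'
        have := eΨ.symm.injective (h'.trans (map_one eΨ.symm).symm)
        exact congrArg Subtype.val this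
      · intro h'
        show eΨ.symm ⟨Φ g, hrange g⟩ = 1
        rw [show (⟨Φ g, hrange g⟩ : Ψ.range) = 1 from Subtype.ext h', map_one]
    rw [h1]
    constructor
    · intro hg
      have hp : ∀ p, (Matrix.SpecialLinearGroup.toGL g) • p = p := fun p => e.injective (by
        rw [← hΦ, hg]; rfl)
      have h10 : (g : Matrix (Fin 2) (Fin 2) K) 1 0 = 0 := OnePoint.smul_infty_eq_self_iff.mp (hp _)
      have hcalc : ∀ x : K, (g : Matrix (Fin 2) (Fin 2) K) 1 1 ≠ 0 →
          ((g : Matrix (Fin 2) (Fin 2) K) 0 0 * x + (g : Matrix (Fin 2) (Fin 2) K) 0 1) /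
            (g : Matrix (Fin 2) (Fin 2) K) 1 1 = x := by
        intro x hd
        have := hp (x : OnePoint K)
        rw [OnePoint.smul_some_eq_ite, if_neg (by simp [h10, hd])] at this
        have := OnePoint.coe_injective this
        simpa [h10] using this
      have hd : (g : Matrix (Fin 2) (Fin 2) K) 1 1 ≠ 0 := fun h0 => by
        have h : Matrix.det (g : Matrix (Fin 2) (Fin 2) K) = 1 := g.det_coe
        rw [Matrix.det_fin_two, h10, h0] at h
        simp at h
      have h01 : (g : Matrix (Fin 2) (Fin 2) K) 0 1 = 0 := by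
        have := hcalc 0 hd
        simpa [hd] using this
      have h00 : (g : Matrix (Fin 2) (Fin 2) K) 0 0 = (g : Matrix (Fin 2) (Fin 2) K) 1 1 := by
        have := hcalc 1 hd
        rw [h01, mul_one, add_zero, div_eq_one_iff_eq hd] at this
        exact this
      refine Matrix.SpecialLinearGroup.mem_center_iff.mpr ⟨(g : Matrix (Fin 2) (Fin 2) K) 0 0, ?_, ?_⟩
      · have h : Matrix.det (g : Matrix (Fin 2) (Fin 2) K) = 1 := g.det_coe
        rw [Matrix.det_fin_two, h10, h01, ← h00] at h
        rw [Fintype.card_fin]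
        linear_combination h
      · ext i j
        fin_cases i <;> fin_cases j <;> simp [h10, h01, h00]
    · intro hg
      obtain ⟨r, hr, hrg⟩ := Matrix.SpecialLinearGroup.mem_center_iff.mp hg
      have hr0 : r ≠ 0 := by
        intro h0; rw [h0, Fintype.card_fin] at hr; simp at hr
      refine Equiv.ext fun p => ?_
      obtain ⟨z, rfl⟩ := e.surjective p
      rw [hΦ, Equiv.Perm.one_apply]
      congr 1
      have hent : ∀ i j, (g : Matrix (Fin 2) (Fin 2) K) i j = if i = j then r else 0 := fun i j => by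
        rw [← hrg]; simp [Matrix.scalar_apply, Matrix.diagonal]
      cases z with
      | infty => rw [OnePoint.smul_infty_eq_ite, if_pos (by simp [hent])]
      | coe x =>
        rw [OnePoint.smul_some_eq_ite, if_neg (by simp [hent, hr0])]
        simp [hent, hr0]
  have hinj := QuotientGroup.kerLift_injective ρ
  have hPcard : Nat.card G = Nat.card (ProjectiveSpecialLinearGroup (Fin 2) K) := by
    have hP : 2 * Nat.card (ProjectiveSpecialLinearGroup (Fin 2) K) =
        Fintype.card K * ((Fintype.card K - 1) * (Fintype.card K + 1)) := by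
      have := CfsgLib.SL2.card_PSL (F := K)
      rw [Nat.card_eq_fintype_card (α := K), show Nat.gcd 2 (Fintype.card K - 1) = 2 from
        Nat.gcd_eq_left (Dvd.intro k (by omega))] at this
      exact this
    have hG := card_group hx.zg hx.hab
    rw [hx.two_mul, ← hk] at hG
    rw [hcard] at hP
    have h2 : 2 * Nat.card G = (2 * k + 1) * ((2 * k + 1 - 1) * (2 * k + 1 + 1)) := by
      rw [hG, show 2 * k + 2 - 1 = 2 * k + 1 by omega, show 2 * k + 1 - 1 = 2 * k by omega]; ring
    omega
  let π : ProjectiveSpecialLinearGroup (Fin 2) K →* G :=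
    (QuotientGroup.kerLift ρ).comp (QuotientGroup.quotientMulEquivOfEq hker.symm).toMonoidHom
  have hπ : Function.Injective π := hinj.comp (MulEquiv.injective _)
  exact ⟨(MulEquiv.ofBijective π ((Nat.bijective_iff_injective_and_card π).mpr ⟨hπ, hPcard.symm⟩)).symm⟩

end AbExt

end CfsgLib.Zassenhaus
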