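import Cfsg.Agent.Lib.Zassenhaus.OddKernelMain
import Cfsg.Agent.Lib.Zassenhaus.NormalSubgroup
import Cfsg.Agent.Lib.Zassenhaus.SimpleEven

/-!
# Non-abelian regular subgroups for two-point stabilizers of odd order

Such a subgroup is a 2-group whose abelianization has order at most `4 k² + 1`.
-/

set_option autoImplicit false
set_option linter.style.haveILetI false
set_option linter.unusedSectionVars false

open MulAction Cfsg
open scoped CfsgLib.Char

universe u w

namespace CfsgLib.Zassenhaus

open CfsgLib.Char.TINilpotent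

variable {Ω : Type w}

/-- A kernel of prime power order with large abelianization is abelian. -/
theorem comm_of_large {G : Type u} [Group G] [Fintype G] [IsSimpleGroup G] {U H : Subgroup G}
    [Fintype U] [Fintype H] (hS : Setting U H) {p : ℕ} [hp : Fact p.Prime] (hU : IsPGroup p U)
    (hkodd : Odd (Nat.card H)) (hk : 2 ≤ Nat.card H) {t₀ : IrrCharacter U} (h0 : t₀ ≠ triv) (hl : deg t₀ = 1)
    (hlarge : 4 * Nat.card H ^ 2 + 1 < (commutator U).index) : ∀ x y : U, x * y = y * x := by
  classical
  set k := Nat.card H with hkdef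
  have hlin : ({φ : IrrCharacter U | φ ≠ triv ∧ deg φ = 1} : Set (IrrCharacter U)).ncard + 1 =
      (commutator U).index := by
    rw [← linear_count, Set.ncard_eq_toFinset_card',
      show ({φ : IrrCharacter U | φ ≠ triv ∧ deg φ = 1} : Set (IrrCharacter U)).toFinset =
        (Finset.univ.filter fun θ : IrrCharacter U => (θ : U → ℂ) 1 = 1).erase triv by
        ext θ; simp [deg_eq_one_iff],
      Finset.card_erase_of_mem (by simp [← deg_eq_one_iff, deg_triv]), Nat.sub_add_cancel]
    exact Finset.card_pos.mpr ⟨triv, by simp [← deg_eq_one_iff, deg_triv]⟩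
  rw [pow_two] at hlarge
  have hk' : 2 * k ≤ k * k := Nat.mul_le_mul_right k hk
  obtain ⟨P, hP, hPall⟩ := exceptional hS h0 hl (by
    rw [← hkdef, mul_add, show k * (2 * k) = 2 * (k * k) by ring]
    omega) fun θ hd T hT => by
    rw [← hkdef]
    set d := deg θ with hddef
    have htot : ∑ φ : IrrCharacter U, deg φ * deg φ = Nat.card U := by
      have h := CfsgLib.Char.sum_sq_degree (G := U)
      simp only [deg_cast, sq] at h
      exact_mod_cast h
    obtain ⟨m, hm⟩ := hU.exists_card_eq
    have hdeg : ∀ φ : IrrCharacter U, ∃ i, deg φ = p ^ i := fun φ => by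
      obtain ⟨n, hn, -, hdvd⟩ := CfsgLib.Char.exists_degree_dvd_card φ.2
      rw [deg_cast, Nat.cast_inj] at hn
      rw [hm, ← hn] at hdvd
      obtain ⟨i, -, hi⟩ := (Nat.dvd_prime_pow hp.out).mp hdvd
      exact ⟨i, hi⟩
    obtain ⟨i, hi⟩ := hdeg θ
    rw [← hddef] at hi
    have hd2k : d ≠ 2 * k := by
      intro e
      have hi0 : i ≠ 0 := fun h => by rw [h, pow_zero] at hi; omega
      have h2 : p = 2 := by
        refine ((Nat.prime_dvd_prime_iff_eq Nat.prime_two hp.out).mp (Nat.prime_two.dvd_of_dvd_pow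
          (n := i) (hi ▸ e ▸ dvd_mul_right 2 k))).symm
      have hk2 : k ∣ 2 ^ i := by rw [← h2, ← hi, e]; exact dvd_mul_left k 2
      have := Nat.Coprime.eq_one_of_dvd (hkodd.coprime_two_right.pow_right i) hk2
      omega
    rcases Nat.lt_or_ge d (2 * k) with hlt | hge
    · -- the linear characters suffice
      have hsub : ({φ : IrrCharacter U | φ ≠ triv ∧ deg φ = 1} : Set (IrrCharacter U)).ncard ≤ T.card := by
        rw [← Set.ncard_coe_finset]
        exact Set.ncard_le_ncard (fun φ hφ => by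
          simp only [Finset.mem_coe, hT]; exact ⟨hφ.1, by rw [hφ.2]; exact hd⟩) T.finite_toSet
      have h1 : T.card ≤ ∑ φ ∈ T, deg φ * deg φ := by
        rw [Finset.card_eq_sum_ones]
        exact Finset.sum_le_sum fun φ _ => Nat.mul_pos (deg_pos φ) (deg_pos φ)
      have h3 : k * (2 * d + 2) ≤ k * (4 * k) := Nat.mul_le_mul_left k (by omega)
      have h4 : k * (4 * k) = 4 * (k * k) := by ring
      omega
    · -- the smaller degrees
      set X := Finset.univ.filter fun φ : IrrCharacter U => deg φ < d with hX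
      have hXT : X = insert triv T := by
        ext φ
        simp only [hX, Finset.mem_filter, Finset.mem_univ, true_and, Finset.mem_insert, hT]
        by_cases h : φ = triv
        · simp [h, deg_triv, hd]
        · simp [h]
      have hpos : 0 < ∑ φ ∈ X, deg φ * deg φ :=
        Finset.sum_pos' (fun _ _ => Nat.zero_le _) ⟨triv, by simp [hXT], by simp [deg_triv]⟩
      have hdvd : d * d ∣ Nat.card U := by
        have hle : d * d ≤ Nat.card U :=
          htot ▸ Finset.single_le_sum (f := fun x => deg x * deg x) (fun _ _ => Nat.zero_le _) (Finset.mem_univ θ)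
        rw [hi, ← pow_add, hm] at hle ⊢
        exact pow_dvd_pow p ((Nat.pow_le_pow_iff_right hp.out.one_lt).mp hle)
      have hXd : d * d ≤ ∑ φ ∈ X, deg φ * deg φ := by
        refine Nat.le_of_dvd hpos ?_
        rw [← htot, ← Finset.sum_filter_add_sum_filter_not Finset.univ (fun φ => deg φ < d)] at hdvd
        refine (Nat.dvd_add_iff_left (Finset.dvd_sum fun φ hφ => ?_)).mpr hdvd
        rw [Finset.mem_filter, not_lt] at hφ
        obtain ⟨j, hj⟩ := hdeg φ
        rw [hi, hj] at hφ ⊢
        exact mul_dvd_mul (pow_dvd_pow p ((Nat.pow_le_pow_iff_right hp.out.one_lt).mp hφ.2))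
          (pow_dvd_pow p ((Nat.pow_le_pow_iff_right hp.out.one_lt).mp hφ.2))
      rw [hXT, Finset.sum_insert (by simp [hT]), deg_triv] at hXd
      have h3 : d * (2 * k + 1) ≤ d * d := Nat.mul_le_mul_left d (by omega)
      nlinarith
  exact comm_of_linear h0 (P := P) (by rw [hP]; exact one_ne_zero) fun θ hθ => by
    rw [(hPall θ hθ).deg_eq, hl]

/-- In a simple group. -/
theorem feit_nonabelian_simple {G : Type u} [Group G] [MulAction G Ω] [Finite G] [IsSimpleGroup G]
    (hz : ZG G Ω) {a b : Ω} (hab : a ≠ b) (hne : D2 G a b ≠ ⊥) (hodd : Odd (Nat.card (D2 G a b)))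
    {U : Subgroup G} (hU : RegKernel a U) (hna : ¬ ∀ x y : U, x * y = y * x) :
    IsPGroup 2 U ∧ (commutator U).index ≤ 4 * Nat.card (D2 G a b) ^ 2 + 1 := by
  classical
  haveI := Fintype.ofFinite G
  haveI := Fintype.ofFinite U
  haveI := Fintype.ofFinite (D2 G a b)
  haveI := Fintype.ofFinite (stabilizer G a)
  obtain ⟨v, hv, hO⟩ := exists_oddInv hz hab hne hodd hU
  haveI := hU.nil
  have hS := hU.setting hz hab.symm
  obtain ⟨p, hp, hUp⟩ := exists_isPGroup hS hO.nt
  haveI := Fact.mk hp
  have hp2 : p = 2 := by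
    by_contra h
    obtain ⟨n, hn⟩ := hUp.exists_card_eq
    exact hna (OddInv.comm_odd hO hv (hn ▸ (hp.odd_of_ne_two h).pow) hUp)
  subst hp2
  refine ⟨hUp, ?_⟩
  by_contra h
  obtain ⟨t₀, h0, hl⟩ := OddInv.exists_linear hO
  exact hna (comm_of_large hS hUp hodd hO.nt h0 hl (by omega))

/-- In a group without a regular normal subgroup. -/
theorem feit_nonabelian {G : Type u} [Group G] [MulAction G Ω] [Finite G] (hz : ZG G Ω)
    (hreg : ∀ M : Subgroup G, M.Normal → IsPretransitive M Ω → ∃ a : Ω, stabilizer M a ≠ ⊥)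
    {a b : Ω} (hab : a ≠ b) (hne : D2 G a b ≠ ⊥) (hodd : Odd (Nat.card (D2 G a b)))
    {U : Subgroup G} (hU : RegKernel a U) (hna : ¬ ∀ x y : U, x * y = y * x) :
    IsPGroup 2 U ∧ (commutator U).index ≤ 4 * Nat.card (D2 G a b) ^ 2 + 1 := by
  induction hn : Nat.card G using Nat.strong_induction_on generalizing G with
  | _ n ih =>
  classical
  haveI := finite_points hz
  subst hn
  haveI : Nontrivial G := by
    obtain ⟨x, -, hx⟩ := (D2 G a b).bot_or_exists_ne_one.resolve_left hne
    exact nontrivial_of_ne x 1 hx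
  by_cases hsimp : IsSimpleGroup G
  · exact feit_nonabelian_simple hz hab hne hodd hU hna
  obtain ⟨N, hN, hNne, hNtop⟩ : ∃ N : Subgroup G, N.Normal ∧ N ≠ ⊥ ∧ N ≠ ⊤ := by
    by_contra h
    push Not at h
    exact hsimp ⟨fun N hN => or_iff_not_imp_left.mpr (h N hN)⟩
  haveI := hN
  -- the normal subgroup is again of this kind
  have hz' : ZG N Ω := by
    refine ⟨fun x y x' y' hxy hxy' => ?_, fun g => fun c d e h1 h2 h3 g1 g2 g3 => ?_, hz.three⟩
    · obtain ⟨m, hm, h1, h2⟩ := normal_two_transitive hz hreg N hNne hxy hxy'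
      exact ⟨⟨m, hm⟩, h1, h2⟩
    · exact Subtype.ext (hz.free g c d e h1 h2 h3 g1 g2 g3)
  have hreg' : ∀ M : Subgroup N, M.Normal → IsPretransitive M Ω → ∃ a : Ω, stabilizer M a ≠ ⊥ :=
    fun M hM hMt => normal_no_regular hz hreg N hNne M
  -- it contains the regular subgroup
  have hUN : U ≤ N := by
    have himg : (Subtype.val : N → G) '' kerSet N a = kerSet G a := by
      refine Set.eq_of_subset_of_ncard_le ?_ ?_ (Set.toFinite _)
      · rintro _ ⟨g, rfl | ⟨h1, h2⟩, rfl⟩
        · exact Or.inl rfl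
        · exact Or.inr ⟨h1, h2⟩
      · rw [Set.ncard_image_of_injective _ Subtype.val_injective, ncard_kerSet hz, ncard_kerSet hz']
    intro u hu
    have hu' : u ∈ kerSet G a := reg_eq_kerSet hz hab.symm hU.le hU.reg ▸ hu
    rw [← himg] at hu'
    obtain ⟨g, -, rfl⟩ := hu'
    exact g.2
  have hcard' : Nat.card (D2 N a b) = Nat.card (N ⊓ D2 G a b : Subgroup G) :=
    Nat.card_congr
      { toFun := fun g => ⟨((g : N) : G), (g : N).2, g.2.1, g.2.2⟩
        invFun := fun g => ⟨⟨g.1, g.2.1⟩, g.2.2.1, g.2.2.2⟩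
        left_inv := fun _ => rfl
        right_inv := fun _ => rfl }
  have hdvd : Nat.card (D2 N a b) ∣ Nat.card (D2 G a b) :=
    hcard' ▸ Subgroup.card_dvd_of_le inf_le_right
  have hlt : Nat.card N < Nat.card G := by
    refine lt_of_le_of_ne (Nat.le_of_dvd Nat.card_pos N.card_subgroup_dvd_card) fun e => hNtop ?_
    exact Subgroup.eq_top_of_card_eq N e
  have hne' : D2 N a b ≠ ⊥ := by
    obtain ⟨m, hm, hm1, c, d, hcd, hmc, hmd⟩ := exists_two_fixed hz hreg N hNne
    obtain ⟨g, hgc, hgd⟩ := hz'.trans c d a b hcd hab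
    intro h
    have hmem : g * ⟨m, hm⟩ * g⁻¹ ∈ D2 N a b := mem_D2.mpr
      ⟨by rw [← hgc, mul_smul, mul_smul, inv_smul_smul]; exact congrArg (g • ·) hmc,
       by rw [← hgd, mul_smul, mul_smul, inv_smul_smul]; exact congrArg (g • ·) hmd⟩
    rw [h, Subgroup.mem_bot, conj_eq_one_iff] at hmem
    exact hm1 (congrArg Subtype.val hmem)
  let e : U.subgroupOf N ≃* U := Subgroup.subgroupOfEquivOfLe hUN
  have hU' : RegKernel a (U.subgroupOf N) :=
    { le := fun u hu => hU.le hu
      normal := fun h hh u hu => hU.normal h hh u hu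
      reg := fun c d hc hd => by
        obtain ⟨u, hu, huu⟩ := hU.reg c d hc hd
        refine ⟨e.symm u, hu, fun w hw => ?_⟩
        exact e.injective ((huu (e w) hw).trans (e.apply_symm_apply u).symm)
      nil := by haveI := hU.nil; exact Group.nilpotent_of_surjective e.symm.toMonoidHom e.symm.surjective }
  obtain ⟨h2, hi⟩ := ih _ hlt hz' hreg' hne' (hodd.of_dvd_nat hdvd) hU'
    (fun h => hna fun x y => e.symm.injective (by rw [map_mul, map_mul, h])) rfl
  refine ⟨h2.of_equiv e, ?_⟩
  have hindex : (commutator (U.subgroupOf N)).index = (commutator U).index := by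
    rw [← Subgroup.index_map_equiv (commutator (U.subgroupOf N)) e]
    congr 1
    rw [_root_.commutator_def, _root_.commutator_def, Subgroup.map_commutator,
      Subgroup.map_top_of_surjective _ e.surjective]
  rw [← hindex]
  exact hi.trans (Nat.add_le_add_right (Nat.mul_le_mul_left 4 (Nat.pow_le_pow_left
    (Nat.le_of_dvd Nat.card_pos hdvd) 2)) 1)

end CfsgLib.Zassenhaus
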