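import Cfsg.Agent.Lib.Zassenhaus.SuzukiSquare
import Cfsg.Agent.Lib.PGroup.SuzukiTypeA
import Cfsg.Prelude.Def_LieExceptional
import Cfsg.Prelude.Def_Exceptional

/-!
# Simple Zassenhaus groups with a non-abelian regular 2-subgroup have Suzuki's orders
-/

set_option autoImplicit false
set_option linter.style.haveILetI false

open MulAction Cfsg

namespace CfsgLib.Zassenhaus

variable {G Ω : Type*} [Group G] [Finite G] [MulAction G Ω] [IsSimpleGroup G]

theorem D2_ne_bot (hZ : Cfsg.IsZassenhausGroup G Ω) (hz : ZG G Ω) {a b : Ω} (hab : a ≠ b) :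
    D2 G a b ≠ ⊥ := by
  obtain ⟨g, hg1, c, d, hcd, hgc, hgd⟩ := hZ.2.2.2.1
  obtain ⟨t, hta, htb⟩ := hz.trans c d a b hcd hab
  intro h
  have hm : t * g * t⁻¹ ∈ D2 G a b := mem_D2.mpr
    ⟨by rw [← hta, mul_smul, mul_smul, inv_smul_smul, hgc],
     by rw [← htb, mul_smul, mul_smul, inv_smul_smul, hgd]⟩
  rw [h, Subgroup.mem_bot] at hm
  exact hg1 (conj_eq_one_iff.mp hm)

/-- The two-point stabilizer, the degree, and the regular subgroup. -/
theorem suzuki_case (hz : ZG G Ω) {a b : Ω} (hab : a ≠ b) (hne : D2 G a b ≠ ⊥)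
    {U : Subgroup G} (hU : RegKernel a U) (hU2 : IsPGroup 2 U) (hna : ∃ x y : U, x * y ≠ y * x) :
    ∃ n : ℕ, Odd n ∧ 1 < n ∧ Nat.card Ω = (2 ^ n) ^ 2 + 1 ∧ Nat.card (D2 G a b) = 2 ^ n - 1 ∧
      IsCyclic (D2 G a b) ∧ ∃ (F : Type) (_ : Field F) (_ : Fintype F) (φ : F ≃+* F),
        Fintype.card F = 2 ^ n ∧ Nonempty (U ≃* Cfsg.suzukiTypeA F (φ : F →+* F)) := by
  classical
  haveI := Fintype.ofFinite G
  haveI : Nontrivial U :=
    (Subgroup.nontrivial_iff_ne_bot U).mpr (hU.setting hz hab.symm).ne_bot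
  have hodd : Odd (Nat.card (D2 G a b)) := by
    obtain ⟨n, hn0, hn⟩ := hU2.nontrivial_iff_card.mp inferInstance
    refine Odd.of_dvd_nat ?_ (card_D2_dvd hz hab)
    rw [show Nat.card Ω - 2 = Nat.card U - 1 by rw [hU.card_eq hz hab.symm]; omega, hn]
    exact Nat.Even.sub_odd Nat.one_le_two_pow (Nat.even_pow.mpr ⟨even_two, hn0.ne'⟩) odd_one
  obtain ⟨v, hv, hO⟩ := exists_oddInv hz hab hne hodd hU
  obtain ⟨n, hnodd, hn1, hk, hcard, K, hK, hinv⟩ := OddInv.suzuki_structure hO hv hU2 hna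
  obtain ⟨F, iF, iFin, φ, hF, -, -, hiso⟩ :=
    CfsgLib.SuzukiTypeA.type_a hK hna (by rw [hcard, hinv])
  refine ⟨n, hnodd, hn1, ?_, by omega, (odd_stab hz hab hne hodd).1,
    F, iF, iFin, φ, by rw [hF, hinv], hiso⟩
  rw [← hcard, hU.card_eq hz hab.symm]
  have := hz.three
  omega

/-- The group is a Suzuki group in the sense of its order. -/
theorem isSuzuki_of_case (hz : ZG G Ω) {a b : Ω} (hab : a ≠ b) (hne : D2 G a b ≠ ⊥)
    {U : Subgroup G} (hU : RegKernel a U) (hU2 : IsPGroup 2 U) (hna : ∃ x y : U, x * y ≠ y * x) :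
    Cfsg.IsSuzuki G := by
  obtain ⟨n, ⟨m, hm⟩, hn1, hΩ, hk, -, -⟩ := suzuki_case hz hab hne hU hU2 hna
  refine ⟨inferInstance, m, by omega, ?_⟩
  rw [card_group hz hab, hΩ, hk, Nat.add_sub_cancel, hm]
  ring

end CfsgLib.Zassenhaus
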