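import Cfsg.Agent.Lib.Zassenhaus.Basic
import Cfsg.Agent.Lib.FrobCompl.Conjugate
import Cfsg.Agent.Lib.FrobCompl.Fpf
import Cfsg.Agent.Lib.Char.TINilpotent

/-!
# The nilpotent regular normal subgroup of a point stabilizer in a Zassenhaus group
-/

set_option autoImplicit false
set_option linter.style.haveILetI false
set_option linter.unusedSectionVars false

open MulAction

namespace CfsgLib.Zassenhaus

/-- `U` is normal in the stabilizer of `a`, nilpotent, and regular on the other points. -/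
structure RegKernel {G Ω : Type*} [Group G] [MulAction G Ω] (a : Ω) (U : Subgroup G) : Prop where
  le : U ≤ stabilizer G a
  normal : ∀ h ∈ stabilizer G a, ∀ u ∈ U, h * u * h⁻¹ ∈ U
  reg : ∀ c d : Ω, c ≠ a → d ≠ a → ∃! u : U, (u : G) • c = d
  nil : Group.IsNilpotent U

variable {G Ω : Type*} [Group G] [MulAction G Ω] [Finite G] (hz : ZG G Ω)
include hz

theorem exists_regKernel {a b : Ω} (hab : a ≠ b) (hne : D2 G a b ≠ ⊥) :
    ∃ U : Subgroup G, RegKernel a U := by
  classical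
  haveI := finite_points hz
  set X := stabilizer G a with hX
  let C : Subgroup X := (stabilizer G b).subgroupOf X
  have memC : ∀ x : X, x ∈ C ↔ (x : G) • b = b := fun x => Iff.rfl
  have hC : Cfsg.IsFrobeniusComplement C := by
    refine ⟨fun h => hne ?_, fun h => ?_, fun g hg => ?_⟩
    · rw [Subgroup.eq_bot_iff_forall]
      intro x hx
      have : (⟨x, hx.1⟩ : X) ∈ C := hx.2
      rw [h, Subgroup.mem_bot] at this
      exact congrArg Subtype.val this
    · obtain ⟨c, hca, hcb⟩ := exists_third hz a b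
      obtain ⟨g, hg1, hg2⟩ := hz.trans a b a c hab (Ne.symm hca)
      have : (⟨g, hg1⟩ : X) ∈ C := h ▸ Subgroup.mem_top _
      rw [memC] at this
      exact hcb (hg2.symm.trans this)
    · rw [Subgroup.eq_bot_iff_forall]
      rintro x ⟨hx, y, hy, rfl⟩
      refine Subtype.ext (hz.free _ a b ((g : G) • b) hab (fun e => hg e.symm)
        (fun e => hab ((smul_left_cancel_iff (g : G)).mp (show (g : G) • a = (g : G) • b from
          (show (g : G) • a = a from g.2).trans e))) (MulAut.conj g y).2 hx ?_)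
      show ((g : G) * (y : G) * (g : G)⁻¹) • (g : G) • b = (g : G) • b
      rw [smul_smul, inv_mul_cancel_right, mul_smul, (memC y).mp hy]
  obtain ⟨K, hK, hKn, hKc⟩ := CfsgLib.FrobCompl.exists_kernel_complement hC
  haveI := CfsgLib.FrobCompl.kernel_isNilpotent hC hKn hKc
  have hfree : ∀ k ∈ K, ∀ c : Ω, c ≠ a → (k : G) • c = c → k = 1 := by
    intro k hk c hca hkc
    rw [← SetLike.mem_coe, hK] at hk
    refine hk.resolve_right fun h => ?_
    obtain ⟨g, hg1, hg2⟩ := hz.trans a b a c hab (Ne.symm hca)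
    refine h ⟨g, hg1⟩ ⟨(⟨g, hg1⟩ : X)⁻¹ * k * ⟨g, hg1⟩, ?_, ?_⟩
    · show (g⁻¹ * (k : G) * g) • b = b
      rw [mul_smul, mul_smul, hg2, hkc, ← hg2, inv_smul_smul]
    · show (⟨g, hg1⟩ : X) * ((⟨g, hg1⟩ : X)⁻¹ * k * ⟨g, hg1⟩) * (⟨g, hg1⟩ : X)⁻¹ = k
      group
  refine ⟨K.map X.subtype, fun u hu => ?_, fun h hh u hu => ?_, fun c d hc hd => ?_, ?_⟩
  · obtain ⟨x, -, rfl⟩ := hu
    exact x.2
  · obtain ⟨x, hx, rfl⟩ := hu
    exact ⟨⟨h, hh⟩ * x * (⟨h, hh⟩ : X)⁻¹, hKn.conj_mem x hx _, rfl⟩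
  · haveI := Fintype.ofFinite Ω
    obtain ⟨g, hg1, hg2⟩ := hz.trans a b a c hab (Ne.symm hc)
    obtain ⟨h, hh1, hh2⟩ := hz.trans a b a d hab (Ne.symm hd)
    -- split `h g⁻¹` along the stabilizer of `c`
    haveI := hKn
    obtain ⟨k, hk, y, hy, e⟩ : ∃ k ∈ K, ∃ y ∈ C, k * y = (⟨h, hh1⟩ : X) :=
      CfsgLib.FrobCompl.exists_kernel_mul hKc _
    obtain ⟨l, hl, z, hz', e'⟩ : ∃ k ∈ K, ∃ y ∈ C, k * y = (⟨g, hg1⟩ : X) :=
      CfsgLib.FrobCompl.exists_kernel_mul hKc _
    have hkb : (k : G) • b = d := by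
      rw [← hh2, show h = (k : G) * (y : G) from (congrArg Subtype.val e).symm, mul_smul, (memC y).mp hy]
    have hlb : (l : G) • b = c := by
      rw [← hg2, show g = (l : G) * (z : G) from (congrArg Subtype.val e').symm, mul_smul, (memC z).mp hz']
    refine ⟨⟨(k : G) * (l : G)⁻¹, k * l⁻¹, K.mul_mem hk (K.inv_mem hl), rfl⟩, ?_, ?_⟩
    · show ((k : G) * (l : G)⁻¹) • c = d
      rw [mul_smul, ← hlb, inv_smul_smul, hkb]
    · rintro ⟨_, m, hm, rfl⟩ hmc
      refine Subtype.ext ?_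
      have : (k * l⁻¹)⁻¹ * m = 1 := hfree _ (K.mul_mem (K.inv_mem (K.mul_mem hk (K.inv_mem hl))) hm) c hc (by
        show (((k : G) * (l : G)⁻¹)⁻¹ * (m : G)) • c = c
        rw [mul_smul, show (m : G) • c = d from hmc, inv_smul_eq_iff, mul_smul, ← hlb, inv_smul_smul, hkb])
      exact congrArg (Subtype.val : X → G) (inv_mul_eq_one.mp this).symm
  · exact Group.nilpotent_of_surjective (K.equivMapOfInjective X.subtype X.subtype_injective).toMonoidHom
      (K.equivMapOfInjective X.subtype X.subtype_injective).surjective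

namespace RegKernel

variable {a : Ω} {U : Subgroup G} (hK : RegKernel a U)
include hK

theorem free {u : G} (hu : u ∈ U) {c : Ω} (hc : c ≠ a) (h : u • c = c) : u = 1 :=
  congrArg Subtype.val ((hK.reg c c hc hc).unique (y₁ := ⟨u, hu⟩) (y₂ := 1) h (one_smul G c))

theorem ne_base {u : G} (hu : u ∈ U) {c : Ω} (hc : c ≠ a) : u • c ≠ a := fun h =>
  hc ((smul_left_cancel_iff u).mp (h.trans (show u • a = a from hK.le hu).symm))

theorem card_eq {b : Ω} (hb : b ≠ a) : Nat.card U = Nat.card Ω - 1 := by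
  haveI := finite_points hz
  haveI := Fintype.ofFinite Ω
  classical
  let f : U → {y : Ω // y ≠ a} := fun u => ⟨(u : G) • b, hK.ne_base hz u.2 hb⟩
  have hf : Function.Bijective f := by
    refine ⟨fun u w h => ?_, fun y => ?_⟩
    · exact (hK.reg b _ hb (hK.ne_base hz w.2 hb)).unique (congrArg Subtype.val h) rfl
    · obtain ⟨u, hu, -⟩ := hK.reg b y hb y.2
      exact ⟨u, Subtype.ext hu⟩
  rw [Nat.card_congr (Equiv.ofBijective f hf), Nat.card_eq_fintype_card, Nat.card_eq_fintype_card,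
    Fintype.card_subtype_compl, Fintype.card_subtype_eq]

theorem factor {g : G} (hg : g • a = a) {b : Ω} (hb : b ≠ a) :
    ∃ u ∈ U, ∃ σ ∈ D2 G a b, g = u * σ := by
  have hgb : g • b ≠ a := fun h => hb ((smul_left_cancel_iff g).mp (h.trans hg.symm))
  obtain ⟨⟨u, hu⟩, hub, -⟩ := hK.reg b (g • b) hb hgb
  exact ⟨u, hu, u⁻¹ * g, mem_D2.mpr ⟨by
    rw [mul_smul, hg, inv_smul_eq_iff, show u • a = a from hK.le hu],
    by rw [mul_smul, inv_smul_eq_iff]; exact hub.symm⟩, by rw [mul_inv_cancel_left]⟩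

/-- The data needed by the character theory of self-centralising TI subgroups. -/
theorem setting {b : Ω} (hb : b ≠ a) : CfsgLib.Char.TINilpotent.Setting U (D2 G a b) := by
  haveI := finite_points hz
  have hfree : ∀ h ∈ D2 G a b, ∀ u ∈ U, u ≠ 1 → h * u * h⁻¹ = u → h = 1 := by
    intro h hh u hu h1 e
    exact hz.free h a b (u • b) hb.symm (fun e0 => h1 (hK.free hz hu hb e0.symm))
      (fun e0 => hK.ne_base hz hu hb e0.symm) hh.1 hh.2
      (by rw [smul_smul, mul_inv_eq_iff_eq_mul.mp e, mul_smul, hh.2])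
  have honly : ∀ u ∈ U, u ≠ 1 → ∀ c : Ω, u • c = c → c = a :=
    fun u hu h1 c hc => by_contra fun hca => h1 (hK.free hz hu hca hc)
  refine ⟨fun h hh u hu => hK.normal h hh.1 u hu, ?_, hfree, ?_, fun h => ?_, ?_⟩
  · intro u hu h1 g e
    have hga : g • a = a := honly u hu h1 _ (by
      rw [smul_smul, ← e, mul_smul, show u • a = a from hK.le hu])
    obtain ⟨w, hw, σ, hσ, rfl⟩ := hK.factor hz hga hb
    by_cases hσ1 : σ = 1
    · rw [hσ1, mul_one]; exact hw
    -- `w σ` is conjugate to `σ` by an element of `U`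
    let f : U → U := fun x => ⟨x * (σ * (x : G)⁻¹ * σ⁻¹), U.mul_mem x.2 (hK.normal σ hσ.1 _ (U.inv_mem x.2))⟩
    have hf : Function.Injective f := fun x y e' => by
      have e0 : (x : G) * (σ * (x : G)⁻¹ * σ⁻¹) = (y : G) * (σ * (y : G)⁻¹ * σ⁻¹) := congrArg Subtype.val e'
      by_contra hne
      refine hσ1 (hfree σ hσ ((y : G)⁻¹ * x) (U.mul_mem (U.inv_mem y.2) x.2)
        (fun h0 => hne (Subtype.ext (inv_mul_eq_one.mp h0).symm)) ?_)
      calc σ * ((y : G)⁻¹ * x) * σ⁻¹ = (y : G)⁻¹ * ((y : G) * (σ * (y : G)⁻¹ * σ⁻¹)) * (σ * x * σ⁻¹) := by group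
        _ = _ := by rw [← e0]; group
    obtain ⟨x, hx⟩ := (Finite.injective_iff_surjective.mp hf) ⟨w, hw⟩
    have hx' : (x : G) * (σ * (x : G)⁻¹ * σ⁻¹) = w := congrArg Subtype.val hx
    have hfix : (w * σ) • (x : G) • b = (x : G) • b := by
      rw [smul_smul, show w * σ * (x : G) = x * σ by rw [← hx']; group, mul_smul, show σ • b = b from hσ.2]
    have hone : w * σ = 1 := hz.free _ a ((x : G) • b) (u • (x : G) • b) (Ne.symm (hK.ne_base hz x.2 hb))
      (fun h0 => h1 (hK.free hz hu (hK.ne_base hz x.2 hb) h0.symm))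
      (fun h0 => hK.ne_base hz hu (hK.ne_base hz x.2 hb) h0.symm) hga hfix
      (by rw [smul_smul, e, mul_smul, hfix])
    rw [hone]
    exact U.one_mem
  · intro u hu h1 g hg
    have hga : g • a = a := honly _ hg (fun e => h1 (conj_eq_one_iff.mp e)) _
      (by rw [mul_smul, mul_smul, inv_smul_smul, show u • a = a from hK.le hu])
    exact hK.factor hz hga hb
  · have := hK.card_eq hz hb
    rw [h, Subgroup.card_bot] at this
    have := hz.three
    omega
  · rw [card_group hz hb.symm, hK.card_eq hz hb]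
    have := hz.three
    congr 1
    congr 1
    omega

end RegKernel

end CfsgLib.Zassenhaus
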