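import Cfsg.Agent.Lib.Zassenhaus.Basic
import Cfsg.Agent.Lib.Char.TIAbelianTwo

/-!
# Zassenhaus groups with an abelian regular two-subgroup in the point stabilizer
-/

set_option autoImplicit false
set_option linter.style.haveILetI false
set_option linter.unusedSectionVars false

open MulAction

namespace CfsgLib.Zassenhaus

/-- `U` is an abelian `2`-group, normal in the stabilizer of `a` and regular on the other points. -/
structure EvenKernel {G Ω : Type*} [Group G] [MulAction G Ω] (a : Ω) (U : Subgroup G) : Prop where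
  zg : ZG G Ω
  le : U ≤ stabilizer G a
  normal : ∀ h ∈ stabilizer G a, ∀ u ∈ U, h * u * h⁻¹ ∈ U
  reg : ∀ c d : Ω, c ≠ a → d ≠ a → ∃! u : U, (u : G) • c = d
  two : IsPGroup 2 U
  comm : ∀ u ∈ U, ∀ u' ∈ U, u * u' = u' * u

variable {G Ω : Type*} [Group G] [MulAction G Ω] {a : Ω} {U : Subgroup G} (hK : EvenKernel a U)
include hK

namespace EvenKernel

theorem fix {u : G} (hu : u ∈ U) : u • a = a := hK.le hu

theorem ne_base {u : G} (hu : u ∈ U) {x : Ω} (hx : x ≠ a) : u • x ≠ a := fun h =>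
  hx ((smul_left_cancel_iff u).mp (h.trans (hK.fix hu).symm))

theorem unique {c : Ω} (hc : c ≠ a) {u w : G} (hu : u ∈ U) (hw : w ∈ U) (h : u • c = w • c) : u = w :=
  congrArg Subtype.val ((hK.reg c (w • c) hc (hK.ne_base hw hc)).unique
    (y₁ := ⟨u, hu⟩) (y₂ := ⟨w, hw⟩) h rfl)

theorem eq_one {c : Ω} (hc : c ≠ a) {u : G} (hu : u ∈ U) (h : u • c = c) : u = 1 :=
  hK.unique hc hu U.one_mem (by rw [h, one_smul])

theorem card_points [Finite G] : Nat.card U + 1 = Nat.card Ω := by
  haveI := finite_points hK.zg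
  obtain ⟨b, hb, -⟩ := exists_third hK.zg a a
  let f : U → {y : Ω // y ≠ a} := fun u => ⟨(u : G) • b, hK.ne_base u.2 hb⟩
  have hf : Function.Bijective f := by
    refine ⟨fun u w h => Subtype.ext (hK.unique hb u.2 w.2 (congrArg Subtype.val h)), fun y => ?_⟩
    obtain ⟨u, hu, -⟩ := hK.reg b y hb y.2
    exact ⟨u, Subtype.ext hu⟩
  haveI := Fintype.ofFinite Ω
  classical
  rw [Nat.card_congr (Equiv.ofBijective f hf), Nat.card_eq_fintype_card, Nat.card_eq_fintype_card,
    Fintype.card_subtype_compl, Fintype.card_subtype_eq]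
  have := Fintype.card_pos_iff.mpr ⟨a⟩
  omega

theorem exists_two_pow [Finite G] : ∃ j : ℕ, 0 < j ∧ Nat.card U = 2 ^ j := by
  haveI : Fact (Nat.Prime 2) := ⟨Nat.prime_two⟩
  haveI : Nontrivial U := Finite.one_lt_card_iff_nontrivial.mp (by
    have := hK.card_points; have := hK.zg.three; omega)
  exact hK.two.nontrivial_iff_card.mp inferInstance

theorem even_card [Finite G] : 2 ∣ Nat.card U := by
  obtain ⟨j, hj, e⟩ := hK.exists_two_pow
  exact e ▸ dvd_pow_self 2 hj.ne'

/-- No involution fixes the base point and another point. -/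
theorem no_two_points_base [Finite G] {τ : G} (hτ : τ * τ = 1) (hτa : τ • a = a) {y : Ω} (hya : y ≠ a)
    (hτy : τ • y = y) : τ = 1 := by
  classical
  haveI : Fact (Nat.Prime 2) := ⟨Nat.prime_two⟩
  haveI : Fintype U := Fintype.ofFinite U
  by_contra hτ1
  have hinv : ∀ u : G, τ * (τ * u * τ⁻¹) * τ⁻¹ = u := fun u => by
    rw [inv_eq_of_mul_eq_one_right hτ, ← mul_assoc, ← mul_assoc, hτ, one_mul, mul_assoc, hτ, mul_one]
  let f : Equiv.Perm U :=
    { toFun := fun u => ⟨τ * u * τ⁻¹, hK.normal τ hτa u u.2⟩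
      invFun := fun u => ⟨τ * u * τ⁻¹, hK.normal τ hτa u u.2⟩
      left_inv := fun u => Subtype.ext (hinv u)
      right_inv := fun u => Subtype.ext (hinv u) }
  have hf2 : f ^ 2 ^ 1 = 1 := by
    rw [pow_one, pow_two]; exact Equiv.ext fun u => f.left_inv u
  obtain ⟨u, hu, hu1⟩ := Equiv.Perm.exists_fixed_point_of_prime' (p := 2) (n := 1)
    (by rw [← Nat.card_eq_fintype_card (α := U)]; exact hK.even_card) hf2 (a := (1 : U))
    (Subtype.ext (by show τ * ((1 : U) : G) * τ⁻¹ = 1; simp))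
  apply hτ1
  have hu' : τ * u = (u : G) * τ := by
    have := congrArg Subtype.val hu
    exact mul_inv_eq_iff_eq_mul.mp this
  have hfx : τ • (u : G) • y = (u : G) • y := by rw [smul_smul, hu', mul_smul, hτy]
  exact hK.zg.free τ a y ((u : G) • y) hya.symm
    (fun h => hu1 (Subtype.ext (hK.eq_one hya u.2 h.symm)))
    (fun h => hK.ne_base u.2 hya h.symm) hτa hτy hfx

/-- An involution fixes exactly one point. -/
theorem exists_unique_fixed [Finite G] {i : G} (h2 : i * i = 1) (h1 : i ≠ 1) : ∃! c : Ω, i • c = c := by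
  classical
  haveI : Fact (Nat.Prime 2) := ⟨Nat.prime_two⟩
  haveI := finite_points hK.zg
  haveI := Fintype.ofFinite Ω
  have hperm : (MulAction.toPerm i : Equiv.Perm Ω) ^ 2 ^ 1 = 1 := by
    rw [pow_one, pow_two]; exact Equiv.ext fun z => by simp [smul_smul, h2]
  have hodd : ¬ 2 ∣ Fintype.card Ω := by
    rw [← Nat.card_eq_fintype_card, ← hK.card_points]
    have := hK.even_card
    omega
  obtain ⟨c, hc⟩ := Equiv.Perm.exists_fixed_point_of_prime (p := 2) (n := 1) hodd hperm
  refine ⟨c, hc, fun d hd => ?_⟩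
  by_contra hne
  obtain ⟨x, hxa, -⟩ := exists_third hK.zg a a
  obtain ⟨g, hg1, hg2⟩ := hK.zg.trans c d a x (Ne.symm hne) hxa.symm
  apply h1
  have h := hK.no_two_points_base (τ := g * i * g⁻¹)
    (by calc g * i * g⁻¹ * (g * i * g⁻¹) = g * (i * i) * g⁻¹ := by group
        _ = 1 := by rw [h2]; group)
    (by rw [mul_smul, mul_smul, inv_smul_eq_iff.mpr hg1.symm, show i • c = c from hc, hg1]) hxa
    (by rw [mul_smul, mul_smul, inv_smul_eq_iff.mpr hg2.symm, hd, hg2])
  exact conj_eq_one_iff.mp h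

/-- Factorisation of the stabilizer of the base point. -/
theorem factor {g : G} (hg : g • a = a) {b : Ω} (hb : b ≠ a) :
    ∃ u ∈ U, ∃ σ ∈ D2 G a b, g = u * σ := by
  have hgb : g • b ≠ a := fun h => hb ((smul_left_cancel_iff g).mp (h.trans hg.symm))
  obtain ⟨⟨u, hu⟩, hub, -⟩ := hK.reg b (g • b) hb hgb
  exact ⟨u, hu, u⁻¹ * g, mem_D2.mpr ⟨by
    rw [mul_smul, hg, inv_smul_eq_iff, hK.fix hu],
    by rw [mul_smul, inv_smul_eq_iff]; exact hub.symm⟩,
    by rw [mul_inv_cancel_left]⟩

theorem mem_of_involution [Finite G] {τ : G} (h2 : τ * τ = 1) (hτa : τ • a = a) : τ ∈ U := by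
  obtain ⟨b, hb, -⟩ := exists_third hK.zg a a
  obtain ⟨u, hu, σ, hσ, e⟩ := hK.factor hτa hb
  have hconj : τ * u * τ⁻¹ ∈ U := hK.normal τ hτa u hu
  have hσe : σ = u⁻¹ * τ := by rw [e, inv_mul_cancel_left]
  have hσ2U : σ * σ ∈ U := by
    have : σ * σ = u⁻¹ * (τ * u * τ⁻¹)⁻¹ * (τ * τ) := by rw [hσe]; group
    rw [this, h2, mul_one]
    exact U.mul_mem (U.inv_mem hu) (U.inv_mem hconj)
  have hσ2 : σ * σ = 1 :=
    hK.eq_one hb hσ2U (by rw [mul_smul, show σ • b = b from hσ.2, show σ • b = b from hσ.2])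
  have hσ1 : σ = 1 := hK.no_two_points_base hσ2 hσ.1 hb hσ.2
  rw [e, hσ1, mul_one]
  exact hu

theorem free {b : Ω} (hb : b ≠ a) {h : G} (hh : h ∈ D2 G a b) {u : G} (hu : u ∈ U) (hu1 : u ≠ 1)
    (e : h * u = u * h) : h = 1 :=
  hK.zg.free h a b (u • b) hb.symm (fun e0 => hu1 (hK.eq_one hb hu e0.symm))
    (fun e0 => hK.ne_base hu hb e0.symm) hh.1 hh.2 (by rw [smul_smul, e, mul_smul, hh.2])

theorem only_fix {u : G} (hu : u ∈ U) (hu1 : u ≠ 1) {x : Ω} (h : u • x = x) : x = a := by
  by_contra hx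
  exact hu1 (hK.eq_one hx hu h)

theorem cent {u : G} (hu : u ∈ U) (hu1 : u ≠ 1) {g : G} (e : g * u = u * g) : g ∈ U := by
  obtain ⟨b, hb, -⟩ := exists_third hK.zg a a
  have hga : g • a = a := hK.only_fix hu hu1 (by rw [smul_smul, ← e, mul_smul, hK.fix hu])
  obtain ⟨w, hw, σ, hσ, e'⟩ := hK.factor hga hb
  have hσ1 : σ = 1 := hK.free hb hσ hu hu1 (by
    have h1 : w * (σ * u) = w * (u * σ) := by
      rw [← mul_assoc, ← e', e, e', ← mul_assoc, hK.comm u hu w hw, mul_assoc]
    exact mul_left_cancel h1)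
  rw [e', hσ1, mul_one]
  exact hw

/-- The data of a fixed involution moving `a`. -/
theorem swap_mem {v : G} (hv2 : v * v = 1) {h : G} (hh : h ∈ D2 G a (v • a)) :
    v * h * v ∈ D2 G a (v • a) := by
  refine mem_D2.mpr ⟨?_, ?_⟩ <;> simp only [mul_smul]
  · rw [show h • v • a = v • a from hh.2, smul_smul, hv2, one_smul]
  · rw [smul_smul v v a, hv2, one_smul, show h • a = a from hh.1]

theorem inverts [Finite G] {v : G} (hv1 : v ≠ 1) (hv2 : v * v = 1) (hva : v • a ≠ a) {h : G}
    (hh : h ∈ D2 G a (v • a)) : v * h * v = h⁻¹ := by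
  obtain ⟨c, hc, hcu⟩ := hK.exists_unique_fixed hv2 hv1
  have hca : c ≠ a := fun e => hva (e ▸ hc)
  have hcb : c ≠ v • a := fun e => hva (by
    have h' := hc
    simp only [e] at h'
    rw [smul_smul, hv2, one_smul] at h'
    exact h'.symm)
  let f : D2 G a (v • a) →* D2 G a (v • a) :=
    { toFun := fun h => ⟨v * h * v, hK.swap_mem hv2 h.2⟩
      map_one' := Subtype.ext (by simp [hv2])
      map_mul' := fun x y => Subtype.ext (by
        show v * ((x : G) * y) * v = v * x * v * (v * y * v)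
        calc v * ((x : G) * y) * v = v * x * 1 * y * v := by group
          _ = _ := by rw [← hv2]; group) }
  have hf : MonoidHom.FixedPointFree f := fun x hx => by
    have e : v * (x : G) = x * v := by
      have e1 : v * (x : G) * v = x := congrArg Subtype.val hx
      calc v * (x : G) = v * x * (v * v) := by rw [hv2, mul_one]
        _ = _ := by rw [← mul_assoc, e1]
    have hxc : (x : G) • c = c := hcu _ (by
      show v • (x : G) • c = (x : G) • c
      rw [smul_smul, e, mul_smul, show v • c = c from hc])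
    exact Subtype.ext (hK.zg.free x a (v • a) c (Ne.symm hva) (Ne.symm hcb) (Ne.symm hca) x.2.1 x.2.2 hxc)
  have h2 : Function.Involutive f := fun x => Subtype.ext (by
    show v * (v * x * v) * v = x
    rw [← mul_assoc, ← mul_assoc, hv2, one_mul, mul_assoc, hv2, mul_one])
  exact congrArg Subtype.val (congrFun (hf.coe_eq_inv_of_involutive h2) ⟨h, hh⟩)

theorem counts [Finite G] {v : G} (hv1 : v ≠ 1) (hv2 : v * v = 1) (hva : v • a ≠ a) :
    Nat.card {u : U // u * u = 1} = Nat.card (D2 G a (v • a)) + 1 ∧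
      Nat.card {x : G // x * x = 1} = (Nat.card U + 1) * Nat.card (D2 G a (v • a)) + 1 := by
  classical
  haveI := finite_points hK.zg
  haveI := transitive hK.zg
  haveI := Fintype.ofFinite Ω
  haveI := Fintype.ofFinite G
  have hvb : v • v • a = a := by rw [smul_smul, hv2, one_smul]
  let I := {u : G // u ∈ U ∧ u * u = 1 ∧ u ≠ 1}
  let J := {x : G // x * x = 1 ∧ x ≠ 1}
  let M := {x : G // x * x = 1 ∧ x • a ≠ a}
  -- involutions by their fixed point
  choose p hp using fun y : Ω => exists_smul_eq G a y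
  let f : Ω × I → J := fun z => ⟨p z.1 * z.2.1 * (p z.1)⁻¹, by
    calc p z.1 * z.2.1 * (p z.1)⁻¹ * (p z.1 * z.2.1 * (p z.1)⁻¹)
        = p z.1 * (z.2.1 * z.2.1) * (p z.1)⁻¹ := by group
      _ = 1 := by rw [z.2.2.2.1]; group,
    fun e => z.2.2.2.2 (conj_eq_one_iff.mp e)⟩
  have hfix : ∀ z, (f z : G) • z.1 = z.1 := fun z => by
    show (p z.1 * z.2.1 * (p z.1)⁻¹) • z.1 = z.1
    rw [mul_smul, mul_smul, inv_smul_eq_iff.mpr (hp z.1).symm, hK.fix z.2.2.1, hp]
  have hfu : ∀ z x, (f z : G) • x = x → x = z.1 := fun z x hx =>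
    (hK.exists_unique_fixed (f z).2.1 (f z).2.2).unique hx (hfix z)
  have hf : Function.Bijective f := by
    constructor
    · rintro ⟨y, u⟩ ⟨y', u'⟩ e
      obtain rfl : y = y' := hfu ⟨y', u'⟩ y (e ▸ hfix ⟨y, u⟩)
      exact Prod.ext rfl (Subtype.ext (mul_left_cancel (mul_right_cancel (congrArg Subtype.val e))))
    · rintro ⟨x, hx2, hx1⟩
      obtain ⟨y, hy, -⟩ := hK.exists_unique_fixed hx2 hx1
      have hc : (p y)⁻¹ * x * p y * ((p y)⁻¹ * x * p y) = 1 := by
        calc (p y)⁻¹ * x * p y * ((p y)⁻¹ * x * p y) = (p y)⁻¹ * (x * x) * p y := by group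
          _ = 1 := by rw [hx2]; group
      have ha : ((p y)⁻¹ * x * p y) • a = a := by
        rw [mul_smul, mul_smul, hp, show x • y = y from hy, inv_smul_eq_iff, hp]
      refine ⟨⟨y, ⟨(p y)⁻¹ * x * p y, hK.mem_of_involution hc ha, hc, fun e => hx1 ?_⟩⟩, Subtype.ext ?_⟩
      · calc x = p y * ((p y)⁻¹ * x * p y) * (p y)⁻¹ := by group
          _ = 1 := by rw [e]; group
      · show p y * ((p y)⁻¹ * x * p y) * (p y)⁻¹ = x
        group
  let g : {y : Ω // y ≠ a} × I → M := fun z => ⟨(f (z.1.1, z.2) : G), (f (z.1.1, z.2)).2.1,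
    fun e => z.1.2 (hfu _ a e).symm⟩
  have hg : Function.Bijective g := by
    constructor
    · rintro ⟨y, u⟩ ⟨y', u'⟩ e
      have := hf.1 (a₁ := (y.1, u)) (a₂ := (y'.1, u')) (Subtype.ext (congrArg Subtype.val e :))
      rw [Prod.ext_iff] at this
      exact Prod.ext (Subtype.ext this.1) this.2
    · rintro ⟨x, hx2, hxa⟩
      obtain ⟨⟨y, u⟩, e⟩ := hf.2 ⟨x, hx2, fun h => hxa (by rw [h, one_smul])⟩
      refine ⟨⟨⟨y, fun hy => hxa ?_⟩, u⟩, Subtype.ext (congrArg Subtype.val e :)⟩
      have h0 := hfix (y, u)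
      simp only [e] at h0
      rw [← hy]; exact h0
  -- involutions moving `a`
  let k : U × D2 G a (v • a) → M := fun z =>
    ⟨(z.1 : G) * (v * z.2) * (z.1 : G)⁻¹, by
      calc (z.1 : G) * (v * z.2) * (z.1 : G)⁻¹ * ((z.1 : G) * (v * z.2) * (z.1 : G)⁻¹)
          = (z.1 : G) * ((v * z.2 * v) * z.2) * (z.1 : G)⁻¹ := by group
        _ = 1 := by rw [hK.inverts hv1 hv2 hva z.2.2]; group,
      by
        rw [mul_smul, mul_smul, mul_smul, hK.fix (U.inv_mem z.1.2), show (z.2 : G) • a = a from z.2.2.1]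
        exact hK.ne_base z.1.2 hva⟩
  have hka : ∀ z, (k z : G) • a = (z.1 : G) • v • a := fun z => by
    show ((z.1 : G) * (v * z.2) * (z.1 : G)⁻¹) • a = _
    rw [mul_smul, mul_smul, mul_smul, hK.fix (U.inv_mem z.1.2), show (z.2 : G) • a = a from z.2.2.1]
  have hk : Function.Bijective k := by
    constructor
    · rintro ⟨u, h⟩ ⟨u', h'⟩ e
      obtain rfl : u = u' := Subtype.ext (hK.unique hva u.2 u'.2 (by
        rw [← hka ⟨u, h⟩, ← hka ⟨u', h'⟩, e]))
      exact Prod.ext rfl (Subtype.ext (mul_left_cancel (mul_left_cancel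
        (mul_right_cancel (congrArg Subtype.val e)))))
    · rintro ⟨x, hx2, hxa⟩
      obtain ⟨⟨u, hu⟩, hub, -⟩ := hK.reg (v • a) (x • a) hva hxa
      have hj2 : u⁻¹ * x * u * (u⁻¹ * x * u) = 1 := by
        calc u⁻¹ * x * u * (u⁻¹ * x * u) = u⁻¹ * (x * x) * u := by group
          _ = 1 := by rw [hx2]; group
      have hja : (u⁻¹ * x * u) • a = v • a := by
        rw [mul_smul, mul_smul, hK.fix hu, inv_smul_eq_iff]; exact hub.symm
      have hjb : (u⁻¹ * x * u) • v • a = a := by rw [← hja, smul_smul, hj2, one_smul]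
      refine ⟨⟨⟨u, hu⟩, ⟨v * (u⁻¹ * x * u), mem_D2.mpr ⟨?_, ?_⟩⟩⟩, Subtype.ext ?_⟩
      · rw [mul_smul, hja, hvb]
      · rw [mul_smul, hjb]
      · show u * (v * (v * (u⁻¹ * x * u))) * u⁻¹ = x
        rw [← mul_assoc v v, hv2, one_mul]; group
  have hIH : Nat.card I = Nat.card (D2 G a (v • a)) := by
    have h1 := Nat.card_congr (Equiv.ofBijective g hg)
    rw [← Nat.card_congr (Equiv.ofBijective k hk), Nat.card_prod, Nat.card_prod] at h1
    have h2 : Nat.card {y : Ω // y ≠ a} = Nat.card U := by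
      rw [Nat.card_eq_fintype_card, Fintype.card_subtype_compl, Fintype.card_subtype_eq,
        ← Nat.card_eq_fintype_card, ← hK.card_points, Nat.add_sub_cancel]
    rw [h2] at h1
    exact Nat.eq_of_mul_eq_mul_left Nat.card_pos h1
  constructor
  · rw [← hIH]
    let e : Option I ≃ {u : U // u * u = 1} :=
      { toFun := fun o => o.elim ⟨1, one_mul 1⟩ fun u => ⟨⟨u.1, u.2.1⟩, Subtype.ext u.2.2.1⟩
        invFun := fun u => if h : (u.1 : G) = 1 then none else some ⟨u.1, u.1.2, congrArg Subtype.val u.2, h⟩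
        left_inv := fun o => by
          cases o with
          | none => exact dif_pos rfl
          | some u => exact dif_neg u.2.2.2
        right_inv := fun u => by
          by_cases h : (u.1 : G) = 1
          · dsimp only; rw [dif_pos h]; exact Subtype.ext (Subtype.ext h.symm)
          · dsimp only; rw [dif_neg h]; rfl }
    rw [← Nat.card_congr e, Finite.card_option]
  · let e : Option J ≃ {x : G // x * x = 1} :=
      { toFun := fun o => o.elim ⟨1, one_mul 1⟩ fun u => ⟨u.1, u.2.1⟩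
        invFun := fun u => if h : u.1 = 1 then none else some ⟨u.1, u.2, h⟩
        left_inv := fun o => by
          cases o with
          | none => exact dif_pos rfl
          | some u => exact dif_neg u.2.2
        right_inv := fun u => by
          by_cases h : u.1 = 1
          · dsimp only; rw [dif_pos h]; exact Subtype.ext h.symm
          · dsimp only; rw [dif_neg h]; rfl }
    rw [← Nat.card_congr e, Finite.card_option, ← Nat.card_congr (Equiv.ofBijective f hf), Nat.card_prod,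
      hIH, hK.card_points]

/-- In a simple group the kernel is elementary abelian. -/
theorem exponent_two [Finite G] [IsSimpleGroup G] {v : G} (hv1 : v ≠ 1) (hv2 : v * v = 1)
    (hva : v • a ≠ a) : ∀ u ∈ U, u * u = 1 := by
  have hc := hK.counts hv1 hv2 hva
  refine CfsgLib.Char.TIAbelianTwo.exponent_two (H := D2 G a (v • a))
    ⟨hK.comm, fun h hh u hu => hK.normal h hh.1 u hu, fun u hu h1 g e => hK.cent hu h1 e,
      fun h hh u hu h1 e => hK.free hva hh hu h1 (mul_inv_eq_iff_eq_mul.mp e), ?_, hc.1, ?_, hc.2⟩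
  · intro u hu hu1 g hg
    have hga : g • a = a := hK.only_fix hg (fun e => hu1 (conj_eq_one_iff.mp e))
      (by rw [mul_smul, mul_smul, inv_smul_smul, hK.fix hu])
    obtain ⟨w, hw, σ, hσ, rfl⟩ := hK.factor hga hva
    refine ⟨σ, hσ, ?_⟩
    rw [show w * σ * u * (w * σ)⁻¹ = w * (σ * u * σ⁻¹) * w⁻¹ by group,
      hK.comm w hw _ (hK.normal σ hσ.1 u hu), mul_inv_cancel_right]
  · rw [card_group hK.zg (Ne.symm hva), ← hK.card_points, Nat.add_sub_cancel]

/-- Suzuki's structure equation. -/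
theorem structure_equation [Finite G] [IsSimpleGroup G] {v : G} (hv1 : v ≠ 1) (hv2 : v * v = 1)
    (hva : v • a ≠ a) : ∃! u₀ : G, u₀ ∈ U ∧ u₀ ≠ 1 ∧ v * u₀ * v = u₀ * v * u₀ := by
  have hvb : v • v • a = a := by rw [smul_smul, hv2, one_smul]
  obtain ⟨c, hc, hcu⟩ := hK.exists_unique_fixed hv2 hv1
  have hca : c ≠ a := fun e => hva (e ▸ hc)
  have hcb : c ≠ v • a := fun e => hva (by
    have h' := hc
    simp only [e] at h'
    rw [hvb] at h'
    exact h'.symm)
  obtain ⟨⟨u, hu⟩, hub, -⟩ := hK.reg (v • a) c hva hca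
  simp only at hub
  have hu2 : u * u = 1 := hK.exponent_two hv1 hv2 hva u hu
  have hui : u⁻¹ = u := inv_eq_of_mul_eq_one_right hu2
  have hvc : v • c = c := hc
  set w := v * (u * v * u) * v with hw
  have hwa : w • a = a := by
    simp only [hw, mul_smul]
    rw [hub, hvc, show u • c = v • a by rw [← hub, smul_smul, hu2, one_smul], hvb]
  have hw2 : w * w = 1 := by
    calc w * w = v * u * v * u * (v * v) * u * v * u * v := by rw [hw]; group
      _ = v * u * v * (u * u) * v * u * v := by rw [hv2]; group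
      _ = v * u * (v * v) * u * v := by rw [hu2]; group
      _ = v * (u * u) * v := by rw [hv2]; group
      _ = 1 := by rw [hu2, mul_one, hv2]
  have hwu : w = u := hK.unique hva (hK.mem_of_involution hw2 hwa) hu (by
    simp only [hw, mul_smul]
    rw [hvb, hK.fix hu, hub, hvc])
  refine ⟨u, ⟨hu, ?_, ?_⟩, ?_⟩
  · intro e
    rw [e, one_smul] at hub
    exact hcb hub.symm
  · calc v * u * v = v * u * v * (u * (v * v) * u⁻¹) := by rw [hv2]; group
      _ = w * v * u⁻¹ := by rw [hw]; group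
      _ = u * v * u := by rw [hwu, hui]
  · rintro x ⟨hx, -, hrel⟩
    refine hK.unique hva hx hu ?_
    rw [hub]
    apply hcu
    show v • x • v • a = x • v • a
    calc v • x • v • a = (v * x * v) • a := by simp only [mul_smul]
      _ = x • v • a := by rw [hrel, mul_smul, mul_smul, hK.fix hx]

end EvenKernel

end CfsgLib.Zassenhaus
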