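import Cfsg.Agent.Lib.Zassenhaus.SwapInduced
import Cfsg.Agent.Lib.Char.Artin
import Cfsg.Agent.Lib.Char.Constituents
import Cfsg.Agent.Lib.Char.TIVectors
import Cfsg.Agent.Lib.Char.OrbitVectors

/-!
# Characters induced from linear characters of a point stabilizer, odd two-point stabilizer

The two-point stabilizer is abelian of odd order, inverted by the swapping elements. For an abelian
regular subgroup this yields Feit's inequality `q - 1 ≤ 2 k`.
-/

set_option autoImplicit false
set_option linter.style.haveILetI false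
set_option linter.unusedSectionVars false

open MulAction Cfsg
open scoped ComplexConjugate CfsgLib.Char

namespace CfsgLib.Zassenhaus

/-- An abelian two-point stabilizer of odd order inverted by a swapping element. -/
structure OddInv (G Ω : Type*) [Group G] [MulAction G Ω] (a b : Ω) (U : Subgroup G) (v : G) : Prop where
  hz : ZG G Ω
  hK : RegKernel a U
  hb : b ≠ a
  va : v • a = b
  vb : v • b = a
  inv : ∀ h ∈ D2 G a b, v * h * v⁻¹ = h⁻¹
  comm : ∀ x y : D2 G a b, x * y = y * x
  odd : Odd (Nat.card (D2 G a b))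
  nt : 1 < Nat.card (D2 G a b)

namespace OddInv

variable {G Ω : Type*} [Group G] [MulAction G Ω] [Fintype G] {a b : Ω} {U : Subgroup G} {v : G}
  [Fintype U] [Fintype (D2 G a b)] [Fintype (stabilizer G a)] (hO : OddInv G Ω a b U v)
include hO

/-- The inflation of a character of the two-point stabilizer. -/
noncomputable def L (l : IrrCharacter (D2 G a b)) : stabilizer G a → ℂ :=
  fun x => (l : D2 G a b → ℂ) ((exists_projection hO.hz hO.hK hO.hb).choose x)

theorem L_irr (l : IrrCharacter (D2 G a b)) : IsIrrCharacter (stabilizer G a) (L hO l) :=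
  CfsgLib.Blocks.isIrrCharacter_comp_of_surjective l.2 _ (exists_projection hO.hz hO.hK hO.hb).choose_spec.2.2

theorem L_coe (l : IrrCharacter (D2 G a b)) (x : stabilizer G a) (h : D2 G a b) (e : (x : G) = h) :
    L hO l x = (l : D2 G a b → ℂ) h := by
  simp only [L, (exists_projection hO.hz hO.hK hO.hb).choose_spec.1 x h e]

theorem linear (l : IrrCharacter (D2 G a b)) : (l : D2 G a b → ℂ) 1 = 1 :=
  CfsgLib.Char.degree_one_of_comm hO.comm l

theorem L_kernel (l : IrrCharacter (D2 G a b)) (x : stabilizer G a) (hx : (x : G) ∈ U) : L hO l x = 1 := by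
  simp only [L, (exists_projection hO.hz hO.hK hO.hb).choose_spec.2.1 x hx, linear hO l]

/-- The induced character. -/
noncomputable def I (l : IrrCharacter (D2 G a b)) : G → ℂ := indFun (stabilizer G a) (L hO l)

theorem I_char (l : IrrCharacter (D2 G a b)) : IsCharacter G (I hO l) :=
  CfsgLib.Char.isCharacter_indFun _ (CfsgLib.Char.isCharacter_of_isIrr (L_irr hO l))

theorem I_formula (l : IrrCharacter (D2 G a b)) (g : G) :
    I hO l g = extendByZero (stabilizer G a) (L hO l) g +
      ∑ u : U, extendByZero (stabilizer G a) (L hO l) (((u : G) * v)⁻¹ * g * ((u : G) * v)) :=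
  indFun_stab_eq hO.hz hO.hK hO.hb _
    (CfsgLib.Char.isClassFunction_of_isCharacter (CfsgLib.Char.isCharacter_of_isIrr (L_irr hO l))) hO.va g

theorem card_points : Nat.card Ω = Nat.card U + 1 := by
  rw [hO.hK.card_eq hO.hz hO.hb]
  have := hO.hz.three
  omega

theorem card_stabilizer : Nat.card (stabilizer G a) = Nat.card U * Nat.card (D2 G a b) := by
  rw [card_stab hO.hz hO.hb.symm, card_points hO, Nat.add_sub_cancel]

theorem conj_mem_D2 {u : U} {g : G} (hg : g ∈ stabilizer G a)
    (hgu : ((u : G) * v)⁻¹ * g * ((u : G) * v) ∈ stabilizer G a) : (u : G)⁻¹ * g * u ∈ D2 G a b := by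
  have hua : (u : G) • a = a := hO.hK.le u.2
  refine mem_D2.mpr ⟨?_, ?_⟩
  · rw [mul_smul, mul_smul, hua, show g • a = a from hg, inv_smul_eq_iff, hua]
  · have h : _ • a = a := hgu
    simp only [mul_smul, mul_inv_rev, hO.va, inv_smul_eq_iff] at h
    rw [mul_smul, mul_smul, inv_smul_eq_iff]
    exact h

theorem inner (l l' : IrrCharacter (D2 G a b)) :
    classInner (I hO l) (I hO l') = (if l = l' then 1 else 0) +
      (if l = CfsgLib.Char.conjPerm l' then 1 else 0) := by
  classical
  conv_lhs => arg 1; rw [I]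
  rw [CfsgLib.Char.frobenius_reciprocity _ _
    (CfsgLib.Char.isClassFunction_of_isCharacter (I_char hO l'))]
  have hkC : (Nat.card (D2 G a b) : ℂ) ≠ 0 := Nat.cast_ne_zero.mpr Nat.card_pos.ne'
  have hXC : (Nat.card (stabilizer G a) : ℂ) ≠ 0 := Nat.cast_ne_zero.mpr Nat.card_pos.ne'
  have hin : ∀ (u : U) (y : D2 G a b), (u : G) * y * (u : G)⁻¹ ∈ stabilizer G a := fun u y =>
    (stabilizer G a).mul_mem ((stabilizer G a).mul_mem (hO.hK.le u.2) y.2.1)
      ((stabilizer G a).inv_mem (hO.hK.le u.2))
  have hB : ∀ u : U, ∑ x : stabilizer G a, L hO l x *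
      conj (extendByZero (stabilizer G a) (L hO l') (((u : G) * v)⁻¹ * x * ((u : G) * v))) =
      (Nat.card (D2 G a b) : ℂ) * (if l = CfsgLib.Char.conjPerm l' then 1 else 0) := by
    intro u
    have hl : ∑ y : D2 G a b, (l : D2 G a b → ℂ) y * conj ((l' : D2 G a b → ℂ) y⁻¹) =
        (Nat.card (D2 G a b) : ℂ) * (if l = CfsgLib.Char.conjPerm l' then 1 else 0) := by
      rw [← CfsgLib.Char.classInner_coe, classInner, ← mul_assoc, mul_inv_cancel₀ hkC, one_mul]
      refine Finset.sum_congr rfl fun y _ => ?_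
      rw [CfsgLib.Char.irr_inv, CfsgLib.Char.conjPerm_apply]
    rw [← hl]
    refine (Fintype.sum_of_injective (fun y : D2 G a b => (⟨_, hin u y⟩ : stabilizer G a))
      (fun y y' h => ?_) _ _ (fun x hx => ?_) fun y => ?_).symm
    · exact Subtype.ext (mul_left_cancel (mul_right_cancel (congrArg Subtype.val h)))
    · by_cases hm : ((u : G) * v)⁻¹ * x * ((u : G) * v) ∈ stabilizer G a
      · exact absurd ⟨⟨_, conj_mem_D2 hO x.2 hm⟩, Subtype.ext (by simp [mul_assoc])⟩ hx
      · rw [CfsgLib.Char.extendByZero_notMem _ _ hm, map_zero, mul_zero]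
    · have e1 : ((u : G) * v)⁻¹ * ((u : G) * y * (u : G)⁻¹) * ((u : G) * v) = ((y⁻¹ : D2 G a b) : G) := by
        have h := hO.inv (y : G)⁻¹ ((D2 G a b).inv_mem y.2)
        rw [inv_inv] at h
        show _ = (y : G)⁻¹
        conv_lhs => rw [← h]
        group
      rw [e1, CfsgLib.Char.extendByZero_mem _ _ (y⁻¹).2.1,
        L_coe hO l' ⟨((y⁻¹ : D2 G a b) : G), (y⁻¹).2.1⟩ y⁻¹ rfl]
      congr 1
      have hu' : L hO l ⟨_, hin u y⟩ = L hO l ⟨(y : G), y.2.1⟩ :=
        CfsgLib.Char.isClassFunction_of_isCharacter (CfsgLib.Char.isCharacter_of_isIrr (L_irr hO l))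
          ⟨(y : G), y.2.1⟩ ⟨(u : G), hO.hK.le u.2⟩
      rw [hu', L_coe hO l _ y rfl]
  have hLL : ∑ x : stabilizer G a, L hO l x * conj (L hO l' x) =
      (Nat.card (stabilizer G a) : ℂ) * (if l = l' then 1 else 0) := by
    have h : classInner (L hO l) (L hO l') = if l = l' then 1 else 0 := by
      split_ifs with h
      · subst h; exact CfsgLib.Char.classInner_irr_self (L_irr hO l)
      · refine CfsgLib.Char.classInner_irr_ne (L_irr hO l) (L_irr hO l') fun e => h (Subtype.ext ?_)
        funext y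
        rw [← L_coe hO l ⟨(y : G), y.2.1⟩ y rfl, ← L_coe hO l' ⟨(y : G), y.2.1⟩ y rfl, e]
    rw [← h, classInner, ← mul_assoc, mul_inv_cancel₀ hXC, one_mul]
  rw [classInner]
  simp only [I_formula, map_add, map_sum, mul_add, CfsgLib.Char.extendByZero_coe, Finset.sum_add_distrib,
    Finset.mul_sum]
  rw [← Finset.mul_sum, hLL, Finset.sum_comm]
  simp only [← Finset.mul_sum, hB, Finset.sum_const, Finset.card_univ, nsmul_eq_mul,
    ← Nat.card_eq_fintype_card (α := U)]
  rw [card_stabilizer hO, Nat.cast_mul]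
  have hqC : (Nat.card U : ℂ) ≠ 0 := Nat.cast_ne_zero.mpr Nat.card_pos.ne'
  field_simp

theorem I_deg (l : IrrCharacter (D2 G a b)) : I hO l 1 = (Nat.card U : ℂ) + 1 := by
  rw [I, CfsgLib.Char.indFun_one]
  haveI := transitive hO.hz
  have hidx : (stabilizer G a).index = Nat.card Ω := index_stabilizer_of_transitive G a
  rw [hidx, card_points hO, L_kernel hO l 1 U.one_mem]
  push_cast; ring

theorem I_kernel (l : IrrCharacter (D2 G a b)) {u : G} (hu : u ∈ U) (h1 : u ≠ 1) : I hO l u = 1 := by
  rw [I_formula, CfsgLib.Char.extendByZero_mem _ _ (hO.hK.le hu), L_kernel hO l _ hu, Finset.sum_eq_zero,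
    add_zero]
  intro w _
  refine CfsgLib.Char.extendByZero_notMem _ _ fun hm => ?_
  have he := (hO.hK.setting hO.hz hO.hb).inter (U.mul_mem (U.mul_mem (U.inv_mem w.2) hu) w.2)
    (conj_mem_D2 hO (hO.hK.le hu) hm)
  refine h1 ?_
  calc u = (w : G) * ((w : G)⁻¹ * u * w) * (w : G)⁻¹ := by group
    _ = 1 := by rw [he]; group

/-- The trivial character of the two-point stabilizer. -/
noncomputable def one : IrrCharacter (D2 G a b) :=
  let _ := hO
  ⟨fun _ => 1, CfsgLib.Char.isIrrCharacter_one⟩

theorem conjPerm_one : CfsgLib.Char.conjPerm (one hO) = one hO :=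
  Subtype.ext (funext fun g => map_one _)

theorem conjPerm_ne {l : IrrCharacter (D2 G a b)} (hl : l ≠ one hO) : l ≠ CfsgLib.Char.conjPerm l := by
  intro h
  refine hl (Subtype.ext (CfsgLib.Char.irr_real_of_odd hO.odd l fun g => ?_))
  exact Complex.conj_eq_iff_im.mp (congrFun (congrArg Subtype.val h) g).symm

theorem R_irr {l : IrrCharacter (D2 G a b)} (hl : l ≠ one hO) : IsIrrCharacter G (I hO l) := by
  refine CfsgLib.Char.isIrr_of_norm_one (I_char hO l) ?_
  rw [inner, if_pos rfl, if_neg (conjPerm_ne hO hl), add_zero]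

theorem I_trivial_inner (l : IrrCharacter (D2 G a b)) :
    classInner (I hO l) (fun _ => 1) = if l = one hO then 1 else 0 := by
  classical
  rw [I, CfsgLib.Char.frobenius_reciprocity _ _ (fun _ _ => rfl)]
  split_ifs with h
  · subst h
    have e : L hO (one hO) = fun _ => 1 := rfl
    rw [e]
    exact CfsgLib.Char.classInner_irr_self CfsgLib.Char.isIrrCharacter_one
  · refine CfsgLib.Char.classInner_irr_ne (L_irr hO l) CfsgLib.Char.isIrrCharacter_one fun e => h (Subtype.ext ?_)
    funext y
    exact (L_coe hO l ⟨(y : G), y.2.1⟩ y rfl).symm.trans (congrFun e _)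

/-- The Steinberg character. -/
theorem exists_steinberg : ∃ St : IrrCharacter G, (St : G → ℂ) ≠ (fun _ => 1) ∧
    I hO (one hO) = (fun _ => (1 : ℂ)) + (St : G → ℂ) := by
  classical
  obtain ⟨mu, hmu⟩ := CfsgLib.Char.exists_multiplicities (I_char hO (one hO))
  let triv : IrrCharacter G := ⟨fun _ => 1, CfsgLib.Char.isIrrCharacter_one⟩
  have h1 : mu triv = 1 := by
    have h := I_trivial_inner hO (one hO)
    rw [if_pos rfl, hmu, show (fun _ : G => (1 : ℂ)) = (triv : G → ℂ) from rfl,
      CfsgLib.Char.classInner_sum_smul_irr] at h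
    exact_mod_cast h
  have hsq : ∑ χ : IrrCharacter G, (mu χ : ℤ) * mu χ = 2 := by
    have h := inner hO (one hO) (one hO)
    rw [if_pos rfl, conjPerm_one, if_pos rfl, hmu, CfsgLib.Char.classInner_sum_smul_sum_smul] at h
    simp only [Complex.conj_natCast] at h
    norm_num at h
    exact_mod_cast h
  have hmem : triv ∈ Finset.univ.filter fun χ => (mu χ : ℤ) ≠ 0 := by simp [h1]
  obtain ⟨St, hSt⟩ : ∃ St, (Finset.univ.filter fun χ => (mu χ : ℤ) ≠ 0).erase triv = {St} :=
    Finset.card_eq_one.mp (by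
      rw [Finset.card_erase_of_mem hmem, CfsgLib.Char.TIVectors.card_supp hsq])
  have hS := Finset.ext_iff.mp hSt
  simp only [Finset.mem_erase, Finset.mem_filter, Finset.mem_univ, true_and, Finset.mem_singleton, ne_eq,
    Nat.cast_eq_zero] at hS
  obtain ⟨hne, hne0⟩ := (hS St).mpr rfl
  have hmS : mu St = 1 := by
    have := CfsgLib.Char.TIVectors.abs_le_one (D := fun χ => (mu χ : ℤ)) (by rw [hsq]; norm_num) St
    omega
  refine ⟨St, fun e => hne (Subtype.ext e), ?_⟩
  rw [hmu]
  funext g
  rw [Finset.sum_apply, ← Finset.sum_subset (Finset.subset_univ ({triv, St} : Finset _)),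
    Finset.sum_pair (Ne.symm hne)]
  · simp [h1, hmS, triv]
  · intro χ _ hχ
    simp only [Finset.mem_insert, Finset.mem_singleton, not_or] at hχ
    have : mu χ = 0 := by_contra fun h => hχ.2 ((hS χ).mp ⟨hχ.1, h⟩)
    simp [this]

/-- The constituents of the induced characters. -/
noncomputable def S : Finset (IrrCharacter G) := by
  classical
  exact Finset.univ.filter fun χ => ∃ l, classInner (I hO l) (χ : G → ℂ) ≠ 0

theorem sum_kernel_eq_zero {χ : IrrCharacter G} (hχ : χ ∉ S hO) : ∑ u : U, (χ : G → ℂ) u = 0 := by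
  classical
  simp only [S, Finset.mem_filter, Finset.mem_univ, true_and, not_exists, not_not] at hχ
  obtain ⟨π, hπ⟩ := (⟨_, rfl⟩ : ∃ π, π = (exists_projection hO.hz hO.hK hO.hb).choose)
  have hspec := (exists_projection hO.hz hO.hK hO.hb).choose_spec
  have hsum : ∀ x : stabilizer G a, ∑ l : IrrCharacter (D2 G a b), L hO l x =
      if (x : G) ∈ U then (Nat.card (D2 G a b) : ℂ) else 0 := by
    intro x
    have h := CfsgLib.Char.sum_degree_mul_irr ((exists_projection hO.hz hO.hK hO.hb).choose x)
    simp only [linear hO, one_mul] at h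
    show ∑ l : IrrCharacter (D2 G a b), (l : D2 G a b → ℂ) _ = _
    rw [h]
    by_cases hxU : (x : G) ∈ U
    · rw [if_pos hxU, if_pos (hspec.2.1 x hxU)]
    rw [if_neg hxU, if_neg]
    intro e
    refine hxU ?_
    obtain ⟨u, hu, σ, hσ, hx⟩ := hO.hK.factor hO.hz (show (x : G) • a = a from x.2) hO.hb
    have e1 : x = (⟨u, hO.hK.le hu⟩ : stabilizer G a) * ⟨σ, hσ.1⟩ := Subtype.ext hx
    rw [e1, map_mul, hspec.2.1 _ hu, one_mul, hspec.1 ⟨σ, hσ.1⟩ ⟨σ, hσ⟩ rfl] at e
    rw [hx, show σ = 1 from congrArg Subtype.val e, mul_one]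
    exact hu
  have h0 : ∑ x : stabilizer G a, (∑ l : IrrCharacter (D2 G a b), L hO l x) * conj ((χ : G → ℂ) x) = 0 := by
    simp only [Finset.sum_mul]
    rw [Finset.sum_comm]
    refine Finset.sum_eq_zero fun l _ => ?_
    have h := hχ l
    rw [I, CfsgLib.Char.frobenius_reciprocity _ _ (CfsgLib.Char.isClassFunction_irr χ), classInner] at h
    exact (mul_eq_zero.mp h).resolve_left (inv_ne_zero (Nat.cast_ne_zero.mpr Nat.card_pos.ne'))
  simp only [hsum, ite_mul, zero_mul] at h0
  have h1 : ∑ x : stabilizer G a, (if (x : G) ∈ U then (Nat.card (D2 G a b) : ℂ) * conj ((χ : G → ℂ) x) else 0) =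
      ∑ u : U, (Nat.card (D2 G a b) : ℂ) * conj ((χ : G → ℂ) u) := by
    refine (Fintype.sum_of_injective (fun u : U => (⟨(u : G), hO.hK.le u.2⟩ : stabilizer G a))
      (fun u w h => Subtype.ext (congrArg Subtype.val h :)) _ _ (fun x hx => ?_) fun u => ?_).symm
    · rw [if_neg]
      exact fun hxU => hx ⟨⟨x, hxU⟩, rfl⟩
    · rw [if_pos u.2]
  rw [h1, ← Finset.mul_sum, ← map_sum, mul_eq_zero,
    or_iff_right (Nat.cast_ne_zero.mpr Nat.card_pos.ne'), map_eq_zero] at h0
  exact h0

open CfsgLib.Char.TINilpotent in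
/-- Off the constituents, the Gram matrix is `g J + I`. -/
theorem gram_S {θ φ : IrrCharacter U} (hθ : θ ≠ triv) (hφ : φ ≠ triv)
    (hθ1 : (θ : U → ℂ) 1 = 1) (hφ1 : (φ : U → ℂ) 1 = 1) :
    2 * ∑ χ ∈ S hO, N θ χ * N φ χ = Nat.card (D2 G a b) + 1 := by
  classical
  obtain ⟨St, hSt1, hSt⟩ := exists_steinberg hO
  let tr : IrrCharacter G := ⟨fun _ => 1, CfsgLib.Char.isIrrCharacter_one⟩
  have hsum0 : ∀ θ : IrrCharacter U, θ ≠ triv → ∑ u : U, conj ((θ : U → ℂ) u) = 0 := by
    intro θ hθ
    have h := CfsgLib.Char.classInner_irr_ne (φ := (triv : IrrCharacter U).1) (ψ := θ.1) triv.2 θ.2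
      (fun e => hθ (Subtype.ext e.symm))
    rw [classInner, mul_eq_zero, or_iff_right (inv_ne_zero (Nat.cast_ne_zero.mpr Nat.card_pos.ne'))] at h
    simpa [triv] using h
  have hN : ∀ θ : IrrCharacter U, θ ≠ triv → (θ : U → ℂ) 1 = 1 → ∀ χ : IrrCharacter G, ∀ c d : ℂ,
      (χ : G → ℂ) 1 = c + d → (∀ u : U, u ≠ 1 → (χ : G → ℂ) u = c) → (N θ χ : ℂ) = d / Nat.card U := by
    intro θ hθ hθ1 χ c d h1 hc
    rw [N_cast, classInner, inv_mul_eq_div]
    congr 1
    rw [← Finset.add_sum_erase _ _ (Finset.mem_univ (1 : U)),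
      Finset.sum_congr rfl fun u hu => by rw [hc u (Finset.ne_of_mem_erase hu)],
      ← Finset.mul_sum, Finset.sum_erase_eq_sub (Finset.mem_univ _), hsum0 θ hθ, OneMemClass.coe_one, h1,
      hθ1, map_one]
    ring
  have hqC : (Nat.card U : ℂ) ≠ 0 := Nat.cast_ne_zero.mpr Nat.card_pos.ne'
  have hu0 : ∀ u : U, u ≠ 1 → (u : G) ≠ 1 := fun u h e => h (Subtype.ext e)
  have hNtr : ∀ θ : IrrCharacter U, θ ≠ triv → (θ : U → ℂ) 1 = 1 → N θ tr = 0 := by
    intro θ hθ hθ1
    have := hN θ hθ hθ1 tr 1 0 (add_zero _).symm (fun _ _ => rfl)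
    rw [zero_div] at this
    exact_mod_cast this
  have hNone : ∀ θ : IrrCharacter U, θ ≠ triv → (θ : U → ℂ) 1 = 1 → ∀ χ ∈ S hO, χ ≠ tr → N θ χ = 1 := by
    intro θ hθ hθ1 χ hχ hne
    simp only [S, Finset.mem_filter, Finset.mem_univ, true_and] at hχ
    obtain ⟨l, hl⟩ := hχ
    by_cases hl1 : l = one hO
    · subst hl1
      rw [hSt, CfsgLib.Char.classInner_add_left, show (fun _ : G => (1 : ℂ)) = (tr : G → ℂ) from rfl,
        CfsgLib.Char.classInner_coe, CfsgLib.Char.classInner_coe, if_neg (Ne.symm hne), zero_add] at hl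
      by_cases hχS : St = χ
      · subst hχS
        have := hN θ hθ hθ1 St 0 (Nat.card U) ?_ ?_
        · rw [div_self hqC] at this; exact_mod_cast this
        · have h := congrFun hSt 1
          rw [I_deg, Pi.add_apply] at h
          linear_combination -h
        · intro u hu
          have h := congrFun hSt u
          rw [I_kernel hO _ u.2 (hu0 u hu), Pi.add_apply] at h
          linear_combination -h
      · rw [if_neg hχS] at hl; exact absurd rfl hl
    · have e : (⟨I hO l, R_irr hO hl1⟩ : IrrCharacter G) = χ := by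
        by_contra hne'
        refine hl ?_
        rw [show I hO l = ((⟨I hO l, R_irr hO hl1⟩ : IrrCharacter G) : G → ℂ) from rfl,
          CfsgLib.Char.classInner_coe, if_neg hne']
      subst e
      have := hN θ hθ hθ1 ⟨I hO l, R_irr hO hl1⟩ 1 (Nat.card U)
        (by show I hO l 1 = _; rw [I_deg]; ring) (fun u hu => I_kernel hO l u.2 (hu0 u hu))
      rw [div_self hqC] at this
      exact_mod_cast this
  have htrS : tr ∈ S hO := by
    simp only [S, Finset.mem_filter, Finset.mem_univ, true_and]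
    exact ⟨one hO, by rw [show (tr : G → ℂ) = (fun _ => 1) from rfl, I_trivial_inner, if_pos rfl]; exact one_ne_zero⟩
  rw [← Finset.add_sum_erase _ _ htrS, hNtr θ hθ hθ1, zero_mul, zero_add,
    Finset.sum_congr rfl (g := fun _ => (1 : ℤ)) fun χ hχ => by
      rw [hNone θ hθ hθ1 χ (Finset.mem_of_mem_erase hχ) (Finset.ne_of_mem_erase hχ),
        hNone φ hφ hφ1 χ (Finset.mem_of_mem_erase hχ) (Finset.ne_of_mem_erase hχ), one_mul]]
  -- counting the constituents
  set R : IrrCharacter (D2 G a b) → IrrCharacter G :=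
    fun l => if h : l = one hO then St else ⟨I hO l, R_irr hO h⟩ with hR
  have hRS : ∀ l, R l ∈ (S hO).erase tr := by
    intro l
    simp only [hR, S, Finset.mem_erase, Finset.mem_filter, Finset.mem_univ, true_and]
    split_ifs with h
    · refine ⟨fun e => hSt1 (congrArg Subtype.val e), one hO, ?_⟩
      rw [hSt, CfsgLib.Char.classInner_add_left, show (fun _ : G => (1 : ℂ)) = (tr : G → ℂ) from rfl,
        CfsgLib.Char.classInner_coe, CfsgLib.Char.classInner_coe, if_neg (fun e => hSt1 (congrArg Subtype.val e.symm)),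
        if_pos rfl, zero_add]
      exact one_ne_zero
    · refine ⟨fun e => ?_, l, ?_⟩
      · have := congrFun (congrArg Subtype.val e) 1
        rw [show ((⟨I hO l, R_irr hO h⟩ : IrrCharacter G) : G → ℂ) 1 = I hO l 1 from rfl, I_deg,
          show (tr : G → ℂ) 1 = 1 from rfl, add_eq_right] at this
        exact hqC this
      · show classInner (I hO l) (I hO l) ≠ 0
        rw [CfsgLib.Char.classInner_irr_self (R_irr hO h)]
        exact one_ne_zero
  have himg : (S hO).erase tr = Finset.univ.image R := by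
    refine Finset.Subset.antisymm (fun χ hχ => ?_) fun χ hχ => ?_
    · obtain ⟨hne, hχ⟩ := Finset.mem_erase.mp hχ
      simp only [S, Finset.mem_filter, Finset.mem_univ, true_and] at hχ
      obtain ⟨l, hl⟩ := hχ
      refine Finset.mem_image.mpr ⟨l, Finset.mem_univ _, ?_⟩
      simp only [hR]
      split_ifs with h
      · subst h
        rw [hSt, CfsgLib.Char.classInner_add_left, show (fun _ : G => (1 : ℂ)) = (tr : G → ℂ) from rfl,
          CfsgLib.Char.classInner_coe, CfsgLib.Char.classInner_coe, if_neg (Ne.symm hne), zero_add] at hl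
        by_contra hne'
        rw [if_neg hne'] at hl
        exact hl rfl
      · by_contra hne'
        refine hl ?_
        rw [show I hO l = ((⟨I hO l, R_irr hO h⟩ : IrrCharacter G) : G → ℂ) from rfl,
          CfsgLib.Char.classInner_coe, if_neg hne']
    · obtain ⟨l, -, rfl⟩ := Finset.mem_image.mp hχ
      exact hRS l
  have hfib : ∀ χ ∈ Finset.univ.image R, (Finset.univ.filter fun l => R l = χ).card =
      if χ = St then 1 else 2 := by
    intro χ hχ
    obtain ⟨l, -, rfl⟩ := Finset.mem_image.mp hχ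
    have hRne : ∀ l, l ≠ one hO → R l ≠ St := by
      intro l hl e
      simp only [hR, dif_neg hl] at e
      have h := congrFun hSt 1
      rw [I_deg, Pi.add_apply, ← e, show ((⟨I hO l, R_irr hO hl⟩ : IrrCharacter G) : G → ℂ) 1 = I hO l 1 from rfl,
        I_deg] at h
      exact one_ne_zero (left_eq_add.mp (by linear_combination h : (Nat.card U : ℂ) + 1 = (Nat.card U : ℂ) + 1 + 1))
    by_cases h1 : l = one hO
    · subst h1
      rw [if_pos (by simp [hR]), Finset.card_eq_one]
      refine ⟨one hO, Finset.ext fun l => ?_⟩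
      simp only [Finset.mem_filter, Finset.mem_univ, true_and, Finset.mem_singleton]
      refine ⟨fun e => by_contra fun h => hRne l h (e.trans (by simp [hR])), fun e => by rw [e]⟩
    · rw [if_neg (hRne l h1), show (Finset.univ.filter fun l' => R l' = R l) = {l, CfsgLib.Char.conjPerm l} from ?_,
        Finset.card_pair (conjPerm_ne hO h1)]
      have hc1 : CfsgLib.Char.conjPerm l ≠ one hO := fun e => h1
        ((CfsgLib.Char.conjPerm (G := D2 G a b)).injective (e.trans (conjPerm_one hO).symm))
      have hcc : CfsgLib.Char.conjPerm (CfsgLib.Char.conjPerm l) = l :=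
        Subtype.ext (funext fun g => Complex.conj_conj _)
      ext l'
      simp only [Finset.mem_filter, Finset.mem_univ, true_and, Finset.mem_insert, Finset.mem_singleton]
      constructor
      · intro e
        have h' : l' ≠ one hO := fun h' => hRne l h1 (by rw [← e, h']; simp [hR])
        simp only [hR, dif_neg h', dif_neg h1] at e
        have hi := inner hO l' l
        rw [show I hO l' = I hO l from congrArg Subtype.val e,
          CfsgLib.Char.classInner_irr_self (R_irr hO h1)] at hi
        by_contra hno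
        push Not at hno
        rw [if_neg hno.1, if_neg hno.2, add_zero] at hi
        exact one_ne_zero hi
      · rintro (rfl | rfl)
        · rfl
        · simp only [hR, dif_neg hc1, dif_neg h1]
          refine Subtype.ext ?_
          by_contra hne
          have hi := inner hO (CfsgLib.Char.conjPerm l) l
          rw [CfsgLib.Char.classInner_irr_ne (R_irr hO hc1) (R_irr hO h1) hne, if_pos rfl,
            if_neg fun e => conjPerm_ne hO h1 e.symm, zero_add] at hi
          exact zero_ne_one hi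
  have hStmem : St ∈ Finset.univ.image R := Finset.mem_image.mpr ⟨one hO, Finset.mem_univ _, by simp [hR]⟩
  have hcount := Finset.card_eq_sum_card_image R (Finset.univ : Finset (IrrCharacter (D2 G a b)))
  rw [Finset.sum_congr rfl hfib, ← Finset.add_sum_erase _ _ hStmem, if_pos rfl,
    Finset.sum_congr rfl (g := fun _ => 2) fun χ hχ => if_neg (Finset.ne_of_mem_erase hχ),
    Finset.sum_const, Finset.card_erase_of_mem hStmem, smul_eq_mul, Finset.card_univ,
    ← Nat.card_eq_fintype_card, CfsgLib.Char.card_irr_eq_card_conjClasses,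
    Nat.card_congr (Equiv.ofBijective (ConjClasses.mk : D2 G a b → _) ⟨fun x y h => by
      obtain ⟨c, hc⟩ := isConj_iff.mp (ConjClasses.mk_eq_mk_iff_isConj.mp h)
      rw [hO.comm c x, mul_inv_cancel_right] at hc
      exact hc, ConjClasses.mk_surjective⟩).symm] at hcount
  rw [himg, Finset.sum_const, nsmul_eq_mul, mul_one, hcount]
  have := Finset.card_pos.mpr ⟨St, hStmem⟩
  omega

end OddInv

end CfsgLib.Zassenhaus
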