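import Cfsg.Agent.Lib.Zassenhaus.Basic

/-!
Two-point stabilizers of even order.
-/

set_option autoImplicit false
set_option linter.style.haveILetI false

open MulAction

namespace CfsgLib.Zassenhaus

/-- An involution with two fixed points. -/
def IsReflection {G : Type*} [Group G] (Ω : Type*) [MulAction G Ω] (s : G) : Prop :=
  s ≠ 1 ∧ s * s = 1 ∧ ∃ c d : Ω, c ≠ d ∧ s • c = c ∧ s • d = d

variable {G Ω : Type*} [Group G] [MulAction G Ω]

theorem IsReflection.conj {s : G} (h : IsReflection Ω s) (g : G) : IsReflection Ω (g * s * g⁻¹) := by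
  obtain ⟨h1, h2, c, d, hcd, hc, hd⟩ := h
  refine ⟨fun e => h1 (conj_eq_one_iff.mp e), ?_, g • c, g • d, fun e => hcd (smul_left_cancel g e), ?_, ?_⟩
  · calc g * s * g⁻¹ * (g * s * g⁻¹) = g * (s * s) * g⁻¹ := by group
      _ = 1 := by rw [h2]; group
  · rw [mul_smul, mul_smul, inv_smul_smul, hc]
  · rw [mul_smul, mul_smul, inv_smul_smul, hd]

theorem swap_of_moved {s : G} (h : s * s = 1) (x : Ω) : s • s • x = x := by
  rw [← mul_smul, h, one_smul]

variable (hz : ZG G Ω)
include hz

theorem exists_reflection {a b : Ω} (hab : a ≠ b) (heven : Even (Nat.card (D2 G a b))) (c d : Ω)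
    (hcd : c ≠ d) : ∃ s : G, IsReflection Ω s ∧ s ∈ D2 G c d := by
  haveI := finite_group hz
  haveI : Fact (Nat.Prime 2) := ⟨Nat.prime_two⟩
  obtain ⟨⟨z, hzD⟩, hz2⟩ := exists_prime_orderOf_dvd_card' 2 (even_iff_two_dvd.mp heven)
  have h2 : orderOf z = 2 := by rw [← hz2]; exact (Subgroup.orderOf_mk _ _).symm
  have hr : IsReflection Ω z := by
    refine ⟨fun e => ?_, ?_, a, b, hab, hzD.1, hzD.2⟩
    · rw [e, orderOf_one] at h2; omega
    · rw [← pow_two, ← h2, pow_orderOf_eq_one]
  obtain ⟨g, h1, h2'⟩ := hz.trans a b c d hab hcd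
  refine ⟨g * z * g⁻¹, hr.conj g, mem_D2.mpr ⟨?_, ?_⟩⟩
  · rw [← h1, mul_smul, mul_smul, inv_smul_smul, show z • a = a from hzD.1]
  · rw [← h2', mul_smul, mul_smul, inv_smul_smul, show z • b = b from hzD.2]

/-- The numerical bound, and what equality forces. -/
theorem even_bound {a b : Ω} (hab : a ≠ b) (heven : Even (Nat.card (D2 G a b))) :
    Nat.card Ω - 2 ≤ 2 * Nat.card (D2 G a b) ∧
      (2 * Nat.card (D2 G a b) ≤ Nat.card Ω - 2 →
        (∀ g : G, ∀ c d : Ω, c ≠ d → g • c = d → g • d = c → IsReflection Ω g) ∧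
        ∀ s s' : G, ∀ c d : Ω, c ≠ d → IsReflection Ω s → IsReflection Ω s' → s ∈ D2 G c d →
          s' ∈ D2 G c d → s = s') := by
  haveI := finite_points hz
  haveI := finite_group hz
  haveI := Fintype.ofFinite Ω
  haveI := Fintype.ofFinite G
  classical
  set N := Fintype.card Ω with hN
  set k := Nat.card (D2 G a b) with hk
  have hN3 : 3 ≤ N := by have := hz.three; rwa [Nat.card_eq_fintype_card] at this
  set S : Finset G := Finset.univ.filter fun g : G => IsReflection Ω g with hS
  set P : Finset (Ω × Ω) := Finset.univ.filter fun p : Ω × Ω => p.1 ≠ p.2 with hP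
  have hPc : P.card = N * (N - 1) := by
    have : P = (Finset.univ : Finset Ω).offDiag := by ext p; simp [hP]
    rw [this, Finset.offDiag_card, Finset.card_univ, ← hN, Nat.mul_sub, mul_one]
  have hfix : ∀ s ∈ S, (Finset.univ.filter fun x : Ω => s • x = x).card = 2 := by
    intro s hs
    obtain ⟨h1, -, c, d, hcd, hc, hd⟩ := (Finset.mem_filter.mp hs).2
    have : (Finset.univ.filter fun x : Ω => s • x = x) = {c, d} := by
      ext x
      simp only [Finset.mem_filter, Finset.mem_univ, true_and, Finset.mem_insert, Finset.mem_singleton]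
      exact ⟨fixed_of_mem hz hcd ⟨hc, hd⟩ h1, fun h => h.elim (fun e => e ▸ hc) (fun e => e ▸ hd)⟩
    rw [this, Finset.card_pair hcd]
  -- pairs of fixed points
  set T : Finset (Σ _ : G, Ω × Ω) := S.sigma fun s =>
    (Finset.univ.filter fun x : Ω => s • x = x).offDiag with hT
  have hTc : T.card = 2 * S.card := by
    rw [hT, Finset.card_sigma, Finset.sum_congr rfl fun s hs => by rw [Finset.offDiag_card, hfix s hs],
      Finset.sum_const, smul_eq_mul]
    ring
  have hsnd : ∀ x ∈ T, x.2 ∈ P := by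
    rintro ⟨s, c, d⟩ hx
    simp only [hT, Finset.mem_sigma, Finset.mem_offDiag, Finset.mem_filter, Finset.mem_univ, true_and] at hx
    simp [hP, hx.2.2.2]
  have hmemT : ∀ s c d, c ≠ d → IsReflection Ω s → s ∈ D2 G c d → (⟨s, c, d⟩ : Σ _ : G, Ω × Ω) ∈ T := by
    intro s c d hcd hs hm
    simp only [hT, hS, Finset.mem_sigma, Finset.mem_offDiag, Finset.mem_filter, Finset.mem_univ, true_and]
    exact ⟨hs, hm.1, hm.2, hcd⟩
  have himg : T.image Sigma.snd = P := by
    refine Finset.Subset.antisymm (Finset.image_subset_iff.mpr hsnd) ?_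
    rintro ⟨c, d⟩ hp
    have hcd : c ≠ d := by simpa [hP] using hp
    obtain ⟨s, hs, hm⟩ := exists_reflection hz hab heven c d hcd
    exact Finset.mem_image.mpr ⟨⟨s, c, d⟩, hmemT s c d hcd hs hm, rfl⟩
  have hle1 : P.card ≤ 2 * S.card := by rw [← hTc, ← himg]; exact Finset.card_image_le
  -- transpositions
  set T' : Finset (G × Ω) := (S ×ˢ (Finset.univ : Finset Ω)).filter fun x => x.1 • x.2 ≠ x.2 with hT'
  have hT'c : T'.card = S.card * (N - 2) := by
    have e : T' = S.biUnion fun s => ({s} : Finset G) ×ˢ (Finset.univ.filter fun x : Ω => s • x ≠ x) := by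
      ext ⟨s, x⟩; simp [hT']
    rw [e, Finset.card_biUnion]
    · rw [Finset.sum_const_nat (m := N - 2)]
      intro s hs
      have h1 := Finset.card_filter_add_card_filter_not (s := (Finset.univ : Finset Ω)) (fun x : Ω => s • x = x)
      rw [hfix s hs, Finset.card_univ] at h1
      rw [Finset.card_product, Finset.card_singleton, one_mul]
      simp only [ne_eq]
      omega
    · intro s _ t _ hst
      rw [Function.onFun, Finset.disjoint_left]
      rintro ⟨u, x⟩ hu hu'
      simp only [Finset.mem_product, Finset.mem_singleton] at hu hu'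
      exact hst (hu.1.symm.trans hu'.1)
  set W : Ω × Ω → Finset G := fun p => Finset.univ.filter fun g : G => g • p.1 = p.2 ∧ g • p.2 = p.1 with hW
  have hWc : ∀ p ∈ P, (W p).card = k := by
    intro p hp
    have hp' : p.1 ≠ p.2 := by simpa [hP] using hp
    have hco : Nat.card (D2 G p.1 p.2) = k := by
      obtain ⟨g, h1, h2⟩ := hz.trans a b p.1 p.2 hab hp'
      exact (Nat.card_congr
        { toFun := fun x => (⟨g * x.1 * g⁻¹, mem_D2.mpr
            ⟨by rw [← h1, mul_smul, mul_smul, inv_smul_smul, show x.1 • a = a from x.2.1],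
             by rw [← h2, mul_smul, mul_smul, inv_smul_smul, show x.1 • b = b from x.2.2]⟩⟩ : D2 G p.1 p.2)
          invFun := fun y => (⟨g⁻¹ * y.1 * g, mem_D2.mpr
            ⟨by rw [mul_smul, mul_smul, h1, show y.1 • p.1 = p.1 from y.2.1, ← h1, inv_smul_smul],
             by rw [mul_smul, mul_smul, h2, show y.1 • p.2 = p.2 from y.2.2, ← h2, inv_smul_smul]⟩⟩ : D2 G a b)
          left_inv := fun x => Subtype.ext (show g⁻¹ * (g * x.1 * g⁻¹) * g = x.1 by group)
          right_inv := fun x => Subtype.ext (show g * (g⁻¹ * x.1 * g) * g⁻¹ = x.1 by group) }).symm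
    rw [← hco, ← ncard_swapping hz hp', Set.ncard_eq_toFinset_card']
    congr 1
    ext g; simp [hW]
  set F : Ω × Ω → Finset (G × Ω) := fun p => T'.filter fun x => (x.2, x.1 • x.2) = p with hF
  have hFle : ∀ p ∈ P, (F p).card ≤ ((W p).filter fun g => g ∈ S).card := by
    intro p _
    refine Finset.card_le_card_of_injOn Prod.fst ?_ ?_
    · intro x hx
      simp only [hF, hT', Finset.coe_filter, Finset.mem_filter, Finset.mem_product, Finset.mem_univ,
        and_true, Set.mem_setOf_eq] at hx
      obtain ⟨⟨hxS, -⟩, rfl⟩ := hx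
      simp only [hW, Finset.coe_filter, Finset.mem_filter, Finset.mem_univ, true_and, Set.mem_setOf_eq]
      exact ⟨swap_of_moved (Finset.mem_filter.mp hxS).2.2.1 x.2, hxS⟩
    · intro x hx y hy e
      simp only [hF, Finset.coe_filter, Set.mem_setOf_eq] at hx hy
      exact Prod.ext e (by rw [← hy.2] at hx; exact (Prod.ext_iff.mp hx.2).1)
  have hT'sum : T'.card = ∑ p ∈ P, (F p).card :=
    Finset.card_eq_sum_card_fiberwise fun x hx => by
      simp only [hT', Finset.coe_filter, Set.mem_setOf_eq] at hx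
      simp [hP, Ne.symm hx.2]
  have hsum : ∑ p ∈ P, ((W p).filter fun g => g ∈ S).card ≤ P.card * k := by
    rw [Finset.card_eq_sum_ones P, Finset.sum_mul, one_mul]
    exact Finset.sum_le_sum fun p hp => (Finset.card_filter_le _ _).trans (hWc p hp).le
  have hle2 : S.card * (N - 2) ≤ P.card * k := by
    rw [← hT'c, hT'sum]; exact (Finset.sum_le_sum hFle).trans hsum
  have hPpos : 0 < P.card := by rw [hPc]; exact Nat.mul_pos (by omega) (by omega)
  have hmain : P.card * (N - 2) ≤ P.card * (2 * k) := by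
    calc P.card * (N - 2) ≤ 2 * S.card * (N - 2) := Nat.mul_le_mul_right _ hle1
      _ = 2 * (S.card * (N - 2)) := by ring
      _ ≤ 2 * (P.card * k) := Nat.mul_le_mul_left _ hle2
      _ = P.card * (2 * k) := by ring
  rw [Nat.card_eq_fintype_card, ← hN]
  refine ⟨Nat.le_of_mul_le_mul_left hmain hPpos, fun heq => ⟨?_, ?_⟩⟩
  all_goals
    have hNk : N - 2 = 2 * k := le_antisymm (Nat.le_of_mul_le_mul_left hmain hPpos) heq
    have hSeq : 2 * S.card = P.card := by
      refine le_antisymm ?_ hle1
      have h' : 2 * S.card * (N - 2) ≤ P.card * (N - 2) := by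
        calc 2 * S.card * (N - 2) = 2 * (S.card * (N - 2)) := by ring
          _ ≤ 2 * (P.card * k) := Nat.mul_le_mul_left _ hle2
          _ = P.card * (N - 2) := by rw [hNk]; ring
      exact Nat.le_of_mul_le_mul_right h' (by omega)
  · intro g c d hcd h1 h2
    have hall : ∀ p ∈ P, ((W p).filter fun g => g ∈ S).card = (W p).card := by
      have hge : P.card * k ≤ ∑ p ∈ P, ((W p).filter fun g => g ∈ S).card := by
        calc P.card * k = S.card * (N - 2) := by rw [← hSeq, hNk]; ring
          _ = ∑ p ∈ P, (F p).card := by rw [← hT'c, hT'sum]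
          _ ≤ _ := Finset.sum_le_sum hFle
      have heq' : ∑ p ∈ P, ((W p).filter fun g => g ∈ S).card = ∑ p ∈ P, (W p).card := by
        refine le_antisymm (Finset.sum_le_sum fun p _ => Finset.card_filter_le _ _) ?_
        rw [Finset.sum_const_nat hWc]; exact hge
      exact (Finset.sum_eq_sum_iff_of_le fun p _ => Finset.card_filter_le _ _).mp heq'
    have hmem : g ∈ W (c, d) := by simp [hW, h1, h2]
    have h := Finset.card_filter_eq_iff.mp (hall (c, d) (by simp [hP, hcd])) g hmem
    exact (Finset.mem_filter.mp h).2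
  · intro s s' c d hcd hs hs' hm hm'
    have hinj : Set.InjOn Sigma.snd (T : Set (Σ _ : G, Ω × Ω)) :=
      Finset.card_image_iff.mp (by rw [himg, hTc, hSeq])
    have := hinj (hmemT s c d hcd hs hm) (hmemT s' c d hcd hs' hm') rfl
    exact congrArg Sigma.fst this

end CfsgLib.Zassenhaus
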