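import Cfsg.Agent.Lib.Zassenhaus.FrobeniusKernel

/-!
# Coordinates from a field for an abelian regular subgroup with two orbits
-/

set_option autoImplicit false
set_option linter.style.haveILetI false
set_option linter.unusedFintypeInType false

open MulAction

namespace CfsgLib.Zassenhaus

/-- Abelian regular subgroup, abelian two-point stabilizer with two orbits. -/
structure AbExt (G Ω : Type*) [Group G] [MulAction G Ω] (a b : Ω) (U : Subgroup G) : Prop where
  zg : ZG G Ω
  hab : a ≠ b
  hK : RegKernel a U
  commU : ∀ x y : U, x * y = y * x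
  commH : ∀ x y : D2 G a b, x * y = y * x
  two_mul : Nat.card Ω = 2 * Nat.card (D2 G a b) + 2

namespace AbExt

variable {G Ω : Type*} [Group G] [MulAction G Ω] [Finite G] {a b : Ω} {U : Subgroup G}
  (hx : AbExt G Ω a b U)

/-- A copy of `Fin n` without algebraic structure. -/
def Pt (n : ℕ) : Type := Fin n

instance (n : ℕ) : Fintype (Pt n) := inferInstanceAs (Fintype (Fin n))

theorem card_pt (n : ℕ) : Fintype.card (Pt n) = n := Fintype.card_fin n

include hx in
theorem ker_card : Nat.card U = 2 * Nat.card (D2 G a b) + 1 := by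
  rw [hx.hK.card_eq hx.zg hx.hab.symm, hx.two_mul]
  rfl

include hx in
theorem ker_bijective :
    Function.Bijective fun u : U => (⟨(u : G) • b, hx.hK.ne_base hx.zg u.2 hx.hab.symm⟩ : {x : Ω // x ≠ a}) := by
  refine ⟨fun u w h => (hx.hK.reg b _ hx.hab.symm (hx.hK.ne_base hx.zg w.2 hx.hab.symm)).unique
    (congrArg Subtype.val h) rfl, fun y => ?_⟩
  obtain ⟨u, hu, -⟩ := hx.hK.reg b y hx.hab.symm y.2
  exact ⟨u, Subtype.ext hu⟩

/-- The kernel written additively. -/
abbrev KerAdd (_hx : AbExt G Ω a b U) : Type _ := Additive U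

noncomputable local instance instAddCommGroupKer : AddCommGroup (KerAdd hx) :=
  { (inferInstance : AddGroup (Additive U)) with
    add_comm := fun x y => hx.commU (Additive.toMul x) (Additive.toMul y) }

/-- Conjugation on the kernel. -/
noncomputable def conjAct : D2 G a b →* AddMonoid.End (KerAdd hx) where
  toFun d :=
    { toFun := fun k => Additive.ofMul ⟨(d : G) * ((Additive.toMul k : U) : G) * (d : G)⁻¹,
        hx.hK.normal _ d.2.1 _ (Additive.toMul k).2⟩
      map_zero' := Additive.toMul.injective (Subtype.ext (show (d : G) * 1 * (d : G)⁻¹ = 1 by group))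
      map_add' := fun k k' => Additive.toMul.injective (Subtype.ext (show
        (d : G) * (((Additive.toMul k : U) : G) * ((Additive.toMul k' : U) : G)) * (d : G)⁻¹ =
          (d : G) * ((Additive.toMul k : U) : G) * (d : G)⁻¹ *
            ((d : G) * ((Additive.toMul k' : U) : G) * (d : G)⁻¹) by group)) }
  map_one' := AddMonoidHom.ext fun k => Additive.toMul.injective (Subtype.ext (show
    (1 : G) * ((Additive.toMul k : U) : G) * (1 : G)⁻¹ = _ by group; rfl))
  map_mul' d e := AddMonoidHom.ext fun k => Additive.toMul.injective (Subtype.ext (show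
    ((d : G) * e) * ((Additive.toMul k : U) : G) * ((d : G) * e)⁻¹ =
      (d : G) * ((e : G) * ((Additive.toMul k : U) : G) * (e : G)⁻¹) * (d : G)⁻¹ by group))

theorem conjAct_coe (d : D2 G a b) (k : KerAdd hx) :
    ((Additive.toMul (conjAct hx d k) : U) : G) =
      (d : G) * ((Additive.toMul k : U) : G) * (d : G)⁻¹ := rfl

theorem conjAct_fixed {d : D2 G a b} {k : KerAdd hx} (hk : k ≠ 0)
    (h : conjAct hx d k = k) : d = 1 := by
  have h1 : (d : G) * ((Additive.toMul k : U) : G) * (d : G)⁻¹ = ((Additive.toMul k : U) : G) := by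
    rw [← conjAct_coe, h]
  set u := ((Additive.toMul k : U) : G) with hu
  have hu1 : u ≠ 1 := fun e => hk (Additive.toMul.injective (Subtype.ext e))
  have hfix : (d : G) • (u • b) = u • b := by
    conv_rhs => rw [← h1]
    rw [mul_smul, mul_smul, inv_smul_eq_iff.mpr (show b = (d : G) • b from d.2.2.symm)]
  refine Subtype.ext (hx.zg.free _ a b (u • b) hx.hab ?_ ?_ d.2.1 d.2.2 hfix)
  · intro e
    exact hu1 (hx.hK.free hx.zg (Additive.toMul k).2 hx.hab.symm e.symm)
  · intro e
    exact hx.hab (smul_left_cancel u ((hx.hK.le (Additive.toMul k).2).trans e))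

/-- The commutative ring of endomorphisms spanned by the two-point stabilizer. -/
noncomputable def coordRing : Subring (AddMonoid.End (KerAdd hx)) :=
  Subring.closure (Set.range (conjAct hx))

theorem conjAct_mem (d : D2 G a b) : conjAct hx d ∈ coordRing hx :=
  Subring.subset_closure ⟨d, rfl⟩

theorem coordRing_comm {r s : AddMonoid.End (KerAdd hx)} (hr : r ∈ coordRing hx)
    (hs : s ∈ coordRing hx) : r * s = s * r := by
  have h0 : ∀ d e : D2 G a b, conjAct hx d * conjAct hx e = conjAct hx e * conjAct hx d := fun d e => by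
    rw [← map_mul, ← map_mul]
    exact congrArg _ (hx.commH d e)
  have h1 : ∀ d : D2 G a b, ∀ x ∈ coordRing hx, conjAct hx d * x = x * conjAct hx d := by
    intro d
    have : coordRing hx ≤ Subring.centralizer {conjAct hx d} :=
      Subring.closure_le.mpr fun _ ⟨e, he⟩ => Subring.mem_centralizer_iff.mpr fun y hy => by
        rw [Set.mem_singleton_iff.mp hy, ← he, h0]
    exact fun x hx' => Subring.mem_centralizer_iff.mp (this hx') _ rfl
  have : coordRing hx ≤ Subring.centralizer {r} :=
    Subring.closure_le.mpr fun _ ⟨d, hd⟩ => Subring.mem_centralizer_iff.mpr fun y hy => by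
      rw [Set.mem_singleton_iff.mp hy, ← hd, h1 d r hr]
  exact Subring.mem_centralizer_iff.mp (this hs) r rfl

/-- An invariant subgroup is trivial or everything. -/
theorem invariant_eq_top (W : AddSubgroup (KerAdd hx))
    (hW : ∀ d : D2 G a b, ∀ w ∈ W, conjAct hx d w ∈ W) (h0 : W ≠ ⊥) : W = ⊤ := by
  haveI := finite_points hx.zg
  obtain ⟨w, hw, hw0⟩ := W.bot_or_exists_ne_zero.resolve_left h0
  let f : Option (D2 G a b) → W := fun o => o.elim 0 fun d => ⟨conjAct hx d w, hW d w hw⟩
  have hcomp : ∀ d e : D2 G a b, conjAct hx (d * e) w = conjAct hx d (conjAct hx e w) :=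
    fun d e => by rw [map_mul]; rfl
  have hne : ∀ d, conjAct hx d w ≠ 0 := fun d e => hw0 (by
    have := hcomp d⁻¹ d
    rw [inv_mul_cancel, map_one, e, map_zero] at this
    exact this)
  have hinj : Function.Injective f := by
    rintro (_ | d) (_ | e) h
    · rfl
    · exact absurd (congrArg Subtype.val h).symm (hne e)
    · exact absurd (congrArg Subtype.val h) (hne d)
    · have h' : conjAct hx d w = conjAct hx e w := congrArg Subtype.val h
      have h2 := hcomp e⁻¹ d
      rw [h', ← hcomp, inv_mul_cancel, map_one] at h2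
      exact congrArg some (inv_mul_eq_one.mp (conjAct_fixed hx hw0 h2)).symm
  have hle := Nat.card_le_card_of_injective f hinj
  rw [Finite.card_option] at hle
  have hU : Nat.card (KerAdd hx) = 2 * Nat.card (D2 G a b) + 1 := by
    exact ker_card hx
  apply AddSubgroup.eq_top_of_card_eq
  obtain ⟨m, hm⟩ := W.card_addSubgroup_dvd_card
  rw [hU] at hm ⊢
  rcases m with _ | _ | m
  · omega
  · omega
  · nlinarith

theorem eq_zero_of_kills {r : AddMonoid.End (KerAdd hx)} (hr : r ∈ coordRing hx)
    {v : KerAdd hx} (hv : v ≠ 0) (h : r v = 0) : r = 0 := by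
  let W : AddSubgroup (KerAdd hx) :=
    { carrier := {w | r w = 0}
      zero_mem' := map_zero r
      add_mem' := fun {x y} hx' hy' => by
        show r (x + y) = 0
        rw [map_add, show r x = 0 from hx', show r y = 0 from hy', add_zero]
      neg_mem' := fun {x} hx' => by
        show r (-x) = 0
        rw [map_neg, show r x = 0 from hx', neg_zero] }
  have htop := invariant_eq_top hx W (fun d w hw => by
    show (r * conjAct hx d) w = 0
    rw [coordRing_comm hx hr (conjAct_mem hx d)]
    show conjAct hx d (r w) = 0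
    rw [show r w = 0 from hw, map_zero]) (fun e => hv (by
      have : v ∈ W := h
      rw [e, AddSubgroup.mem_bot] at this
      exact this))
  exact DFunLike.ext _ _ fun w => show w ∈ W from htop ▸ AddSubgroup.mem_top w

include hx in
/-- The field and the coordinates. -/
theorem exists_coord :
    ∃ (K : Type) (_ : Field K) (_ : Fintype K), Fintype.card K = 2 * Nat.card (D2 G a b) + 1 ∧
      ∃ e : OnePoint K ≃ Ω, e OnePoint.infty = a ∧ e ((0 : K) : OnePoint K) = b ∧
        (∀ s : K, ∃ g : G, g • a = a ∧ ∀ x : K, g • e (x : OnePoint K) = e ((x + s : K) : OnePoint K)) ∧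
        ∃ χ : D2 G a b →* Kˣ, Function.Injective χ ∧
          ∀ (d : D2 G a b) (x : K), (d : G) • e (x : OnePoint K) = e (((χ d : K) * x : K) : OnePoint K) := by
  classical
  haveI := finite_points hx.zg
  haveI : Finite (AddMonoid.End (KerAdd hx)) :=
    Finite.of_injective (fun f => (f : KerAdd hx → KerAdd hx)) fun f g h => DFunLike.ext _ _ (congrFun h)
  haveI : Nontrivial (KerAdd hx) := by
    refine Finite.one_lt_card_iff_nontrivial.mp ?_
    rw [show Nat.card (KerAdd hx) = 2 * Nat.card (D2 G a b) + 1 from ker_card hx]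
    have : 0 < Nat.card (D2 G a b) := Nat.card_pos
    omega
  obtain ⟨v, hv⟩ := exists_ne (0 : KerAdd hx)
  set R := coordRing hx
  letI : CommRing R := { (inferInstance : Ring R) with
    mul_comm := fun r s => Subtype.ext (coordRing_comm hx r.2 s.2) }
  haveI : Nontrivial R := ⟨0, 1, fun e => hv (by
    have h1 : ((0 : R) : AddMonoid.End (KerAdd hx)) v = ((1 : R) : AddMonoid.End (KerAdd hx)) v := by rw [e]
    exact h1.symm)⟩
  haveI : NoZeroDivisors R := ⟨fun {r s} h => by
    by_contra hc
    push Not at hc
    obtain ⟨w, hw⟩ : ∃ w, (s : AddMonoid.End (KerAdd hx)) w ≠ 0 := by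
      by_contra hall
      push Not at hall
      exact hc.2 (Subtype.ext (AddMonoidHom.ext hall))
    exact hc.1 (Subtype.ext (eq_zero_of_kills hx r.2 hw
      (show ((r * s : R) : AddMonoid.End (KerAdd hx)) w = 0 by rw [h]; rfl)))⟩
  haveI : IsDomain R := NoZeroDivisors.to_isDomain R
  -- evaluation
  let ev : R →+ KerAdd hx :=
    { toFun := fun r => (r : AddMonoid.End (KerAdd hx)) v, map_zero' := rfl, map_add' := fun r s => rfl }
  have evinj : Function.Injective ev := by
    rw [injective_iff_map_eq_zero]
    exact fun r hr => Subtype.ext (eq_zero_of_kills hx r.2 hv hr)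
  have evsurj : Function.Surjective ev := by
    rw [← AddMonoidHom.range_eq_top]
    refine invariant_eq_top hx _ ?_ ?_
    · rintro d _ ⟨r, rfl⟩
      exact ⟨⟨_, conjAct_mem hx d⟩ * r, rfl⟩
    · intro e
      have : ev 1 ∈ ev.range := ⟨1, rfl⟩
      rw [e, AddSubgroup.mem_bot] at this
      exact hv this
  letI : Fintype R := Fintype.ofFinite R
  letI : Field R := Fintype.fieldOfDomain R
  let eK : Pt (Fintype.card R) ≃ R := (Fintype.equivFin R).symm
  letI instK : Field (Pt (Fintype.card R)) := eK.field
  obtain ⟨rK⟩ : Nonempty (Pt (Fintype.card R) ≃+* R) := ⟨eK.ringEquiv⟩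
  let K := Pt (Fintype.card R)
  let ψ : K → Ω := fun x => ((Additive.toMul (ev (rK x)) : U) : G) • b
  have hψa : ∀ x, ψ x ≠ a := fun x e => hx.hab
    ((smul_left_cancel _ (e.trans (hx.hK.le (Additive.toMul (ev (rK x))).2).symm))).symm
  let f : OnePoint K → Ω := fun z => z.elim a ψ
  have hψ : Function.Bijective fun x : K => (⟨ψ x, hψa x⟩ : {x : Ω // x ≠ a}) :=
    ((ker_bijective hx).comp (Additive.toMul.bijective.comp ⟨evinj, evsurj⟩)).comp rK.bijective
  have hf : Function.Bijective f := by
    constructor
    · intro z z' h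
      cases z <;> cases z'
      · rfl
      · rename_i x; exact absurd h.symm (hψa x)
      · rename_i x; exact absurd h (hψa x)
      · exact congrArg OnePoint.some (hψ.1 (Subtype.ext h))
    · intro y
      by_cases hy : y = a
      · exact ⟨OnePoint.infty, hy.symm⟩
      · obtain ⟨x, hx'⟩ := hψ.2 ⟨y, hy⟩
        exact ⟨OnePoint.some x, congrArg Subtype.val hx'⟩
  let χR : D2 G a b →* R := (conjAct hx).codRestrict R.toSubmonoid (conjAct_mem hx)
  let χ : D2 G a b →* Kˣ := ((rK.symm.toRingHom.toMonoidHom).comp χR).toHomUnits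
  refine ⟨K, instK, inferInstance, ?_, Equiv.ofBijective f hf, rfl, ?_,
    fun s => ⟨((Additive.toMul (ev (rK s)) : U) : G), hx.hK.le (Additive.toMul (ev (rK s))).2, fun x => ?_⟩,
    χ, ?_, fun d x => ?_⟩
  · rw [card_pt, ← Nat.card_eq_fintype_card, Nat.card_eq_of_bijective ev ⟨evinj, evsurj⟩,
      show Nat.card (KerAdd hx) = 2 * Nat.card (D2 G a b) + 1 from ker_card hx]
  · show ψ 0 = b
    simp only [ψ]
    rw [map_zero rK, map_zero ev]
    exact one_smul _ _
  · show _ • ψ x = ψ (x + s)
    simp only [ψ]
    rw [map_add rK, map_add ev]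
    rw [← mul_smul]
    congr 1
    exact congrArg (Subtype.val : U → G) (hx.commU (Additive.toMul (ev (rK s))) (Additive.toMul (ev (rK x))))
  · intro d e h
    have h1 : χR d = χR e := rK.symm.injective (congrArg Units.val h)
    have h2 : conjAct hx d = conjAct hx e := congrArg Subtype.val h1
    refine (inv_mul_eq_one.mp (conjAct_fixed hx hv (d := d⁻¹ * e) ?_))
    rw [map_mul]
    show conjAct hx d⁻¹ (conjAct hx e v) = v
    rw [← h2]
    show (conjAct hx d⁻¹ * conjAct hx d) v = v
    rw [← map_mul, inv_mul_cancel, map_one]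
    rfl
  · show (d : G) • ψ x = ψ ((χ d : K) * x)
    have e1 : rK ((χ d : K) * x) = χR d * rK x := by
      rw [map_mul, show (χ d : K) = rK.symm (χR d) from rfl, RingEquiv.apply_symm_apply]
    simp only [ψ, e1]
    show _ = ((Additive.toMul (conjAct hx d (ev (rK x))) : U) : G) • b
    rw [conjAct_coe, mul_smul, mul_smul, inv_smul_eq_iff.mpr (show b = (d : G) • b from d.2.2.symm)]

end AbExt

end CfsgLib.Zassenhaus
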