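import Mathlib

/-!
# Degrees in a Zassenhaus group with a regular 2-subgroup of cube order

If `a M + b q` divides `(q³ + 1) q³` with `M = q² + q + 1`, `2 a² ≤ q` and `b² ≤ q`, then `b = -2 a`.
-/

set_option autoImplicit false

namespace CfsgLib.Zassenhaus

theorem cube_degree_general {q r t a' k b : ℤ} (hq : 16 ≤ q) (hqr : q = t * r) (ht : 1 ≤ t) (hr : 0 < r)
    (ha' : 1 ≤ a') (h2a : 2 * (t * a') * (t * a') ≤ q) (hb : b * b ≤ q)
    (hk : (a' * (q * q + q + 1) + b * r) * k = q ^ 3 + 1) : b = -2 * (t * a') := by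
  set M := q * q + q + 1 with hM
  have hq2 : 16 * q ≤ q * q := mul_le_mul_of_nonneg_right hq (by linarith)
  have hb4 : -q ≤ 4 * b ∧ 4 * b ≤ q := by
    constructor <;> by_contra h <;> push Not at h <;> nlinarith
  have hta : 4 * (t * a') ≤ q := by
    by_contra h
    push Not at h
    nlinarith
  have hta' : t ≤ t * a' := le_mul_of_one_le_right (by linarith) ha'
  have hrq : r ≤ q := hqr ▸ le_mul_of_one_le_left hr.le ht
  have hD : a' * (3 * (q * q)) ≤ 4 * (a' * M + b * r) := by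
    have h1 : -(q * q) ≤ 4 * b * r := by
      nlinarith [mul_le_mul_of_nonneg_right hb4.1 hr.le, mul_le_mul_of_nonneg_left hrq (show 0 ≤ q by linarith)]
    have h2 : 0 ≤ (a' - 1) * (q * q) := mul_nonneg (by linarith) (by positivity)
    have h3 : 0 ≤ a' * (4 * q + 4) := mul_nonneg (by linarith) (by linarith)
    rw [hM]
    linear_combination h1 + h2 + h3
  have hk0 : 0 < k := by
    by_contra h
    push Not at h
    have : 0 < q ^ 3 + 1 := by positivity
    have h' : 0 < a' * (3 * (q * q)) := by positivity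
    nlinarith [mul_nonpos_of_nonneg_of_nonpos (le_trans h'.le hD) h]
  have hka : 2 * (k * a') ≤ 3 * q := by
    have h1 := mul_le_mul_of_nonneg_left hD hk0.le
    by_contra h
    push Not at h
    have h2 : (3 * q) * (3 * (q * q)) ≤ 2 * (k * a') * (3 * (q * q)) :=
      mul_le_mul_of_nonneg_right h.le (by positivity)
    nlinarith
  -- the quotient is congruent to its size
  set m := k * a' - q + 1 with hm
  have hmM : m * M + k * b * r = 2 := by
    rw [hm, hM]
    linear_combination hk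
  obtain ⟨j, hj⟩ : r ∣ m - 2 := by
    refine ⟨-(k * b) - m * (t * (q + 1)), ?_⟩
    linear_combination hmM - m * hM - (m * (q + 1)) * hqr
  have hjM : r * (2 * t * (q + 1) + j * M + k * b) = 0 := by
    linear_combination hmM - M * hj - 2 * hM - (2 * (q + 1)) * hqr
  have hjM' : 2 * t * (q + 1) + j * M + k * b = 0 :=
    (mul_eq_zero.mp hjM).resolve_left hr.ne'
  have hkb : -(3 * (q * q)) ≤ 8 * (k * b) ∧ 8 * (k * b) ≤ 3 * (q * q) := by
    have hk' : 2 * k ≤ 3 * q :=
      le_trans (mul_le_mul_of_nonneg_left (le_mul_of_one_le_right hk0.le ha') (by norm_num)) hka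
    have e : (3 * q) * q = 3 * (q * q) := by ring
    constructor <;> nlinarith [mul_le_mul_of_nonneg_left hb4.1 (show (0 : ℤ) ≤ 2 * k by linarith),
      mul_le_mul_of_nonneg_left hb4.2 (show (0 : ℤ) ≤ 2 * k by linarith),
      mul_le_mul_of_nonneg_right hk' (show (0 : ℤ) ≤ q by linarith)]
  have hj0 : j = 0 := by
    have h2t : 4 * (2 * t * (q + 1)) ≤ 2 * (q * (q + 1)) := by nlinarith
    have h2t0 : 0 ≤ 2 * t * (q + 1) := by nlinarith
    by_contra hj0
    rcases lt_or_gt_of_ne hj0 with h | h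
    · nlinarith [mul_le_mul_of_nonneg_right (show j ≤ -1 by omega) (show 0 ≤ M by nlinarith)]
    · nlinarith [mul_le_mul_of_nonneg_right (show 1 ≤ j by omega) (show 0 ≤ M by nlinarith)]
  subst hj0
  rw [mul_zero, hm] at hj
  have hka2 : k * a' = q + 1 := by linarith
  rw [zero_mul, add_zero] at hjM'
  have : k * (b + 2 * (t * a')) = 0 := by linear_combination hjM' + (2 * t) * hka2
  have := (mul_eq_zero.mp this).resolve_left hk0.ne'
  linarith

theorem cube_degree {n : ℕ} (hn : 2 ≤ n) {a : ℕ} {b : ℤ} (ha : 1 ≤ a) (h2a : 2 * a * a ≤ 2 ^ n)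
    (hb : b * b ≤ 2 ^ n)
    (hdvd : (a : ℤ) * (2 ^ n * 2 ^ n + 2 ^ n + 1) + b * 2 ^ n ∣ ((2 ^ n) ^ 3 + 1) * (2 ^ n) ^ 3) :
    b = -2 * a := by
  by_cases h4 : n < 4
  · have hb3 : -2 ≤ b ∧ b ≤ 2 := by
      have : (2 : ℤ) ^ n ≤ 8 := le_trans (pow_le_pow_right₀ (by norm_num) (show n ≤ 3 by omega)) (by norm_num)
      constructor <;> nlinarith
    have ha3 : a ≤ 2 := by
      have : 2 ^ n ≤ 2 ^ 3 := Nat.pow_le_pow_right (by norm_num) (by omega)
      nlinarith
    obtain ⟨h1, h2⟩ := hb3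
    interval_cases n <;> interval_cases a <;> interval_cases b <;> first | (norm_num; done) | norm_num at hdvd | norm_num at h2a
  obtain ⟨s, a', ha', rfl⟩ := Nat.exists_eq_two_pow_mul_odd (show a ≠ 0 by omega)
  have hpos : 1 ≤ a' := Odd.pos ha'
  have hsn : s < n := by
    by_contra h
    have h1 : 2 ^ n ≤ 2 ^ s * a' :=
      le_trans (Nat.pow_le_pow_right (by norm_num) (not_lt.mp h)) (Nat.le_mul_of_pos_right _ hpos)
    have h2 := Nat.mul_le_mul_left (2 * (2 ^ s * a')) ha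
    nlinarith [Nat.one_le_two_pow (n := n)]
  set r : ℤ := 2 ^ (n - s) with hr
  have hqr : (2 : ℤ) ^ n = 2 ^ s * r := by rw [hr, ← pow_add, Nat.add_sub_cancel' hsn.le]
  have he : (2 : ℤ) ∣ r := dvd_pow_self 2 (by omega)
  set D := (a' : ℤ) * (2 ^ n * 2 ^ n + 2 ^ n + 1) + b * r with hD
  have hDdvd : D ∣ ((2 ^ n) ^ 3 + 1) * ((2 : ℤ) ^ n) ^ 3 := by
    refine dvd_trans ⟨2 ^ s, ?_⟩ hdvd
    rw [hD]
    push_cast
    linear_combination b * hqr
  have hodd : IsCoprime D ((2 : ℤ) ^ n) := by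
    refine IsCoprime.pow_right ?_
    refine ((Int.prime_two).coprime_iff_not_dvd.mpr fun h => ?_).symm
    obtain ⟨c, hc⟩ := ha'
    obtain ⟨e, hee⟩ := he
    obtain ⟨f, hf⟩ := h
    have h2 : (2 : ℤ) ^ n = 2 * 2 ^ (n - 1) := by rw [← pow_succ', Nat.sub_add_cancel (by omega)]
    rw [hD, hee, h2, hc] at hf
    push_cast at hf
    have : (2 : ℤ) ∣ 1 := ⟨f - c * (2 * 2 ^ (n - 1) * (2 * 2 ^ (n - 1)) + 2 * 2 ^ (n - 1) + 1) -
      (2 * 2 ^ (n - 1) * 2 ^ (n - 1) + 2 ^ (n - 1)) - b * e, by linear_combination hf⟩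
    omega
  obtain ⟨k, hk⟩ := hodd.pow_right.dvd_of_dvd_mul_right hDdvd
  have h16 : (16 : ℤ) ≤ 2 ^ n := le_trans (by norm_num) (pow_le_pow_right₀ (by norm_num) (show 4 ≤ n by omega))
  have := cube_degree_general h16 hqr (one_le_pow₀ (by norm_num)) (by positivity) (by exact_mod_cast hpos)
    (by have : ((2 * (2 ^ s * a') * (2 ^ s * a') : ℕ) : ℤ) ≤ ((2 ^ n : ℕ) : ℤ) := by exact_mod_cast h2a
        push_cast at this; exact this) hb hk.symm
  rw [this]
  push_cast
  ring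

end CfsgLib.Zassenhaus
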