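import Cfsg.Agent.Lib.Zassenhaus.OddChars
import Cfsg.Agent.Lib.Char.Central

/-!
# Feit's inequality for an abelian regular subgroup
-/

set_option autoImplicit false
set_option linter.style.haveILetI false
set_option linter.unusedSectionVars false

open MulAction Cfsg
open scoped ComplexConjugate CfsgLib.Char

namespace CfsgLib.Zassenhaus

namespace OddInv

open CfsgLib.Char.TINilpotent

variable {G Ω : Type*} [Group G] [MulAction G Ω] [Fintype G] {a b : Ω} {U : Subgroup G} {v : G}
  [Fintype U] [Fintype (D2 G a b)] [Fintype (stabilizer G a)] (hO : OddInv G Ω a b U v)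
include hO

/-- A nontrivial invariant subgroup has more elements than the two-point stabilizer. -/
theorem lt_card_invariant {W : Subgroup G} (hWU : W ≤ U) (hne : W ≠ ⊥)
    (hinv : ∀ h ∈ D2 G a b, ∀ w ∈ W, h * w * h⁻¹ ∈ W) : Nat.card (D2 G a b) < Nat.card W := by
  classical
  have hS := hO.hK.setting hO.hz hO.hb
  obtain ⟨w, hw, hw1⟩ := W.bot_or_exists_ne_one.resolve_left hne
  let f : Option (D2 G a b) → W := fun o => o.elim 1 fun h => ⟨(h : G) * w * (h : G)⁻¹, hinv h h.2 w hw⟩
  have hne' : ∀ h : G, h * w * h⁻¹ ≠ 1 := fun h e => hw1 (conj_eq_one_iff.mp e)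
  have hf : Function.Injective f := by
    rintro (_ | g) (_ | h) e
    · rfl
    · exact absurd (congrArg Subtype.val e).symm (hne' h)
    · exact absurd (congrArg Subtype.val e) (hne' g)
    · have e' : (g : G) * w * (g : G)⁻¹ = (h : G) * w * (h : G)⁻¹ := congrArg Subtype.val e
      refine congrArg some (Subtype.ext (inv_mul_eq_one.mp ?_).symm)
      refine hS.free _ ((D2 G a b).mul_mem ((D2 G a b).inv_mem h.2) g.2) w (hWU hw) hw1 ?_
      calc (h : G)⁻¹ * g * w * ((h : G)⁻¹ * g)⁻¹ = (h : G)⁻¹ * ((g : G) * w * (g : G)⁻¹) * h := by group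
        _ = w := by rw [e']; group
  have := Nat.card_le_card_of_injective f hf
  rw [Finite.card_option] at this
  omega

/-- With an abelian regular subgroup there are at most two orbits. -/
theorem two_orbits (hab : ∀ x y : U, x * y = y * x) :
    Nat.card U - 1 ≤ 2 * Nat.card (D2 G a b) := by
  classical
  set k := Nat.card (D2 G a b) with hk
  set q := Nat.card U with hq
  have hS := hO.hK.setting hO.hz hO.hb
  have hdeg : ∀ θ : IrrCharacter U, (θ : U → ℂ) 1 = 1 := CfsgLib.Char.degree_one_of_comm hab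
  have hdeg' : ∀ θ : IrrCharacter U, deg θ = 1 := fun θ => by
    have h := deg_cast θ
    rw [hdeg θ] at h
    exact_mod_cast h.symm
  set nt := (Finset.univ : Finset (IrrCharacter U)).erase triv with hnt
  have hntc : nt.card = q - 1 := by
    rw [hnt, Finset.card_erase_of_mem (Finset.mem_univ _), Finset.card_univ, ← Nat.card_eq_fintype_card,
      CfsgLib.Char.card_irr_eq_card_conjClasses,
      Nat.card_congr (Equiv.ofBijective (ConjClasses.mk : U → _) ⟨fun x y h => by
        obtain ⟨c, hc⟩ := isConj_iff.mp (ConjClasses.mk_eq_mk_iff_isConj.mp h)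
        rw [hab c x, mul_inv_cancel_right] at hc
        exact hc, ConjClasses.mk_surjective⟩).symm]
  have hmemnt : ∀ θ : IrrCharacter U, θ ∈ nt ↔ θ ≠ triv ∧ θ ∈ (Finset.univ : Finset (IrrCharacter U)) :=
    fun θ => by simp only [hnt, Finset.mem_erase]
  let J := {O : Finset (IrrCharacter U) // O ∈ nt.image (orb hS)}
  have hrep : ∀ j : J, ∃ θ, θ ≠ triv ∧ orb hS θ = j.1 := fun j => by
    obtain ⟨θ, hθ, e⟩ := Finset.mem_image.mp j.2
    exact ⟨θ, Finset.ne_of_mem_erase hθ, e⟩
  choose rep hrep1 hrep2 using hrep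
  have hrel : ∀ i j : J, i ≠ j → ¬ Rel hS (rep i) (rep j) := by
    intro i j hij h
    refine hij (Subtype.ext ?_)
    rw [← hrep2 i, ← hrep2 j]
    ext ψ
    rw [mem_orb, mem_orb]
    exact ⟨fun h' => h.symm.trans h', fun h' => h.trans h'⟩
  have hfib : ∀ j : J, (nt.filter fun θ => orb hS θ = j.1) = orb hS (rep j) := by
    intro j
    ext θ
    rw [Finset.mem_filter, mem_orb, hmemnt]
    constructor
    · rintro ⟨-, e⟩
      rw [← hrep2 j] at e
      exact mem_orb.mp (e ▸ mem_orb.mpr (Rel.refl hS θ))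
    · intro h
      refine ⟨⟨fun e => not_rel_triv (hrep1 j) (e ▸ h).symm, Finset.mem_univ _⟩, ?_⟩
      rw [← hrep2 j]
      ext ψ
      rw [mem_orb, mem_orb]
      exact ⟨fun h' => h.trans h', fun h' => h.symm.trans h'⟩
  have hJsum : ∀ f : IrrCharacter U → ℤ, (∀ θ φ, Rel hS θ φ → f φ = f θ) →
      ∑ θ ∈ nt, f θ = k * ∑ j : J, f (rep j) := by
    intro f hf
    rw [← Finset.sum_fiberwise_of_maps_to (g := orb hS) (t := nt.image (orb hS))
      (fun θ h => Finset.mem_image_of_mem _ h), ← Finset.sum_coe_sort (nt.image (orb hS)), Finset.mul_sum]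
    refine Finset.sum_congr rfl fun j _ => ?_
    rw [hfib j, Finset.sum_congr rfl (g := fun _ => f (rep j)) fun θ hθ => hf _ _ (mem_orb.mp hθ),
      Finset.sum_const, card_orb hS (hrep1 j), nsmul_eq_mul]
  have hqJ : (q : ℤ) = Fintype.card J * k + 1 := by
    have h := hJsum (fun _ => 1) (fun _ _ _ => rfl)
    simp only [Finset.sum_const, nsmul_eq_mul, mul_one, hntc, Finset.card_univ] at h
    have : 0 < q := Nat.card_pos
    push_cast [Nat.cast_sub (show 1 ≤ q by omega)] at h
    linarith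
  by_contra hgt
  push Not at hgt
  have hm : 3 ≤ Fintype.card J := by
    by_contra hlt
    push Not at hlt
    have : Fintype.card J * k ≤ 2 * k := Nat.mul_le_mul_right k (by omega)
    have hqn : q = Fintype.card J * k + 1 := by exact_mod_cast hqJ
    omega
  obtain ⟨g, hg⟩ := hO.odd
  rw [← hk] at hg
  have hg0 : 0 < g := by have := hO.nt; omega
  let Z := {χ : IrrCharacter G // χ ∉ S hO}
  set x : Z → J → ℤ := fun χ j => N (rep j) χ.1 with hx
  have hgram : ∀ i j, ∑ χ, x χ i * x χ j = (g : ℤ) + if i = j then 1 else 0 := by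
    intro i j
    have h1 : ∑ χ : IrrCharacter G, N (rep i) χ * N (rep j) χ = k + if i = j then 1 else 0 := by
      split_ifs with h
      · subst h; rw [gram_self hS (hrep1 i), hdeg']; push_cast; ring
      · rw [gram_off hS (hrel i j h), hdeg', hdeg']; push_cast; ring
    have h2 := gram_S hO (hrep1 i) (hrep1 j) (hdeg _) (hdeg _)
    rw [← Finset.sum_add_sum_compl (S hO)] at h1
    have h3 : ∑ χ : Z, x χ i * x χ j = ∑ χ ∈ (S hO)ᶜ, N (rep i) χ * N (rep j) χ :=
      (Finset.sum_subtype _ (fun χ => Finset.mem_compl) (fun χ => N (rep i) χ * N (rep j) χ)).symm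
    rw [h3]
    rw [hg] at h1
    rw [← hk, hg] at h2
    push_cast at h1 h2 ⊢
    linarith
  have hqC : (q : ℂ) ≠ 0 := Nat.cast_ne_zero.mpr Nat.card_pos.ne'
  have hdvd : ∀ χ : Z, 0 < ∑ j, x χ j ∧ ∑ j, x χ j ∣ (q : ℤ) * (q + 1) := by
    intro χ
    obtain ⟨d, hd, hd0, hdG⟩ := CfsgLib.Char.exists_degree_dvd_card χ.1.2
    have hres := congrFun (CfsgLib.Char.classFunction_expansion (G := U)
      (f := fun u : U => (χ.1 : G → ℂ) u)
      (CfsgLib.Char.isClassFunction_of_isCharacter
        (CfsgLib.Char.isCharacter_restrict U (CfsgLib.Char.isCharacter_of_isIrr χ.1.2)))) 1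
    simp only [Finset.sum_apply, Pi.smul_apply, smul_eq_mul, hdeg, mul_one, OneMemClass.coe_one, hd,
      ← N_cast] at hres
    have htriv : N (triv : IrrCharacter U) χ.1 = 0 := by
      have h := N_cast (triv : IrrCharacter U) χ.1
      rw [classInner, show ∑ u : U, (χ.1 : G → ℂ) u * conj ((triv : IrrCharacter U).1 u) =
        ∑ u : U, (χ.1 : G → ℂ) u from Finset.sum_congr rfl fun u _ => by simp [triv],
        sum_kernel_eq_zero hO χ.2, mul_zero] at h
      exact_mod_cast h
    have hd' : (d : ℤ) = k * ∑ j, x χ j := by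
      have h : (d : ℤ) = ∑ θ : IrrCharacter U, N θ χ.1 := by exact_mod_cast hres
      rw [← Finset.add_sum_erase _ _ (Finset.mem_univ (triv : IrrCharacter U)), htriv, zero_add] at h
      rw [h]
      exact hJsum (fun θ => N θ χ.1) (fun θ φ h => congrFun h.N_eq χ.1)
    refine ⟨?_, ?_⟩
    · have : (0 : ℤ) < k * ∑ j, x χ j := hd' ▸ by exact_mod_cast hd0
      exact (mul_pos_iff_of_pos_left (by have := hO.nt; omega)).mp this
    · have hG : (Nat.card G : ℤ) = k * ((q : ℤ) * (q + 1)) := by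
        rw [card_group hO.hz hO.hb.symm, card_points hO, Nat.add_sub_cancel, ← hk, ← hq]
        push_cast; ring
      have h := Int.natCast_dvd_natCast.mpr hdG
      rw [hd', hG] at h
      exact Int.dvd_of_mul_dvd_mul_left (by have := hO.nt; omega) h
  obtain ⟨hgm, hqm⟩ := CfsgLib.Char.OrbitVectors.shape x hgram (fun χ j => N_nonneg _ _) hm
    (by exact_mod_cast hg0) (q := q) (by rw [hqJ, hg]; push_cast; ring) (fun χ => (hdvd χ).1)
    (fun χ => (hdvd χ).2)
  -- the order is not that of such a group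
  set m := Fintype.card J with hmJ
  have hgm' : g + 2 = m := by exact_mod_cast hgm
  have hqm' : q = (m - 1) * (2 * m - 1) := by
    zify [show 1 ≤ m by omega, show 1 ≤ 2 * m by omega]
    linarith
  obtain ⟨p, hp, hpd⟩ := Nat.exists_prime_and_dvd (show m - 1 ≠ 1 by omega)
  haveI := Fact.mk hp
  set i := q.factorization p with hi
  have hW1 : p ^ i ∣ m - 1 := by
    refine Nat.Coprime.dvd_of_dvd_mul_right (k := p ^ i) (n := 2 * m - 1) ?_ (hqm' ▸ Nat.ordProj_dvd q p)
    refine Nat.Coprime.pow_left i ((Nat.Prime.coprime_iff_not_dvd hp).mpr fun h => ?_)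
    have h1 := Nat.dvd_sub h (hpd.mul_left 2)
    rw [show 2 * m - 1 - 2 * (m - 1) = 1 by omega] at h1
    exact hp.one_lt.ne' (Nat.dvd_one.mp h1)
  have hcommU : ∀ x ∈ U, ∀ y ∈ U, x * y = y * x := fun x hx y hy =>
    congrArg Subtype.val (hab ⟨x, hx⟩ ⟨y, hy⟩)
  let W : Subgroup G :=
    { carrier := {u | u ∈ U ∧ u ^ p ^ i = 1}
      one_mem' := ⟨U.one_mem, one_pow _⟩
      mul_mem' := fun {x y} hx hy => ⟨U.mul_mem hx.1 hy.1, by
        rw [(show Commute x y from hcommU x hx.1 y hy.1).mul_pow, hx.2, hy.2, one_mul]⟩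
      inv_mem' := fun {x} hx => ⟨U.inv_mem hx.1, by rw [inv_pow, hx.2, inv_one]⟩ }
  have hpq : p ∣ q := hqm' ▸ hpd.mul_right _
  have hi0 : 0 < i := hp.factorization_pos_of_dvd Nat.card_pos.ne' hpq
  obtain ⟨w, hw⟩ := exists_prime_orderOf_dvd_card' (G := U) p hpq
  have hWne : W ≠ ⊥ := fun e => by
    have hm : (w : G) ∈ W := ⟨w.2, orderOf_dvd_iff_pow_eq_one.mp (by
      rw [Subgroup.orderOf_coe, hw]; exact dvd_pow_self p hi0.ne')⟩
    rw [e, Subgroup.mem_bot] at hm
    rw [← Subgroup.orderOf_coe, hm, orderOf_one] at hw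
    exact hp.one_lt.ne hw
  have hlt := lt_card_invariant hO (W := W) (show W ≤ U from fun u hu => And.left hu) hWne fun h hh u hu =>
    ⟨hS.norm h hh u hu.1, by rw [conj_pow, hu.2, mul_one, mul_inv_cancel]⟩
  have hWp : IsPGroup p W := fun u => ⟨i, Subtype.ext u.2.2⟩
  have hWd : Nat.card W ∣ p ^ i := by
    obtain ⟨j, hj⟩ := hWp.exists_card_eq
    have hWq : Nat.card W ∣ q := Subgroup.card_dvd_of_le (show W ≤ U from fun u hu => And.left hu)
    rw [hj] at hWq ⊢
    exact pow_dvd_pow p ((hp.pow_dvd_iff_le_factorization Nat.card_pos.ne').mp hWq)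
  have := Nat.le_of_dvd (by omega) (hWd.trans hW1)
  omega

end OddInv

end CfsgLib.Zassenhaus
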