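import Cfsg.Agent.Lib.Zassenhaus.EvenStab

/-!
The abelian regular kernel in the extreme case of an even two-point stabilizer.
-/

set_option autoImplicit false
set_option linter.style.haveILetI false

open MulAction

namespace CfsgLib.Zassenhaus

/-- The extreme case. -/
structure Ext (G Ω : Type*) [Group G] [MulAction G Ω] : Prop where
  zg : ZG G Ω
  even : ∀ a b : Ω, a ≠ b → Even (Nat.card (D2 G a b))
  two_mul : ∀ a b : Ω, a ≠ b → Nat.card Ω = 2 * Nat.card (D2 G a b) + 2
  swap_refl : ∀ g : G, ∀ c d : Ω, c ≠ d → g • c = d → g • d = c → IsReflection Ω g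
  refl_unique : ∀ s s' : G, ∀ c d : Ω, c ≠ d → IsReflection Ω s → IsReflection Ω s' → s ∈ D2 G c d →
    s' ∈ D2 G c d → s = s'

variable {G Ω : Type*} [Group G] [MulAction G Ω]

theorem Ext.of_le (hz : ZG G Ω) {a b : Ω} (hab : a ≠ b) (heven : Even (Nat.card (D2 G a b)))
    (hle : 2 * Nat.card (D2 G a b) ≤ Nat.card Ω - 2) : Ext G Ω := by
  obtain ⟨h1, h2⟩ := even_bound hz hab heven
  obtain ⟨h3, h4⟩ := h2 hle
  have hcard : ∀ c d : Ω, c ≠ d → Nat.card (D2 G c d) = Nat.card (D2 G a b) := by
    intro c d hcd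
    haveI := transitive hz
    have e1 := card_group hz hab
    rw [card_group hz hcd] at e1
    exact Nat.eq_of_mul_eq_mul_left (Nat.mul_pos (by have := hz.three; omega) (by have := hz.three; omega)) e1
  refine ⟨hz, fun c d hcd => hcard c d hcd ▸ heven, fun c d hcd => ?_, h3, h4⟩
  rw [hcard c d hcd]
  have := hz.three
  omega

variable (hx : Ext G Ω)
include hx

theorem exists_refl {c d : Ω} (hcd : c ≠ d) : ∃ s : G, IsReflection Ω s ∧ s ∈ D2 G c d :=
  exists_reflection hx.zg hcd (hx.even c d hcd) c d hcd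

open scoped Classical in
/-- The reflection with two given fixed points. -/
noncomputable def refl (c d : Ω) : G := if h : c = d then 1 else (exists_refl hx h).choose

theorem refl_spec {c d : Ω} (hcd : c ≠ d) : IsReflection Ω (refl hx c d) ∧ refl hx c d ∈ D2 G c d := by
  rw [refl, dif_neg hcd]; exact (exists_refl hx hcd).choose_spec

theorem refl_mul_self {c d : Ω} (hcd : c ≠ d) : refl hx c d * refl hx c d = 1 := (refl_spec hx hcd).1.2.1

theorem refl_fix {c d : Ω} (hcd : c ≠ d) {x : Ω} : refl hx c d • x = x ↔ x = c ∨ x = d :=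
  ⟨fixed_of_mem hx.zg hcd (refl_spec hx hcd).2 (refl_spec hx hcd).1.1,
    fun h => h.elim (fun e => e ▸ (refl_spec hx hcd).2.1) (fun e => e ▸ (refl_spec hx hcd).2.2)⟩

theorem mul_mem_kerSet {a b c : Ω} (hb : b ≠ a) (hc : c ≠ a) :
    refl hx a b * refl hx a c ∈ kerSet G a := by
  obtain ⟨hrb, hmb⟩ := refl_spec hx hb.symm
  obtain ⟨hrc, hmc⟩ := refl_spec hx hc.symm
  by_cases h1 : refl hx a b * refl hx a c = 1
  · exact Or.inl h1
  refine Or.inr ⟨by rw [mul_smul, show refl hx a c • a = a from hmc.1, show refl hx a b • a = a from hmb.1],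
    fun e he => ?_⟩
  by_contra hea
  apply h1
  set f := refl hx a c • e with hf
  have hbf : refl hx a b • f = e := by rw [hf, ← mul_smul]; exact he
  by_cases hfe : f = e
  · have e1 := ((refl_fix hx hc.symm).mp hfe).resolve_left hea
    have e2 := ((refl_fix hx hb.symm).mp (hfe ▸ hbf : refl hx a b • e = e)).resolve_left hea
    rw [← e1, ← e2, refl_mul_self hx (Ne.symm hea)]
  · have hfa : f ≠ a := fun h => hea (by
      rw [hf] at h
      exact smul_left_cancel (refl hx a c) (h.trans hmc.1.symm))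
    have : refl hx a b = refl hx a c := by
      refine eq_of_three hx.zg (a := a) (b := e) (c := f) (Ne.symm hea) (Ne.symm hfe) (Ne.symm hfa) ?_ ?_ ?_
      · exact hmb.1.trans hmc.1.symm
      · rw [← hf]
        conv_lhs => rw [← hbf]
        exact swap_of_moved hrb.2.1 f
      · rw [hbf, hf, swap_of_moved hrc.2.1]
    rw [this, hrc.2.1]

theorem refl_inj {a c c' : Ω} (hc : c ≠ a) (hc' : c' ≠ a) (h : refl hx a c = refl hx a c') : c = c' := by
  have : refl hx a c' • c = c := h ▸ (refl_spec hx hc.symm).2.2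
  exact ((refl_fix hx hc'.symm).mp this).resolve_left hc

theorem mem_kerSet_iff {a b : Ω} (hb : b ≠ a) {k : G} :
    k ∈ kerSet G a ↔ ∃ c, c ≠ a ∧ k = refl hx a b * refl hx a c := by
  haveI := finite_points hx.zg
  haveI := finite_group hx.zg
  refine ⟨fun hk => ?_, fun ⟨c, hc, e⟩ => e ▸ mul_mem_kerSet hx hb hc⟩
  have himg : (fun c => refl hx a b * refl hx a c) '' {c | c ≠ a} = kerSet G a := by
    refine Set.eq_of_subset_of_ncard_le ?_ ?_ (Set.toFinite _)
    · rintro _ ⟨c, hc, rfl⟩; exact mul_mem_kerSet hx hb hc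
    · have hinj : Set.InjOn (fun c => refl hx a b * refl hx a c) {c | c ≠ a} := fun c hc c' hc' e =>
        refl_inj hx hc hc' (mul_left_cancel e)
      rw [ncard_kerSet hx.zg, hinj.ncard_image,
        show {c : Ω | c ≠ a} = ({a} : Set Ω)ᶜ from rfl, Set.ncard_compl, Set.ncard_singleton]
  obtain ⟨c, hc, e⟩ := himg ▸ hk
  exact ⟨c, hc, e.symm⟩

/-- The kernel. -/
noncomputable def kerSub (a : Ω) : Subgroup G where
  carrier := kerSet G a
  one_mem' := Or.inl rfl
  mul_mem' := fun {k k'} hk hk' => by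
    obtain ⟨b, hb, -⟩ := exists_third hx.zg a a
    obtain ⟨c, hc, rfl⟩ := (mem_kerSet_iff hx hb).mp hk
    obtain ⟨d, hd, rfl⟩ := (mem_kerSet_iff hx hc).mp hk'
    rw [show refl hx a b * refl hx a c * (refl hx a c * refl hx a d) =
      refl hx a b * (refl hx a c * refl hx a c) * refl hx a d by group, refl_mul_self hx hc.symm, mul_one]
    exact mul_mem_kerSet hx hb hd
  inv_mem' := fun {k} hk => by
    obtain ⟨b, hb, -⟩ := exists_third hx.zg a a
    obtain ⟨c, hc, rfl⟩ := (mem_kerSet_iff hx hb).mp hk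
    rw [mul_inv_rev, inv_eq_of_mul_eq_one_right (refl_mul_self hx hc.symm),
      inv_eq_of_mul_eq_one_right (refl_mul_self hx hb.symm)]
    exact mul_mem_kerSet hx hc hb

theorem mem_kerSub {a : Ω} {k : G} : k ∈ kerSub hx a ↔ k ∈ kerSet G a := Iff.rfl

theorem conj_refl {a b : Ω} (hb : b ≠ a) {k : G} (hk : k ∈ kerSub hx a) :
    refl hx a b * k * refl hx a b = k⁻¹ := by
  obtain ⟨c, hc, rfl⟩ := (mem_kerSet_iff hx hb).mp hk
  rw [mul_inv_rev, inv_eq_of_mul_eq_one_right (refl_mul_self hx hc.symm),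
    inv_eq_of_mul_eq_one_right (refl_mul_self hx hb.symm), ← mul_assoc, refl_mul_self hx hb.symm, one_mul]

theorem kerSub_comm {a : Ω} {k k' : G} (hk : k ∈ kerSub hx a) (hk' : k' ∈ kerSub hx a) :
    k * k' = k' * k := by
  obtain ⟨b, hb, -⟩ := exists_third hx.zg a a
  have h1 := conj_refl hx hb (mul_mem hk hk')
  set r := refl hx a b
  have h2 : r * (k * k') * r = (r * k * r) * (r * k' * r) := by
    calc r * (k * k') * r = r * k * 1 * k' * r := by group
      _ = r * k * (r * r) * k' * r := by rw [refl_mul_self hx hb.symm]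
      _ = _ := by group
  rw [h2, conj_refl hx hb hk, conj_refl hx hb hk', ← mul_inv_rev] at h1
  exact (inv_injective h1).symm

theorem kerSub_smul {a : Ω} {k : G} (hk : k ∈ kerSub hx a) : k • a = a := by
  rcases (mem_kerSub hx).mp hk with rfl | h
  · exact one_smul _ _
  · exact h.1

theorem kerSub_free {a c : Ω} {k : G} (hk : k ∈ kerSub hx a) (hc : c ≠ a) (h : k • c = c) : k = 1 := by
  rcases (mem_kerSub hx).mp hk with rfl | h'
  · rfl
  · exact absurd (h'.2 c h) hc

theorem kerSub_normal {a : Ω} {g k : G} (hg : g • a = a) (hk : k ∈ kerSub hx a) :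
    g * k * g⁻¹ ∈ kerSub hx a := by
  have := kerSet_conj (g := g) ((mem_kerSub hx).mp hk)
  rwa [hg] at this

/-- The kernel is regular on the remaining points. -/
theorem kerSub_bijective {a b : Ω} (hb : b ≠ a) :
    Function.Bijective fun k : kerSub hx a => (⟨(k : G) • b, fun e => hb (smul_left_cancel (k : G)
      (e.trans (kerSub_smul hx k.2).symm))⟩ : {x : Ω // x ≠ a}) := by
  haveI := finite_points hx.zg
  haveI := finite_group hx.zg
  refine (Nat.bijective_iff_injective_and_card _).mpr ⟨fun k k' e => ?_, ?_⟩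
  · have e' : (k : G) • b = (k' : G) • b := congrArg Subtype.val e
    refine Subtype.ext (inv_mul_eq_one.mp (kerSub_free hx (mul_mem (inv_mem k.2) k'.2) hb ?_))
    rw [mul_smul, ← e', inv_smul_smul]
  · rw [show Nat.card (kerSub hx a) = (kerSet G a).ncard from (Nat.card_coe_set_eq _), ncard_kerSet hx.zg,
      show Nat.card {x : Ω // x ≠ a} = ({a} : Set Ω)ᶜ.ncard from (Nat.card_coe_set_eq _), Set.ncard_compl,
      Set.ncard_singleton]

theorem D2_inverted {a b : Ω} (hab : a ≠ b) {t d : G} (ta : t • a = b) (tb : t • b = a)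
    (hd : d ∈ D2 G a b) : t * d * t = d⁻¹ := by
  have h2 := (hx.swap_refl (t * d) a b hab (by rw [mul_smul, show d • a = a from hd.1, ta])
    (by rw [mul_smul, show d • b = b from hd.2, tb])).2.1
  exact eq_inv_of_mul_eq_one_left (by rw [show t * d * t * d = t * d * (t * d) by group]; exact h2)

theorem D2_comm {a b : Ω} (hab : a ≠ b) {d e : G} (hd : d ∈ D2 G a b) (he : e ∈ D2 G a b) :
    d * e = e * d := by
  obtain ⟨t, ta, tb⟩ := exists_swapping hx.zg hab
  have ht := (hx.swap_refl t a b hab ta tb).2.1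
  have h1 := D2_inverted hx hab ta tb (mul_mem hd he)
  have h2 : t * (d * e) * t = (t * d * t) * (t * e * t) := by
    calc t * (d * e) * t = t * d * 1 * e * t := by group
      _ = t * d * (t * t) * e * t := by rw [ht]
      _ = _ := by group
  rw [h2, D2_inverted hx hab ta tb hd, D2_inverted hx hab ta tb he, ← mul_inv_rev] at h1
  exact (inv_injective h1).symm

end CfsgLib.Zassenhaus
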