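import Cfsg.Agent.Lib.Zassenhaus.OddSimple

/-!
# Classes without fixed point or with two fixed points

Products of two involutions without fixed point fill at least `(k + 1) / 2` classes, and the two-point
stabilizer meets `(k - 1) / 2` more.
-/

set_option autoImplicit false
set_option linter.style.haveILetI false
set_option linter.unusedSectionVars false

open MulAction
open scoped Classical

namespace CfsgLib.Zassenhaus

namespace OddInv

variable {G Ω : Type*} [Group G] [MulAction G Ω] [Finite G] {a b : Ω} {U : Subgroup G} {v : G}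
  (hO : OddInv G Ω a b U v) (hv : v * v = 1)
include hO hv

/-- Pairs of involutions with product without fixed point meet each class at most `|G|` times. -/
theorem fiber_le [Fintype G] (C : ConjClasses G) :
    ((Finset.univ ×ˢ Finset.univ).filter fun p : G × G =>
      p.1 * p.1 = 1 ∧ p.2 * p.2 = 1 ∧ ConjClasses.mk (p.1 * p.2) = C).card ≤ Fintype.card G := by
  set F := (Finset.univ ×ˢ Finset.univ).filter fun p : G × G =>
      p.1 * p.1 = 1 ∧ p.2 * p.2 = 1 ∧ ConjClasses.mk (p.1 * p.2) = C with hF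
  rcases F.eq_empty_or_nonempty with he | ⟨⟨s₀, t₀⟩, h₀⟩
  · simp [he]
  obtain ⟨-, hs₀, ht₀, hC⟩ := Finset.mem_filter.mp h₀
  set w := s₀ * t₀ with hw
  have hinv : ∀ {s t : G}, s * s = 1 → t * t = 1 → s * (s * t)⁻¹ * s = s * t := by
    intro s t hs ht
    rw [mul_inv_rev, inv_eq_of_mul_eq_one_right hs, inv_eq_of_mul_eq_one_right ht, mul_assoc, mul_assoc,
      hs, mul_one]
  have hg : ∀ x : G, ∃ g : G, ConjClasses.mk x = C → g * w * g⁻¹ = x := fun x => by
    by_cases h : ConjClasses.mk x = C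
    · obtain ⟨g, hg⟩ := isConj_iff.mp (ConjClasses.mk_eq_mk_iff_isConj.mp (h.trans hC.symm)).symm
      exact ⟨g, fun _ => hg⟩
    · exact ⟨1, fun h' => absurd h' h⟩
  choose g hg using hg
  rw [← Finset.card_univ]
  refine Finset.card_le_card_of_injOn (fun p => p.1 * g (p.1 * p.2) * s₀) (fun p _ => Finset.mem_univ _) ?_
  intro p hp q hq e
  obtain ⟨-, hp1, hp2, hpC⟩ := Finset.mem_filter.mp hp
  obtain ⟨-, hq1, hq2, hqC⟩ := Finset.mem_filter.mp hq
  have hkey : ∀ {r : G × G}, r.1 * r.1 = 1 → r.2 * r.2 = 1 → ConjClasses.mk (r.1 * r.2) = C →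
      (r.1 * g (r.1 * r.2) * s₀) * w * (r.1 * g (r.1 * r.2) * s₀)⁻¹ = r.1 * r.2 := by
    intro r h1 h2 h3
    calc (r.1 * g (r.1 * r.2) * s₀) * w * (r.1 * g (r.1 * r.2) * s₀)⁻¹
        = r.1 * g (r.1 * r.2) * (s₀ * w * s₀⁻¹) * (g (r.1 * r.2))⁻¹ * r.1⁻¹ := by group
      _ = r.1 * g (r.1 * r.2) * w⁻¹ * (g (r.1 * r.2))⁻¹ * r.1⁻¹ := by
          rw [inv_eq_of_mul_eq_one_right hs₀]
          conv_lhs => rw [hw, ← hinv hs₀ ht₀]
          rw [hw]
          simp only [← mul_assoc, hs₀, one_mul]
          simp only [mul_assoc, hs₀, mul_one, mul_inv_rev]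
      _ = r.1 * (g (r.1 * r.2) * w * (g (r.1 * r.2))⁻¹)⁻¹ * r.1⁻¹ := by group
      _ = r.1 * (r.1 * r.2)⁻¹ * r.1 := by rw [hg _ h3, inv_eq_of_mul_eq_one_right h1]
      _ = _ := hinv h1 h2
  have hx : p.1 * p.2 = q.1 * q.2 := by
    rw [← hkey hp1 hp2 hpC, ← hkey hq1 hq2 hqC]
    simp only at e
    rw [e]
  have h1 : p.1 = q.1 := by
    have e' : p.1 * g (p.1 * p.2) * s₀ = q.1 * g (q.1 * q.2) * s₀ := e
    rw [← hx] at e'
    exact mul_right_cancel (mul_right_cancel e')
  exact Prod.ext h1 (mul_left_cancel (a := p.1) (by rw [hx, h1]))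

/-- At least `k` classes have no element with exactly one fixed point. -/
theorem card_classes (hlt : Nat.card (D2 G a b) < Nat.card U) :
    Nat.card (D2 G a b) ≤ Nat.card {C : ConjClasses G //
      ∀ g : G, ConjClasses.mk g = C → g ≠ 1 ∧ ¬ ∃! c : Ω, g • c = c} := by
  haveI := finite_points hO.hz
  haveI := Fintype.ofFinite Ω
  haveI := Fintype.ofFinite G
  haveI := transitive hO.hz
  set k := Nat.card (D2 G a b) with hk
  set h := Nat.card U with hh
  have hn : Nat.card Ω = h + 1 := by
    rw [hh, hO.hK.card_eq hO.hz hO.hb]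
    have := hO.hz.three
    omega
  set Inv : Finset G := Finset.univ.filter fun t => orderOf t = 2 with hInv
  have hinvol : ∀ {t : G}, t ∈ Inv → t * t = 1 := fun ht => by
    rw [← pow_two, ← (Finset.mem_filter.mp ht).2, pow_orderOf_eq_one]
  set N := Inv.card with hN
  have hNcard : N * (h + 1 - (h + 1) % 2) = (h + 1) * h * k := by
    have e := card_involutions hO hv
    rw [hn, Nat.add_sub_cancel, Nat.card_eq_fintype_card (α := {t : G // orderOf t = 2}), Fintype.card_subtype] at e
    exact e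
  have hcardG : Fintype.card G = (h + 1) * h * k := by
    rw [← Nat.card_eq_fintype_card, card_group hO.hz hO.hb.symm, hn, Nat.add_sub_cancel, ← hk]
  have hk2 : ∀ {c d : Ω}, c ≠ d → Nat.card (D2 G c d) = k := by
    intro c d hcd
    have e := card_group hO.hz hO.hb.symm
    rw [card_group hO.hz hcd] at e
    exact Nat.eq_of_mul_eq_mul_left (Nat.mul_pos (by have := hO.hz.three; omega)
      (by have := hO.hz.three; omega)) e
  -- the involutions at a point
  set F : Ω → Finset G := fun c => Inv.filter fun s => s • c = c with hF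
  have hFc : ∀ c, (F c).card * (h + 1) ≤ N := by
    intro c
    have hconst : ∀ d, (F d).card = (F c).card := by
      have key : ∀ (g : G) (c d : Ω), g • c = d → ∀ s ∈ F c, g * s * g⁻¹ ∈ F d := by
        intro g c d hg s hs
        simp only [hF, hInv, Finset.mem_filter, Finset.mem_univ, true_and] at hs ⊢
        refine ⟨?_, by rw [← hg, mul_smul, mul_smul, inv_smul_smul, hs.2]⟩
        rw [← MulAut.conj_apply, MulEquiv.orderOf_eq, hs.1]
      intro d
      obtain ⟨g, hg⟩ := exists_smul_eq G c d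
      refine le_antisymm
        (Finset.card_le_card_of_injOn (fun s => g⁻¹ * s * g⁻¹⁻¹) (key g⁻¹ d c (inv_smul_eq_iff.mpr hg.symm))
          fun x _ y _ e => mul_left_cancel (mul_right_cancel e))
        (Finset.card_le_card_of_injOn (fun s => g * s * g⁻¹) (key g c d hg)
          fun x _ y _ e => mul_left_cancel (mul_right_cancel e))
    calc (F c).card * (h + 1) = ∑ d : Ω, (F d).card := by
          rw [Finset.sum_congr rfl fun d _ => hconst d, Finset.sum_const, smul_eq_mul, Finset.card_univ,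
            ← Nat.card_eq_fintype_card, hn, mul_comm]
      _ = ∑ s ∈ Inv, (Finset.univ.filter fun d : Ω => s • d = d).card := by
          simp only [hF, Finset.card_filter]
          exact Finset.sum_comm
      _ ≤ ∑ s ∈ Inv, 1 := Finset.sum_le_sum fun s hs => Finset.card_le_one.mpr fun x hx y hy => by
          simp only [Finset.mem_filter, Finset.mem_univ, true_and] at hx hy
          obtain ⟨g, rfl⟩ := isConj_iff.mp (isConj_involution hO hv (Finset.mem_filter.mp hs).2)
          rw [mul_smul, mul_smul, ← eq_inv_smul_iff] at hx hy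
          exact smul_left_cancel g⁻¹ (fixed_v_subsingleton hO hv hx hy)
      _ = N := by rw [Finset.sum_const, smul_eq_mul, mul_one]
  -- the pairs
  set P := Inv.offDiag with hP
  set B1 := (Finset.univ : Finset Ω).biUnion fun c => (F c).offDiag with hB1
  set B2 := P.filter fun p => 1 < (Finset.univ.filter fun c : Ω => (p.1 * p.2) • c = c ∧ p.1 • c ≠ c).card with hB2
  set Good := P.filter fun p => ∀ c : Ω, (p.1 * p.2) • c ≠ c with hGood
  have hcover : P ⊆ Good ∪ B1 ∪ B2 := by
    intro p hp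
    obtain ⟨hs, ht, hne⟩ := Finset.mem_offDiag.mp hp
    have hss := hinvol hs
    have htt := hinvol ht
    rw [Finset.mem_union, Finset.mem_union]
    by_cases hfix : ∀ c : Ω, (p.1 * p.2) • c ≠ c
    · exact Or.inl (Or.inl (Finset.mem_filter.mpr ⟨hp, hfix⟩))
    push Not at hfix
    obtain ⟨c, hc⟩ := hfix
    have htc : p.2 • c = p.1 • c := by
      conv_rhs => rw [← hc, smul_smul, ← mul_assoc, hss, one_mul]
    by_cases hsc : p.1 • c = c
    · refine Or.inl (Or.inr (Finset.mem_biUnion.mpr ⟨c, Finset.mem_univ _, Finset.mem_offDiag.mpr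
        ⟨Finset.mem_filter.mpr ⟨hs, hsc⟩, Finset.mem_filter.mpr ⟨ht, htc.trans hsc⟩, hne⟩⟩))
    · refine Or.inr (Finset.mem_filter.mpr ⟨hp, Finset.one_lt_card.mpr
        ⟨c, Finset.mem_filter.mpr ⟨Finset.mem_univ _, hc, hsc⟩, p.1 • c,
          Finset.mem_filter.mpr ⟨Finset.mem_univ _, ?_, ?_⟩, Ne.symm hsc⟩⟩)
      · rw [mul_smul, ← htc, smul_smul p.2, htt, one_smul, htc]
      · rw [smul_smul, hss, one_smul]
        exact Ne.symm hsc
  have hPcard : Good.card + B1.card + B2.card + N ≥ N * N := by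
    have h1 := ((Finset.card_le_card hcover).trans (Finset.card_union_le _ _)).trans
      (Nat.add_le_add_right (Finset.card_union_le _ _) _)
    rw [hP, Finset.offDiag_card, ← hN] at h1
    omega
  have hswap : ∀ {c d : Ω}, c ≠ d → (Inv.filter fun s => s • c = d).card ≤ k := by
    intro c d hcd
    rw [← hk2 hcd, ← ncard_swapping hO.hz hcd, ← Set.ncard_coe_finset]
    refine Set.ncard_le_ncard (fun s hs => ?_) (Set.toFinite _)
    obtain ⟨hsI, hsc⟩ := Finset.mem_filter.mp hs
    exact ⟨hsc, by rw [← hsc, smul_smul, hinvol hsI, one_smul]⟩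
  have hB2card : 2 * B2.card ≤ (h + 1) * h * (k * (k - 1)) := by
    set T : Finset ((G × G) × Ω) := (B2 ×ˢ (Finset.univ : Finset Ω)).filter
      fun x => (x.1.1 * x.1.2) • x.2 = x.2 ∧ x.1.1 • x.2 ≠ x.2 with hT
    set O := (Finset.univ : Finset Ω).offDiag with hOD
    have hlow : 2 * B2.card ≤ T.card := by
      rw [Finset.card_eq_sum_card_fiberwise (f := Prod.fst) (t := B2)
        fun x hx => (Finset.mem_product.mp (Finset.mem_filter.mp hx).1).1, mul_comm, ← smul_eq_mul,
        ← Finset.sum_const]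
      refine Finset.sum_le_sum fun p hp => ?_
      have h2 := (Finset.mem_filter.mp hp).2
      refine (Nat.succ_le_of_lt h2).trans (Finset.card_le_card_of_injOn (fun c => (p, c)) (fun c hc => ?_)
        fun x _ y _ e => (Prod.ext_iff.mp e).2)
      obtain ⟨-, hc1, hc2⟩ := Finset.mem_filter.mp hc
      exact Finset.mem_filter.mpr ⟨Finset.mem_filter.mpr ⟨Finset.mem_product.mpr ⟨hp, Finset.mem_univ _⟩,
        hc1, hc2⟩, rfl⟩
    have hup : T.card ≤ ∑ _o ∈ O, k * (k - 1) := by
      rw [Finset.card_eq_sum_card_fiberwise (f := fun x : (G × G) × Ω => (x.2, x.1.1 • x.2)) (t := O)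
        fun x hx => Finset.mem_offDiag.mpr ⟨Finset.mem_univ _, Finset.mem_univ _,
          Ne.symm (Finset.mem_filter.mp hx).2.2⟩]
      refine Finset.sum_le_sum fun o ho => ?_
      have hcd := (Finset.mem_offDiag.mp ho).2.2
      set W := Inv.filter fun s => s • o.1 = o.2
      have hW := hswap hcd
      refine (Finset.card_le_card_of_injOn (t := W.offDiag) Prod.fst (fun x hx => ?_) fun x hx y hy e => ?_).trans ?_
      · obtain ⟨hxT, hxo⟩ := Finset.mem_filter.mp hx
        obtain ⟨hxp, hx1, hx2⟩ := Finset.mem_filter.mp hxT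
        obtain ⟨hs, ht, hne⟩ := Finset.mem_offDiag.mp (Finset.mem_filter.mp (Finset.mem_product.mp hxp).1).1
        subst hxo
        refine Finset.mem_offDiag.mpr ⟨Finset.mem_filter.mpr ⟨hs, rfl⟩, Finset.mem_filter.mpr ⟨ht, ?_⟩, hne⟩
        show x.1.2 • x.2 = x.1.1 • x.2
        conv_rhs => rw [← hx1, smul_smul, ← mul_assoc, hinvol hs, one_mul]
      · have hx' := congrArg Prod.fst (Finset.mem_filter.mp hx).2
        have hy' := congrArg Prod.fst (Finset.mem_filter.mp hy).2
        exact Prod.ext e (hx'.trans hy'.symm)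
      · rw [Finset.offDiag_card]
        calc W.card * W.card - W.card = W.card * (W.card - 1) := by rw [Nat.mul_sub, mul_one]
          _ ≤ k * (k - 1) := Nat.mul_le_mul hW (Nat.sub_le_sub_right hW 1)
    rw [Finset.sum_const, hOD, Finset.offDiag_card, Finset.card_univ, ← Nat.card_eq_fintype_card, hn, smul_eq_mul,
      show (h + 1) * (h + 1) - (h + 1) = (h + 1) * h from Nat.sub_eq_of_eq_add (by ring)] at hup
    omega
  obtain ⟨g, hg⟩ := hO.odd
  rw [← hk] at hg
  have hGood : 2 * g * Fintype.card G < 2 * Good.card := by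
    rw [hcardG]
    rcases Nat.even_or_odd h with ⟨r, hr⟩ | ⟨r, hr⟩
    · have hNe : N = (h + 1) * k := by
        rw [show h + 1 - (h + 1) % 2 = h by omega] at hNcard
        exact Nat.eq_of_mul_eq_mul_right (by omega : 0 < h) (by rw [hNcard]; ring)
      have hB1card : B1.card ≤ (h + 1) * (k * (k - 1)) := by
        refine Finset.card_biUnion_le.trans ((Finset.sum_le_sum fun c _ => ?_).trans (le_of_eq (b := _)
          (by rw [Finset.sum_const, Finset.card_univ, ← Nat.card_eq_fintype_card, hn, smul_eq_mul])))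
        have hf : (F c).card ≤ k :=
          Nat.le_of_mul_le_mul_right (((hFc c).trans_eq hNe).trans_eq (mul_comm _ _)) (Nat.succ_pos h)
        rw [Finset.offDiag_card]
        calc (F c).card * (F c).card - (F c).card = (F c).card * ((F c).card - 1) := by rw [Nat.mul_sub, mul_one]
          _ ≤ k * (k - 1) := Nat.mul_le_mul hf (by omega)
      rw [hNe] at hPcard
      have hpos : 0 < (h + 1) * h * k := Nat.mul_pos (Nat.mul_pos (by omega) (by omega)) Nat.card_pos
      rw [hg, show 2 * g + 1 - 1 = 2 * g by omega] at hB1card hB2card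
      rw [hg] at hPcard hpos ⊢
      nlinarith
    · have hNe : N = h * k := by
        rw [show h + 1 - (h + 1) % 2 = h + 1 by omega] at hNcard
        exact Nat.eq_of_mul_eq_mul_right (by omega : 0 < h + 1) (by rw [hNcard]; ring)
      have hB1card : B1.card = 0 := by
        rw [Finset.card_eq_zero, Finset.eq_empty_iff_forall_notMem]
        intro p hp
        obtain ⟨c, -, hp⟩ := Finset.mem_biUnion.mp hp
        obtain ⟨hs, hsc⟩ := Finset.mem_filter.mp (Finset.mem_offDiag.mp hp).1
        have e := ncard_fixed hO hv (Finset.mem_filter.mp hs).2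
        rw [hn, show (h + 1) % 2 = 0 by omega, Set.ncard_eq_zero (Set.toFinite _),
          Set.eq_empty_iff_forall_notMem] at e
        exact e c hsc
      rw [hNe] at hPcard
      rw [hg, show 2 * g + 1 - 1 = 2 * g by omega] at hB2card
      have hpos : 0 < h * k * (h - k) := Nat.mul_pos (Nat.mul_pos (by omega) Nat.card_pos) (by omega)
      have hhk : h - k + k = h := Nat.sub_add_cancel hlt.le
      rw [hg] at hPcard hpos hhk ⊢
      nlinarith
  -- the classes
  set Cl := Good.image fun p => ConjClasses.mk (p.1 * p.2) with hCl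
  have hClcard : g < Cl.card := by
    have hb : Good.card ≤ Fintype.card G * Cl.card := by
      refine Finset.card_le_mul_card_image _ _ fun C _ => ?_
      refine (Finset.card_le_card fun p hp => ?_).trans (fiber_le hO hv C)
      obtain ⟨hp, hpC⟩ := Finset.mem_filter.mp hp
      obtain ⟨hs, ht, -⟩ := Finset.mem_offDiag.mp (Finset.mem_filter.mp hp).1
      exact Finset.mem_filter.mpr ⟨Finset.mem_univ _, hinvol hs, hinvol ht, hpC⟩
    nlinarith
  set Ds : Finset G := Finset.univ.filter fun x => x ∈ D2 G a b ∧ x ≠ 1 with hDs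
  set DC := Ds.image ConjClasses.mk with hDC
  have hDCcard : 2 * g ≤ 2 * DC.card := by
    have e : Ds.card = 2 * g := by
      rw [show Ds = (Finset.univ.filter fun x => x ∈ D2 G a b).erase 1 by ext x; simp [hDs, and_comm],
        Finset.card_erase_of_mem (Finset.mem_filter.mpr ⟨Finset.mem_univ _, (D2 G a b).one_mem⟩),
        ← Fintype.card_subtype, ← Nat.card_eq_fintype_card]
      show k - 1 = 2 * g
      omega
    rw [← e]
    refine Finset.card_le_mul_card_image _ _ fun C hC => ?_
    obtain ⟨x, hx, rfl⟩ := Finset.mem_image.mp hC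
    obtain ⟨hxD, hx1⟩ := (Finset.mem_filter.mp hx).2
    refine (Finset.card_le_card (t := {x, x⁻¹}) fun y hy => ?_).trans Finset.card_le_two
    obtain ⟨hy, hyC⟩ := Finset.mem_filter.mp hy
    obtain ⟨hyD, -⟩ := (Finset.mem_filter.mp hy).2
    obtain ⟨c, hc⟩ := isConj_iff.mp (ConjClasses.mk_eq_mk_iff_isConj.mp hyC).symm
    rw [Finset.mem_insert, Finset.mem_singleton, ← hc]
    rcases pair_of_conj hO.hz hO.hb.symm hxD hx1 (hc ▸ hyD) with ⟨h1, h2⟩ | ⟨h1, h2⟩
    · left
      have := congrArg Subtype.val (hO.comm ⟨c, mem_D2.mpr ⟨h1, h2⟩⟩ ⟨x, hxD⟩)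
      exact mul_inv_eq_iff_eq_mul.mpr this
    · right
      have hd : v * c ∈ D2 G a b := mem_D2.mpr
        ⟨by rw [mul_smul, h1, hO.vb], by rw [mul_smul, h2, hO.va]⟩
      have e1 := congrArg Subtype.val (hO.comm ⟨v * c, hd⟩ ⟨x, hxD⟩)
      have e2 : c * x * c⁻¹ = v * x * v⁻¹ := by
        rw [inv_eq_of_mul_eq_one_right hv]
        calc c * x * c⁻¹ = (v * v) * c * x * c⁻¹ := by rw [hv, one_mul]
          _ = v * (v * c * x) * c⁻¹ := by group
          _ = v * (x * (v * c)) * c⁻¹ := by rw [show v * c * x = x * (v * c) from e1]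
          _ = v * x * v := by group
      rw [e2, hO.inv x hxD]
  have hdisj : Disjoint Cl DC := Finset.disjoint_left.mpr fun C h1 h2 => by
    obtain ⟨p, hp, rfl⟩ := Finset.mem_image.mp h1
    obtain ⟨x, hx, e⟩ := Finset.mem_image.mp h2
    obtain ⟨c, hc⟩ := isConj_iff.mp (ConjClasses.mk_eq_mk_iff_isConj.mp e)
    refine (Finset.mem_filter.mp hp).2 (c • a) ?_
    rw [← hc, mul_smul, mul_smul, inv_smul_smul, show x • a = a from (Finset.mem_filter.mp hx).2.1.1]
  rw [Nat.card_eq_fintype_card, Fintype.card_subtype]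
  refine le_trans ?_ (Finset.card_le_card (s := Cl ∪ DC) fun C hC => ?_)
  · rw [Finset.card_union_of_disjoint hdisj]
    omega
  refine Finset.mem_filter.mpr ⟨Finset.mem_univ _, fun x hx => ?_⟩
  rcases Finset.mem_union.mp hC with h1 | h1
  · obtain ⟨p, hp, rfl⟩ := Finset.mem_image.mp h1
    obtain ⟨c, hc⟩ := isConj_iff.mp (ConjClasses.mk_eq_mk_iff_isConj.mp hx).symm
    obtain ⟨hp1, hp2⟩ := Finset.mem_filter.mp hp
    have hnofix : ∀ d : Ω, x • d ≠ d := fun d hd => by
      rw [← hc, mul_smul, mul_smul] at hd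
      exact hp2 (c⁻¹ • d) (eq_inv_smul_iff.mpr hd)
    exact ⟨fun e => hnofix a (by rw [e, one_smul]), fun ⟨d, hd, _⟩ => hnofix d hd⟩
  · obtain ⟨y, hy, rfl⟩ := Finset.mem_image.mp h1
    obtain ⟨c, hc⟩ := isConj_iff.mp (ConjClasses.mk_eq_mk_iff_isConj.mp hx).symm
    obtain ⟨hyD, hy1⟩ := (Finset.mem_filter.mp hy).2
    refine ⟨fun e => hy1 (conj_eq_one_iff.mp (hc.trans e)), fun ⟨d, _, hd⟩ => hO.hb ?_⟩
    have h2 : ∀ o : Ω, y • o = o → x • c • o = c • o := fun o ho => by
      rw [← hc, mul_smul, mul_smul, inv_smul_smul, ho]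
    exact (smul_left_cancel_iff c).mp ((hd _ (h2 b hyD.2)).trans (hd _ (h2 a hyD.1)).symm)

end OddInv

end CfsgLib.Zassenhaus
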