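import Cfsg.Agent.Lib.Zassenhaus.OddGram
import Cfsg.Agent.Lib.Char.TINilpotentCoherence

/-!
# The exceptional character outside the principal series
-/

set_option autoImplicit false
set_option linter.style.haveILetI false
set_option linter.unusedSectionVars false

open MulAction Cfsg
open scoped CfsgLib.Char Classical

namespace CfsgLib.Zassenhaus

open CfsgLib.Char.TINilpotent

namespace OddInv

variable {G Ω : Type*} [Group G] [MulAction G Ω] [Fintype G] {a b : Ω} {U : Subgroup G} {v : G}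
  [Fintype U] [Fintype (D2 G a b)] [Fintype (stabilizer G a)] (hO : OddInv G Ω a b U v)
include hO

/-- Differences with a linear character vanish on the principal series. -/
theorem V_principal {χ : IrrCharacter G} (hχ : χ ∈ S hO) {θ t₀ : IrrCharacter U} (hθ : θ ≠ triv)
    (h0 : t₀ ≠ triv) (hl : deg t₀ = 1) : V t₀ θ χ = 0 := by
  rw [V, N_principal hO hχ hθ h0 hl, sub_self]

/-- With enough linear characters there is an exceptional character `P`, and a further one for each
linear orbit. -/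
theorem exists_exceptional {t₀ : IrrCharacter U} (h0 : t₀ ≠ triv) (hl : deg t₀ = 1)
    (A : Finset (IrrCharacter U))
    (hA : ∀ φ, φ ∈ A ↔ φ ≠ triv ∧ deg φ = 1 ∧ ¬ Rel (hO.hK.setting hO.hz hO.hb) t₀ φ)
    (hbig : Nat.card (D2 G a b) * (Nat.card (D2 G a b) / 2 + 1) < A.card)
    (h3 : 3 * Nat.card (D2 G a b) < A.card) :
    ∃ (P : IrrCharacter G) (F : IrrCharacter U → IrrCharacter G), P ∉ S hO ∧ N t₀ P = 1 ∧
      (∀ s ∈ A, F s ≠ P ∧ F s ∉ S hO ∧ N t₀ (F s) = 0 ∧ N s P = 0 ∧ N s (F s) = 1 ∧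
        ∀ χ, χ ≠ P → χ ≠ F s → N s χ = N t₀ χ) ∧
      A.card ≤ Nat.card (D2 G a b) * (A.image F).card := by
  set hS := hO.hK.setting hO.hz hO.hb with hSdef
  set k := Nat.card (D2 G a b) with hk
  have hD : ∀ s ∈ A, ∑ χ : IrrCharacter G, V t₀ s χ * V t₀ s χ = 2 := fun s hs => by
    rw [V_sq hS h0 hl ((hA s).mp hs).1 ((hA s).mp hs).2.2, ((hA s).mp hs).2.1]; rfl
  have hDD : ∀ s ∈ A, ∀ t ∈ A, ¬ Rel hS s t → ∑ χ : IrrCharacter G, V t₀ s χ * V t₀ t χ = 1 :=
    fun s hs t ht h => by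
      rw [V_mul hS h0 hl ((hA t).mp ht).2.2 ((hA s).mp hs).2.2 h, ((hA s).mp hs).2.1, ((hA t).mp ht).2.1]; rfl
  obtain ⟨P, v', hv', hcom⟩ := CfsgLib.Char.TIVectors.common_entry A (V t₀) (Rel hS)
    (fun s _ t _ h => (V_rel h).symm) (by
      intro x _ y _ z _
      by_contra hno
      push Not at hno
      have hsub : A ⊆ orb hS x ∪ orb hS y ∪ orb hS z := fun t ht => by
        simp only [Finset.mem_union, mem_orb]
        have := hno t ht
        tauto
      have := (Finset.card_le_card hsub).trans (Finset.card_union_le _ _)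
      have := Finset.card_union_le (orb hS x) (orb hS y)
      have := card_orb_le hS x
      have := card_orb_le hS y
      have := card_orb_le hS z
      omega) hD hDD (Finset.card_pos.mp (by omega))
  have hsecond : ∀ s ∈ A, ∃ q, q ≠ P ∧ V t₀ s q ≠ 0 ∧ ∀ χ, χ ≠ P → χ ≠ q → V t₀ s χ = 0 := by
    intro s hs
    have h2 := CfsgLib.Char.TIVectors.card_supp (hD s hs)
    have hPmem : P ∈ Finset.univ.filter fun χ => V t₀ s χ ≠ 0 := by
      rw [Finset.mem_filter, (hcom s hs).1]; rcases hv' with rfl | rfl <;> simp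
    have h1 : ((Finset.univ.filter fun χ => V t₀ s χ ≠ 0).erase P).card = 1 := by
      rw [Finset.card_erase_of_mem hPmem, h2]
    obtain ⟨q, hq⟩ := Finset.card_eq_one.mp h1
    have hq' := Finset.mem_singleton_self q
    rw [← hq, Finset.mem_erase, Finset.mem_filter] at hq'
    refine ⟨q, hq'.1, hq'.2.2, fun χ hχ hχq => by_contra fun h => hχq ?_⟩
    rw [← Finset.mem_singleton, ← hq, Finset.mem_erase, Finset.mem_filter]
    exact ⟨hχ, Finset.mem_univ _, h⟩
  haveI : Nonempty (IrrCharacter G) := ⟨P⟩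
  choose! F hFP hF0 hF using hsecond
  have hnS : ∀ s ∈ A, F s ∉ S hO ∧ P ∉ S hO := fun s hs =>
    ⟨fun h => hF0 s hs (V_principal hO h ((hA s).mp hs).1 h0 hl), fun h => by
      have := V_principal hO h ((hA s).mp hs).1 h0 hl
      rw [(hcom s hs).1] at this
      rcases hv' with rfl | rfl <;> omega⟩
  -- the multiplicities of the base character outside the principal series
  have hnorm : ∑ χ ∈ (S hO)ᶜ, N t₀ χ * N t₀ χ = ((k / 2 : ℕ) : ℤ) + 1 := by
    rw [gram_X hO h0 h0, hl, Finset.card_eq_one.mpr ⟨(1 : D2 G a b), Finset.ext fun h => ⟨fun hh => ?_, fun hh => ?_⟩⟩]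
    · rw [hk]; push_cast; ring
    · rw [Finset.mem_singleton]
      exact free_irr hS h0 (Finset.mem_filter.mp hh).2
    · rw [Finset.mem_singleton] at hh
      subst hh
      exact Finset.mem_filter.mpr ⟨Finset.mem_univ _, rot_one _ t₀⟩
  have hfib : A.card ≤ k * (A.image F).card := by
    refine Finset.card_le_mul_card_image _ _ fun χ hχ => ?_
    obtain ⟨s, hs, rfl⟩ := Finset.mem_image.mp hχ
    refine (Finset.card_le_card fun t ht => ?_).trans (card_orb_le hS s)
    rw [Finset.mem_filter] at ht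
    rw [mem_orb]
    by_contra hne
    exact hFP s hs ((hcom s hs).2 t ht.1 hne (F s) (hF0 s hs) (ht.2 ▸ hF0 t ht.1))
  have hA0 : ∀ s ∈ A, ∑ χ : IrrCharacter G, V t₀ s χ * N t₀ χ = -1 := fun s hs => by
    simp only [V, sub_mul, Finset.sum_sub_distrib, mul_assoc, ← Finset.mul_sum]
    rw [gram_off hS fun h => ((hA s).mp hs).2.2 h.symm, gram_self hS h0, ((hA s).mp hs).2.1, hl]
    push_cast
    ring
  have heq : ∀ s ∈ A, v' * N t₀ P + V t₀ s (F s) * N t₀ (F s) = -1 := fun s hs => by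
    rw [← hA0 s hs, Finset.sum_eq_add_of_mem P (F s) (Finset.mem_univ _) (Finset.mem_univ _)
      (Ne.symm (hFP s hs)) fun χ _ hχ => by rw [hF s hs χ hχ.1 hχ.2, zero_mul], (hcom s hs).1]
  have hw : ∀ s ∈ A, V t₀ s (F s) = 1 ∨ V t₀ s (F s) = -1 := fun s hs =>
    (CfsgLib.Char.TIVectors.abs_le_one (by rw [hD s hs]; norm_num) (F s)).resolve_left (hF0 s hs)
  have hsmall : ¬ ∀ s ∈ A, N t₀ (F s) ≠ 0 := by
    intro hall
    have hsub : A.image F ⊆ (S hO)ᶜ := fun χ hχ => by
      obtain ⟨s, hs, rfl⟩ := Finset.mem_image.mp hχ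
      exact Finset.mem_compl.mpr (hnS s hs).1
    have h1 : ((A.image F).card : ℤ) ≤ ((k / 2 : ℕ) : ℤ) + 1 := by
      rw [← hnorm]
      calc ((A.image F).card : ℤ) = ∑ χ ∈ A.image F, (1 : ℤ) := by simp
        _ ≤ ∑ χ ∈ A.image F, N t₀ χ * N t₀ χ := Finset.sum_le_sum fun χ hχ => by
            obtain ⟨s, hs, rfl⟩ := Finset.mem_image.mp hχ
            have := hall s hs
            have := N_nonneg t₀ (F s)
            have h1 : 1 ≤ N t₀ (F s) := by omega
            nlinarith
        _ ≤ _ := Finset.sum_le_sum_of_subset_of_nonneg hsub fun χ _ _ => mul_self_nonneg _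
    have h2 := Nat.mul_le_mul_left k (show (A.image F).card ≤ k / 2 + 1 by exact_mod_cast h1)
    omega
  push Not at hsmall
  obtain ⟨s₁, hs₁, hz⟩ := hsmall
  have h1 := heq s₁ hs₁
  rw [hz, mul_zero, add_zero] at h1
  obtain ⟨rfl, hP1⟩ : v' = -1 ∧ N t₀ P = 1 := by
    have := N_nonneg t₀ P
    rcases hv' with rfl | rfl <;> constructor <;> linarith
  refine ⟨P, F, (hnS s₁ hs₁).2, hP1, fun s hs => ?_, hfib⟩
  have hVP : V t₀ s P = -1 := (hcom s hs).1
  have hsP : N s P = 0 := by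
    rw [V, hP1, ((hA s).mp hs).2.1] at hVP
    push_cast at hVP
    omega
  have e := heq s hs
  rw [hP1] at e
  have hF1 : N t₀ (F s) = 0 := by rcases hw s hs with h | h <;> rw [h] at e <;> omega
  refine ⟨hFP s hs, (hnS s hs).1, hF1, hsP, ?_, fun χ h1 h2 => ?_⟩
  · have h := hw s hs
    have := N_nonneg s (F s)
    rw [V, hF1] at h
    omega
  · have h := hF s hs χ h1 h2
    rw [V, ((hA s).mp hs).2.1] at h
    push_cast at h
    omega

end OddInv

end CfsgLib.Zassenhaus
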