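import Cfsg.Agent.Lib.Zassenhaus.OddChars
import Cfsg.Agent.Lib.Char.TINilpotent
import Cfsg.Agent.Lib.Char.Kernel

/-!
# Characters outside the principal series of a Zassenhaus group with odd two-point stabilizers

The multiplicities on the regular subgroup of the remaining characters have Gram matrix
`g d dᵀ + I` modulo the action of the two-point stabilizer, with `g` half the order of that stabilizer.
-/

set_option autoImplicit false
set_option linter.style.haveILetI false
set_option linter.unusedSectionVars false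

open MulAction Cfsg
open scoped ComplexConjugate CfsgLib.Char

namespace CfsgLib.Zassenhaus

open CfsgLib.Char.TINilpotent

namespace OddInv

variable {G Ω : Type*} [Group G] [MulAction G Ω] [Fintype G] {a b : Ω} {U : Subgroup G} {v : G}
  [Fintype U] [Fintype (D2 G a b)] [Fintype (stabilizer G a)] (hO : OddInv G Ω a b U v)
include hO

/-- The regular subgroup has a non-trivial linear character. -/
theorem exists_linear : ∃ t₀ : IrrCharacter U, t₀ ≠ triv ∧ deg t₀ = 1 := by
  classical
  haveI := hO.hK.nil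
  haveI : Nontrivial U :=
    (Subgroup.nontrivial_iff_ne_bot U).mpr (hO.hK.setting hO.hz hO.hb).ne_bot
  by_contra h
  push Not at h
  have hs : (Finset.univ.filter fun α : IrrCharacter U => (α : U → ℂ) 1 = 1) ⊆ {triv} := fun α hα => by
    rw [Finset.mem_filter, ← deg_eq_one_iff] at hα
    rw [Finset.mem_singleton]
    by_contra hne
    exact h α hne hα.2
  have h1 := Finset.card_le_card hs
  rw [linear_count, Finset.card_singleton] at h1
  have := linear_count_gt (A := U)
  omega

/-- The characters of the principal series are constant on the kernel away from the identity. -/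
theorem kernel_const {χ : IrrCharacter G} (hχ : χ ∈ S hO) {u w : U} (hu : u ≠ 1) (hw : w ≠ 1) :
    (χ : G → ℂ) u = (χ : G → ℂ) w := by
  simp only [S, Finset.mem_filter, Finset.mem_univ, true_and] at hχ
  obtain ⟨l, hl⟩ := hχ
  have hu0 : ∀ x : U, x ≠ 1 → (x : G) ≠ 1 := fun x h e => h (Subtype.ext e)
  by_cases hl1 : l = one hO
  · subst hl1
    obtain ⟨St, hSt1, hSt⟩ := exists_steinberg hO
    let tr : IrrCharacter G := ⟨fun _ => 1, CfsgLib.Char.isIrrCharacter_one⟩
    by_cases h1 : χ = tr
    · subst h1; rfl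
    rw [hSt, CfsgLib.Char.classInner_add_left, show (fun _ : G => (1 : ℂ)) = (tr : G → ℂ) from rfl,
      CfsgLib.Char.classInner_coe, CfsgLib.Char.classInner_coe, if_neg (Ne.symm h1), zero_add] at hl
    obtain rfl : St = χ := by
      by_contra hne
      exact hl (if_neg hne)
    have e1 := congrFun hSt u
    have e2 := congrFun hSt w
    rw [I_kernel hO _ u.2 (hu0 u hu), Pi.add_apply] at e1
    rw [I_kernel hO _ w.2 (hu0 w hw), Pi.add_apply] at e2
    linear_combination e2 - e1
  · have e : (⟨I hO l, R_irr hO hl1⟩ : IrrCharacter G) = χ := by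
      by_contra hne
      refine hl ?_
      rw [show I hO l = ((⟨I hO l, R_irr hO hl1⟩ : IrrCharacter G) : G → ℂ) from rfl,
        CfsgLib.Char.classInner_coe, if_neg hne]
    subst e
    show I hO l u = I hO l w
    rw [I_kernel hO _ u.2 (hu0 u hu), I_kernel hO _ w.2 (hu0 w hw)]

/-- On the principal series the multiplicities are proportional to the degrees. -/
theorem N_principal {χ : IrrCharacter G} (hχ : χ ∈ S hO) {θ t₀ : IrrCharacter U} (hθ : θ ≠ triv)
    (h0 : t₀ ≠ triv) (hl : deg t₀ = 1) : N θ χ = deg θ * N t₀ χ := by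
  classical
  haveI : Nontrivial U :=
    (Subgroup.nontrivial_iff_ne_bot U).mpr (hO.hK.setting hO.hz hO.hb).ne_bot
  obtain ⟨w, hw⟩ := exists_ne (1 : U)
  have key : ∀ φ : IrrCharacter U, φ ≠ triv →
      (N φ χ : ℂ) = (Nat.card U : ℂ)⁻¹ * (((χ : G → ℂ) 1 - (χ : G → ℂ) w) * deg φ) := by
    intro φ hφ
    have h0' : ∑ u : U, conj ((φ : U → ℂ) u) = 0 := by
      have h := CfsgLib.Char.classInner_irr_ne (φ := (triv : IrrCharacter U).1) (ψ := φ.1) triv.2 φ.2
        (fun e => hφ (Subtype.ext e.symm))
      rw [classInner, mul_eq_zero, or_iff_right (inv_ne_zero (Nat.cast_ne_zero.mpr Nat.card_pos.ne'))] at h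
      simpa [triv] using h
    rw [N_cast, classInner]
    congr 1
    rw [← Finset.add_sum_erase _ _ (Finset.mem_univ (1 : U)),
      Finset.sum_congr rfl fun u hu => by rw [kernel_const hO hχ (Finset.ne_of_mem_erase hu) hw],
      ← Finset.mul_sum, Finset.sum_erase_eq_sub (Finset.mem_univ _), h0', OneMemClass.coe_one,
      deg_cast, Complex.conj_natCast]
    ring
  have e : (N θ χ : ℂ) = ((deg θ * N t₀ χ : ℤ) : ℂ) := by
    push_cast
    rw [key θ hθ, key t₀ h0, hl]
    push_cast
    ring
  exact_mod_cast e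

/-- The Gram matrix of the remaining characters. -/
theorem gram_X [DecidableEq (IrrCharacter G)] {θ φ : IrrCharacter U} (hθ : θ ≠ triv) (hφ : φ ≠ triv)
    [DecidablePred fun h : D2 G a b => rot (hO.hK.setting hO.hz hO.hb) h θ = φ] :
    ∑ χ ∈ (S hO)ᶜ, N θ χ * N φ χ = ((Nat.card (D2 G a b) / 2 : ℕ) : ℤ) * deg θ * deg φ +
      (Finset.univ.filter fun h : D2 G a b => rot (hO.hK.setting hO.hz hO.hb) h θ = φ).card := by
  classical
  obtain ⟨t₀, h0, hl⟩ := exists_linear hO
  have hs := gram_S hO h0 h0 (deg_eq_one_iff.mp hl) (deg_eq_one_iff.mp hl)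
  have hg := gram (hO.hK.setting hO.hz hO.hb) θ φ
  rw [← Finset.sum_add_sum_compl (S hO)] at hg
  have hS : ∑ χ ∈ S hO, N θ χ * N φ χ = (deg θ : ℤ) * deg φ * ∑ χ ∈ S hO, N t₀ χ * N t₀ χ := by
    rw [Finset.mul_sum]
    refine Finset.sum_congr rfl fun χ hχ => ?_
    rw [N_principal hO hχ hθ h0 hl, N_principal hO hχ hφ h0 hl]
    ring
  rw [hS] at hg
  have h2 : 2 * ((Nat.card (D2 G a b) / 2 : ℕ) : ℤ) + 1 = Nat.card (D2 G a b) := by
    exact_mod_cast Nat.two_mul_div_two_add_one_of_odd hO.odd
  have hval : ∑ χ ∈ S hO, N t₀ χ * N t₀ χ = ((Nat.card (D2 G a b) / 2 : ℕ) : ℤ) + 1 := by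
    omega
  rw [hval] at hg
  linear_combination hg - (deg θ : ℤ) * deg φ * h2

/-- The trivial character of the kernel does not occur. -/
theorem N_triv_X {χ : IrrCharacter G} (hχ : χ ∉ S hO) : N (triv : IrrCharacter U) χ = 0 := by
  have e : (N (triv : IrrCharacter U) χ : ℂ) = 0 := by
    rw [N_cast, classInner]
    simp only [triv, map_one, mul_one]
    rw [sum_kernel_eq_zero hO hχ, mul_zero]
  exact_mod_cast e

end OddInv

end CfsgLib.Zassenhaus

namespace CfsgLib.Char.TINilpotent

open Cfsg

variable {G : Type*} [Group G] [Fintype G] {U : Subgroup G} [Fintype U]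

/-- The degree of a character as a combination of the degrees of its constituents on a subgroup. -/
theorem degree_expansion (χ : IrrCharacter G) :
    (χ : G → ℂ) 1 = ((∑ θ : IrrCharacter U, N θ χ * deg θ : ℤ) : ℂ) := by
  have h := congrFun (classFunction_expansion (G := U) (f := fun u : U => (χ : G → ℂ) u)
    (fun x y => isClassFunction_irr χ (x : G) (y : G))) 1
  simp only [Finset.sum_apply, Pi.smul_apply, smul_eq_mul, OneMemClass.coe_one] at h
  rw [h, Int.cast_sum]
  refine Finset.sum_congr rfl fun θ _ => ?_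
  rw [← N_cast, deg_cast]
  push_cast
  rfl

/-- In a simple group a character with only linear constituents on `U`, one of them non-trivial,
forces `U` to be abelian. -/
theorem comm_of_linear [IsSimpleGroup G] {t₀ : IrrCharacter U} (h0 : t₀ ≠ triv) {P : IrrCharacter G}
    (hP : N t₀ P ≠ 0) (hlin : ∀ θ : IrrCharacter U, N θ P ≠ 0 → deg θ = 1) :
    ∀ x y : U, x * y = y * x := by
  classical
  intro x y
  obtain ⟨K, hKn, hK, -⟩ := exists_kernel (isCharacter_of_isIrr P.2)
  set c : U := x * y * (y * x)⁻¹ with hc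
  have hcK : (c : G) ∈ K := by
    rw [hK]
    have hres := classFunction_expansion (G := U) (f := fun u : U => (P : G → ℂ) u)
      (fun a c => isClassFunction_irr P (a : G) (c : G))
    have e1 := congrFun hres c
    have e2 := congrFun hres 1
    simp only [Finset.sum_apply, Pi.smul_apply, smul_eq_mul, OneMemClass.coe_one] at e1 e2
    rw [e1, e2]
    refine Finset.sum_congr rfl fun θ _ => ?_
    by_cases h : N θ P = 0
    · rw [← N_cast, h, Int.cast_zero, zero_mul, zero_mul]
    congr 1
    have h1 : (θ : U → ℂ) 1 = 1 := deg_eq_one_iff.mp (hlin θ h)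
    have hm := linear_mul (isCharacter_of_isIrr θ.2) h1
    have e : (θ : U → ℂ) c * (θ : U → ℂ) (y * x) = (θ : U → ℂ) (x * y) := by
      rw [← hm, hc, inv_mul_cancel_right]
    have hne : (θ : U → ℂ) (y * x) ≠ 0 := fun h' => by
      have := hm (y * x) (y * x)⁻¹
      rw [mul_inv_cancel, h1, h', zero_mul] at this
      exact one_ne_zero this
    rw [hm x y, mul_comm ((θ : U → ℂ) x), ← hm y x] at e
    rw [h1]
    exact mul_right_cancel₀ hne (by rw [e, one_mul])
  rcases hKn.eq_bot_or_eq_top with h | h
  · rw [h, Subgroup.mem_bot] at hcK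
    exact mul_inv_eq_one.mp (Subtype.ext hcK : c = 1)
  · exfalso
    refine hP ?_
    have hres : (fun u : U => (P : G → ℂ) u) = ((P : G → ℂ) 1) • ((triv : IrrCharacter U) : U → ℂ) :=
      funext fun u => by rw [(hK _).mp (h ▸ Subgroup.mem_top _)]; exact (mul_one _).symm
    have e : (N t₀ P : ℂ) = 0 := by
      rw [N_cast, hres, classInner_smul_left,
        classInner_irr_ne (triv : IrrCharacter U).2 t₀.2 (fun e => h0 (Subtype.ext e.symm)), mul_zero]
    exact_mod_cast e

end CfsgLib.Char.TINilpotent
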