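import Cfsg.Agent.Lib.Zassenhaus.OddChars
import Cfsg.Agent.Lib.Zassenhaus.OddStab
import Cfsg.Agent.Lib.Zassenhaus.LargeStab
import Cfsg.Agent.Lib.Critical.Basic

/-!
# Involutions of a simple Zassenhaus group with two-point stabilizers of odd order
-/

set_option autoImplicit false
set_option linter.style.haveILetI false
set_option linter.unusedSectionVars false

open MulAction

namespace CfsgLib.Zassenhaus

variable {G Ω : Type*} [Group G] [MulAction G Ω]

/-- A swapping involution inverting an abelian two-point stabilizer of odd order. -/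
theorem exists_oddInv [Finite G] [IsSimpleGroup G] (hz : ZG G Ω) {a b : Ω} (hab : a ≠ b)
    (hne : D2 G a b ≠ ⊥) (hodd : Odd (Nat.card (D2 G a b))) {U : Subgroup G} (hU : RegKernel a U) :
    ∃ v, v * v = 1 ∧ OddInv G Ω a b U v := by
  obtain ⟨hcyc, hinv⟩ := odd_stab hz hab hne hodd
  obtain ⟨t, ta, tb⟩ := exists_swapping hz hab
  haveI := (D2 G a b).nontrivial_iff_ne_bot.mpr hne
  set v := t ^ Nat.card (D2 G a b) with hv
  obtain ⟨i, hi⟩ := hodd
  have ht2 : t * t ∈ D2 G a b := mem_D2.mpr ⟨by rw [mul_smul, ta, tb], by rw [mul_smul, tb, ta]⟩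
  have hmem := Subgroup.pow_mem _ ht2 i
  have hv' : v = t * (t * t) ^ i := by rw [hv, hi, pow_succ', pow_mul, pow_two]
  have hva : v • a = b := by rw [hv', mul_smul, show (t * t) ^ i • a = a from hmem.1, ta]
  have hvb : v • b = a := by rw [hv', mul_smul, show (t * t) ^ i • b = b from hmem.2, tb]
  refine ⟨v, ?_, hz, hU, hab.symm, hva, hvb, hinv v hva hvb,
    fun x y => (IsCyclic.commGroup (α := D2 G a b)).mul_comm x y, ⟨i, hi⟩, Finite.one_lt_card⟩
  rw [hv, ← pow_two, ← pow_mul, mul_comm, pow_mul, pow_two]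
  exact congrArg Subtype.val (pow_card_eq_one' (x := (⟨t * t, ht2⟩ : D2 G a b)))

/-- A regular normal subgroup given by its order and fixed points. -/
theorem eq_regKernel_of_fix [Finite G] (hz : ZG G Ω) {a b : Ω} (hb : b ≠ a) {U F : Subgroup G} (hU : RegKernel a U)
    (hFle : F ≤ stabilizer G a) (hcard : Nat.card F + 1 = Nat.card Ω)
    (hfix : ∀ u ∈ F, u ≠ 1 → ∀ c : Ω, u • c = c → c = a) : F = U := by
  haveI := finite_points hz
  refine SetLike.coe_injective ?_
  rw [reg_eq_kerSet hz hb hU.le hU.reg]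
  refine Set.eq_of_subset_of_ncard_le (fun u hu => ?_) ?_ (Set.toFinite _)
  · by_cases h1 : u = 1
    · exact Or.inl h1
    · exact Or.inr ⟨hFle hu, hfix u hu h1⟩
  · rw [ncard_kerSet hz, show ((F : Set G)).ncard = Nat.card F from (Nat.card_coe_set_eq _).symm]
    omega

namespace OddInv

variable [Finite G] {a b : Ω} {U : Subgroup G} {v : G} (hO : OddInv G Ω a b U v) (hv : v * v = 1)
include hO hv

theorem v_ne_one : v ≠ 1 := fun h => hO.hb (by have := hO.va; rwa [h, one_smul, eq_comm] at this)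

theorem orderOf_v : orderOf v = 2 := orderOf_eq_prime (by rw [pow_two, hv]) (v_ne_one hO hv)

theorem swap_conj {t : G} (hta : t • a = b) (htb : t • b = a) : IsConj v t := by
  have hmem : v * t ∈ D2 G a b := mem_D2.mpr
    ⟨by rw [mul_smul, hta, hO.vb], by rw [mul_smul, htb, hO.va]⟩
  obtain ⟨i, hi⟩ := hO.odd
  set h := v * t with hh
  set h₀ := (h⁻¹) ^ (i + 1) with hh₀
  have hsq : h₀ * h₀ = h⁻¹ := by
    have hcard : h⁻¹ ^ Nat.card (D2 G a b) = 1 :=
      congrArg Subtype.val (pow_card_eq_one' (x := (⟨h⁻¹, inv_mem hmem⟩ : D2 G a b)))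
    rw [hh₀, ← pow_add, show i + 1 + (i + 1) = Nat.card (D2 G a b) + 1 by omega, pow_add, hcard, one_mul,
      pow_one]
  refine isConj_iff.mpr ⟨h₀, ?_⟩
  have hvi : v⁻¹ = v := inv_eq_of_mul_eq_one_right hv
  have hc := hO.inv h₀ (Subgroup.pow_mem _ (inv_mem hmem) _)
  rw [hvi] at hc
  calc h₀ * v * h₀⁻¹ = (v * v) * h₀ * v * h₀⁻¹ := by rw [hv, one_mul]
    _ = v * (v * h₀ * v) * h₀⁻¹ := by group
    _ = v * (h₀ * h₀)⁻¹ := by rw [hc, mul_inv_rev, mul_assoc]
    _ = t := by rw [hsq, inv_inv, hh, ← mul_assoc, hv, one_mul]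

theorem isConj_involution {t : G} (ht : orderOf t = 2) : IsConj v t := by
  have ht1 : t ≠ 1 := fun h => by rw [h, orderOf_one] at ht; omega
  have htt : t * t = 1 := by rw [← pow_two, ← ht, pow_orderOf_eq_one]
  obtain ⟨c, hc⟩ : ∃ c : Ω, t • c ≠ c := by
    by_contra h
    push Not at h
    exact ht1 (eq_one_of_fixes_all hO.hz h)
  obtain ⟨g, hga, hgb⟩ := hO.hz.trans c (t • c) a b (Ne.symm hc) hO.hb.symm
  refine (swap_conj hO hv (t := g * t * g⁻¹) ?_ ?_).trans (isConj_iff.mpr ⟨g, rfl⟩).symm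
  · rw [← hga, mul_smul, mul_smul, inv_smul_smul, hgb]
  · rw [← hgb, mul_smul, mul_smul, inv_smul_smul, smul_smul t, htt, one_smul, hga]

theorem fixed_v_subsingleton {c d : Ω} (hc : v • c = c) (hd : v • d = d) : c = d := by
  by_contra hcd
  have h := Subgroup.orderOf_dvd_natCard _ (mem_D2.mpr ⟨hc, hd⟩ : v ∈ D2 G c d)
  have e := card_group hO.hz hO.hb.symm
  rw [card_group hO.hz hcd] at e
  have hn := hO.hz.three
  rw [orderOf_v hO hv, Nat.eq_of_mul_eq_mul_left (Nat.mul_pos (by omega) (by omega)) e] at h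
  exact Nat.not_even_iff_odd.mpr hO.odd (even_iff_two_dvd.mpr h)

theorem ncard_fixed {t : G} (ht : orderOf t = 2) :
    {c : Ω | t • c = c}.ncard = Nat.card Ω % 2 := by
  classical
  haveI := finite_points hO.hz
  obtain ⟨g, rfl⟩ := isConj_iff.mp (isConj_involution hO hv ht)
  have e : {c : Ω | (g * v * g⁻¹) • c = c} = (g • ·) '' {c : Ω | v • c = c} := by
    ext c
    constructor
    · intro hc
      refine ⟨g⁻¹ • c, ?_, smul_inv_smul g c⟩
      have hc' : (g * v * g⁻¹) • c = c := hc
      rw [mul_smul, mul_smul] at hc'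
      exact eq_inv_smul_iff.mpr hc'
    · rintro ⟨c, hc, rfl⟩
      show (g * v * g⁻¹) • g • c = g • c
      rw [mul_smul, mul_smul, inv_smul_smul, show v • c = c from hc]
  rw [e, Set.ncard_image_of_injective _ (MulAction.injective g)]
  haveI : Fact (Nat.Prime 2) := ⟨Nat.prime_two⟩
  have hp : IsPGroup 2 (Subgroup.zpowers v) := IsPGroup.of_card (n := 1) (by
    rw [Nat.card_zpowers, orderOf_v hO hv, pow_one])
  have hmod := hp.card_modEq_card_fixedPoints Ω
  have hfix : fixedPoints (Subgroup.zpowers v) Ω = {c : Ω | v • c = c} := by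
    ext c
    refine ⟨fun h => h ⟨v, Subgroup.mem_zpowers v⟩, fun h => ?_⟩
    rintro ⟨x, hx⟩
    have hle : Subgroup.zpowers v ≤ stabilizer G c := Subgroup.zpowers_le.mpr h
    exact hle hx
  rw [hfix, Nat.card_coe_set_eq] at hmod
  have h1 : {c : Ω | v • c = c}.ncard ≤ 1 :=
    (Set.ncard_le_one_iff (Set.toFinite _)).mpr fun hc hd => fixed_v_subsingleton hO hv hc hd
  have hmod' : Nat.card Ω % 2 = {c : Ω | v • c = c}.ncard % 2 := hmod
  omega

theorem card_involutions :
    Nat.card {t : G // orderOf t = 2} * (Nat.card Ω - Nat.card Ω % 2) =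
      Nat.card Ω * (Nat.card Ω - 1) * Nat.card (D2 G a b) := by
  classical
  haveI := finite_points hO.hz
  haveI := Fintype.ofFinite Ω
  haveI := Fintype.ofFinite G
  set S : Finset G := Finset.univ.filter fun t => orderOf t = 2 with hS
  set P : Finset (Ω × Ω) := (Finset.univ : Finset Ω).offDiag with hP
  set W : Ω × Ω → Finset G := fun p => Finset.univ.filter fun g : G => g • p.1 = p.2 ∧ g • p.2 = p.1
  have hswap2 : ∀ {c d : Ω}, c ≠ d → ∀ g : G, g • c = d → g • d = c → orderOf g = 2 := by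
    intro c d hcd g h1 h2
    obtain ⟨x, hxc, hxd⟩ := hO.hz.trans c d a b hcd hO.hb.symm
    have hconj := swap_conj hO hv (t := x * g * x⁻¹)
      (by rw [← hxc, mul_smul, mul_smul, inv_smul_smul, h1, hxd])
      (by rw [← hxd, mul_smul, mul_smul, inv_smul_smul, h2, hxc])
    obtain ⟨y, hy⟩ := isConj_iff.mp hconj
    have := MulEquiv.orderOf_eq (MulAut.conj x) g
    rw [MulAut.conj_apply, ← hy, ← MulAut.conj_apply, MulEquiv.orderOf_eq, orderOf_v hO hv] at this
    exact this.symm
  have hWc : ∀ p ∈ P, (W p).card = Nat.card (D2 G a b) := by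
    intro p hp
    have hp' : p.1 ≠ p.2 := (Finset.mem_offDiag.mp hp).2.2
    have e := card_group hO.hz hO.hb.symm
    rw [card_group hO.hz hp'] at e
    have hn := hO.hz.three
    rw [← Nat.eq_of_mul_eq_mul_left (Nat.mul_pos (by omega) (by omega)) e, ← ncard_swapping hO.hz hp',
      Set.ncard_eq_toFinset_card']
    congr 1
    ext g; simp [W]
  set T : Finset (G × Ω) := (S ×ˢ (Finset.univ : Finset Ω)).filter fun x => x.1 • x.2 ≠ x.2 with hT
  have h1 : T.card = S.card * (Nat.card Ω - Nat.card Ω % 2) := by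
    have e : T = S.biUnion fun s => ({s} : Finset G) ×ˢ (Finset.univ.filter fun x : Ω => s • x ≠ x) := by
      ext ⟨s, x⟩; simp [hT]
    rw [e, Finset.card_biUnion]
    · rw [Finset.sum_const_nat (m := Nat.card Ω - Nat.card Ω % 2)]
      intro s hs
      rw [Finset.card_product, Finset.card_singleton, one_mul, ← ncard_fixed hO hv (Finset.mem_filter.mp hs).2,
        ← Set.ncard_compl, Set.ncard_eq_toFinset_card']
      congr 1
      ext x; simp
    · intro s _ t _ hst
      rw [Function.onFun, Finset.disjoint_left]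
      rintro ⟨u, x⟩ hu hu'
      simp only [Finset.mem_product, Finset.mem_singleton] at hu hu'
      exact hst (hu.1.symm.trans hu'.1)
  have hmaps : ∀ x ∈ T, (x.2, x.1 • x.2) ∈ P := fun x hx => by
    simp only [hP, Finset.mem_offDiag, Finset.mem_univ, true_and]
    exact Ne.symm (Finset.mem_filter.mp hx).2
  have h2 : T.card = P.card * Nat.card (D2 G a b) := by
    rw [Finset.card_eq_sum_card_fiberwise (f := fun x : G × Ω => (x.2, x.1 • x.2)) (t := P) hmaps,
      Finset.sum_const_nat]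
    intro p hp
    rw [← hWc p hp]
    have hp' : p.1 ≠ p.2 := (Finset.mem_offDiag.mp hp).2.2
    refine Finset.card_bij (fun x _ => x.1) ?_ ?_ ?_
    · intro x hx
      simp only [hT, hS, Finset.mem_filter, Finset.mem_product, Finset.mem_univ, true_and, and_true] at hx
      obtain ⟨⟨ho, -⟩, rfl⟩ := hx
      simp only [W, Finset.mem_filter, Finset.mem_univ, true_and]
      rw [smul_smul, ← pow_two, ← ho, pow_orderOf_eq_one, one_smul]
    · intro x hx y hy e
      have hx2 := (Prod.ext_iff.mp (Finset.mem_filter.mp hx).2).1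
      have hy2 := (Prod.ext_iff.mp (Finset.mem_filter.mp hy).2).1
      exact Prod.ext e (hx2.trans hy2.symm)
    · intro g hg
      simp only [W, Finset.mem_filter, Finset.mem_univ, true_and] at hg
      refine ⟨(g, p.1), ?_, rfl⟩
      simp only [hT, hS, Finset.mem_filter, Finset.mem_product, Finset.mem_univ, true_and, and_true]
      exact ⟨⟨hswap2 hp' g hg.1 hg.2, by rw [hg.1]; exact hp'.symm⟩, Prod.ext rfl hg.1⟩
  rw [Nat.card_eq_fintype_card (α := {t : G // orderOf t = 2}), Fintype.card_subtype, ← hS, ← h1, h2, hP,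
    Finset.offDiag_card, Finset.card_univ, ← Nat.card_eq_fintype_card, Nat.mul_sub, mul_one]

theorem fixed_unique (hn : Odd (Nat.card Ω)) {t : G} (ht : orderOf t = 2) {c d : Ω} (hc : t • c = c)
    (hd : t • d = d) : c = d := by
  haveI := finite_points hO.hz
  have h := ncard_fixed hO hv ht
  rw [Nat.odd_iff.mp hn] at h
  exact (Set.ncard_le_one_iff (Set.toFinite _)).mp h.le hc hd

/-- For odd degree every involution fixing the base point is central in the regular subgroup. -/
theorem involution_central (hn : Odd (Nat.card Ω)) {t : G} (ht : orderOf t = 2) (hta : t • a = a) :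
    t ∈ U ∧ ∀ u ∈ U, t * u = u * t := by
  classical
  haveI := finite_points hO.hz
  haveI := Fintype.ofFinite Ω
  haveI := Fintype.ofFinite G
  haveI := hO.hK.nil
  have hS := hO.hK.setting hO.hz hO.hb
  set F : Ω → Finset G := fun c => Finset.univ.filter fun s : G => orderOf s = 2 ∧ s • c = c with hF
  have hmemF : ∀ {c : Ω} {s : G}, s ∈ F c ↔ orderOf s = 2 ∧ s • c = c := fun {c s} => by simp [hF]
  have htr := transitive hO.hz
  have hFc : ∀ c : Ω, (F c).card = (F a).card := by
    have key : ∀ (g : G) (c d : Ω), g • c = d → ∀ s ∈ F c, g * s * g⁻¹ ∈ F d := by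
      intro g c d hg s hs
      rw [hmemF] at hs ⊢
      refine ⟨?_, by rw [← hg, mul_smul, mul_smul, inv_smul_smul, hs.2]⟩
      rw [← MulAut.conj_apply, MulEquiv.orderOf_eq, hs.1]
    intro c
    obtain ⟨g, hg⟩ := htr.exists_smul_eq a c
    refine le_antisymm
      (Finset.card_le_card_of_injOn (fun s => g⁻¹ * s * g⁻¹⁻¹) (key g⁻¹ c a (inv_smul_eq_iff.mpr hg.symm))
        fun x _ y _ e => mul_left_cancel (mul_right_cancel e))
      (Finset.card_le_card_of_injOn (fun s => g * s * g⁻¹) (key g a c hg)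
        fun x _ y _ e => mul_left_cancel (mul_right_cancel e))
  have hdisj : ((Finset.univ : Finset Ω) : Set Ω).PairwiseDisjoint F := by
    intro c _ d _ hcd
    rw [Function.onFun, Finset.disjoint_left]
    intro s hs hs'
    rw [hmemF] at hs hs'
    exact hcd (fixed_unique hO hv hn hs.1 hs.2 hs'.2)
  have hcover : (Finset.univ : Finset Ω).biUnion F = Finset.univ.filter fun s : G => orderOf s = 2 := by
    ext s
    simp only [Finset.mem_biUnion, Finset.mem_univ, true_and, Finset.mem_filter, hmemF]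
    refine ⟨fun ⟨_, h, _⟩ => h, fun h => ?_⟩
    have h1 := ncard_fixed hO hv h
    rw [Nat.odd_iff.mp hn] at h1
    obtain ⟨c, hc⟩ := Set.ncard_eq_one.mp h1
    exact ⟨c, h, (Set.ext_iff.mp hc c).mpr rfl⟩
  have hFa : (F a).card = Nat.card (D2 G a b) := by
    have h := card_involutions hO hv
    rw [Nat.card_eq_fintype_card (α := {t : G // orderOf t = 2}), Fintype.card_subtype, ← hcover,
      Finset.card_biUnion hdisj, Finset.sum_congr rfl fun c _ => hFc c, Finset.sum_const, Finset.card_univ,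
      smul_eq_mul, ← Nat.card_eq_fintype_card, Nat.odd_iff.mp hn, mul_assoc, mul_assoc] at h
    have hn3 := hO.hz.three
    have h' := Nat.eq_of_mul_eq_mul_left (by omega) h
    rw [mul_comm] at h'
    exact Nat.eq_of_mul_eq_mul_left (by omega) h'
  -- a central involution
  have hq2 : 2 ∣ Nat.card U := by
    rw [hO.hK.card_eq hO.hz hO.hb]
    obtain ⟨r, hr⟩ := hn
    exact ⟨r, by omega⟩
  haveI : Fact (Nat.Prime 2) := ⟨Nat.prime_two⟩
  obtain ⟨P⟩ : Nonempty (Sylow 2 U) := inferInstance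
  haveI : (P : Subgroup U).Normal :=
    Sylow.normal_of_normalizerCondition Group.normalizerCondition_of_isNilpotent P
  have hP1 : (P : Subgroup U) ≠ ⊥ := P.ne_bot_of_dvd_card hq2
  obtain ⟨w, hw, hw1⟩ := ((P : Subgroup U) ⊓ Subgroup.center U).bot_or_exists_ne_one.resolve_left
    (CfsgLib.Critical.inf_center_ne_bot (P : Subgroup U) hP1)
  obtain ⟨z, hz2, hzc⟩ : ∃ z : U, orderOf z = 2 ∧ z ∈ Subgroup.center U := by
    have hp : IsPGroup 2 ((P : Subgroup U) ⊓ Subgroup.center U : Subgroup U) := P.2.to_le inf_le_left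
    obtain ⟨i, hi⟩ := hp.exists_card_eq
    have hi0 : i ≠ 0 := fun h => hw1 (by
      rw [h, pow_zero] at hi
      exact (Subgroup.eq_bot_iff_forall _).mp (Subgroup.card_eq_one.mp hi) w hw)
    obtain ⟨z, hz⟩ := exists_prime_orderOf_dvd_card' (G := ((P : Subgroup U) ⊓ Subgroup.center U : Subgroup U)) 2
      (hi ▸ dvd_pow_self 2 hi0)
    exact ⟨z, by rw [Subgroup.orderOf_coe, hz], z.2.2⟩
  have hz1 : (z : G) ≠ 1 := fun e => by
    rw [← Subgroup.orderOf_coe, e, orderOf_one] at hz2; omega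
  -- its orbit
  have hmaps : ∀ h : D2 G a b, (h : G) * z * (h : G)⁻¹ ∈ F a := fun h => by
    rw [hmemF]
    refine ⟨?_, hO.hK.le (hS.norm h h.2 z z.2)⟩
    rw [← MulAut.conj_apply, MulEquiv.orderOf_eq, Subgroup.orderOf_coe, hz2]
  have himg : Finset.univ.image (fun h : D2 G a b => (h : G) * z * (h : G)⁻¹) = F a := by
    refine Finset.eq_of_subset_of_card_le (fun s hs => ?_) ?_
    · obtain ⟨h, -, rfl⟩ := Finset.mem_image.mp hs
      exact hmaps h
    · rw [hFa, Finset.card_image_of_injective _ fun g h e => ?_, Finset.card_univ, Nat.card_eq_fintype_card]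
      refine Subtype.ext (inv_mul_eq_one.mp ?_).symm
      refine hS.free _ ((D2 G a b).mul_mem ((D2 G a b).inv_mem h.2) g.2) z z.2 hz1 ?_
      have e' : (g : G) * z * (g : G)⁻¹ = (h : G) * z * (h : G)⁻¹ := e
      calc (h : G)⁻¹ * g * z * ((h : G)⁻¹ * g)⁻¹ = (h : G)⁻¹ * ((g : G) * z * (g : G)⁻¹) * h := by group
        _ = z := by rw [e']; group
  have htF : t ∈ F a := hmemF.mpr ⟨ht, hta⟩
  rw [← himg] at htF
  obtain ⟨h, -, rfl⟩ := Finset.mem_image.mp htF
  refine ⟨hS.norm h h.2 z z.2, fun u hu => ?_⟩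
  have e : ((h : G)⁻¹ * u * h) * z = z * ((h : G)⁻¹ * u * h) :=
    congrArg Subtype.val (Subgroup.mem_center_iff.mp hzc ⟨(h : G)⁻¹ * u * h, by
      simpa using hS.norm (h : G)⁻¹ (inv_mem h.2) u hu⟩)
  calc (h : G) * z * (h : G)⁻¹ * u = h * (z * ((h : G)⁻¹ * u * h)) * (h : G)⁻¹ := by group
    _ = h * ((((h : G)⁻¹ * u * h)) * z) * (h : G)⁻¹ := by rw [e]
    _ = _ := by group

/-- A product of two involutions in the regular subgroup has order two. -/
theorem strongly_real {u x y : G} (hu : u ∈ U) (hu1 : u ≠ 1) (hx : orderOf x = 2) (hy : orderOf y = 2)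
    (hxy : x * y = u) : orderOf u = 2 := by
  have hS := hO.hK.setting hO.hz hO.hb
  have hxx : x * x = 1 := by rw [← pow_two, ← hx, pow_orderOf_eq_one]
  have hyy : y * y = 1 := by rw [← pow_two, ← hy, pow_orderOf_eq_one]
  have hconj : x * u * x⁻¹ = u⁻¹ := by
    rw [← hxy, mul_inv_rev, ← mul_assoc, hxx, one_mul, inv_eq_of_mul_eq_one_right hyy]
  have hxa : x • a = a := by
    obtain ⟨w, hw, h, hh, rfl⟩ := hS.fusion u hu hu1 x (hconj ▸ U.inv_mem hu)
    rw [mul_smul, show h • a = a from hh.1]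
    exact hO.hK.le hw
  by_cases hn : Odd (Nat.card Ω)
  · obtain ⟨hxU, hxc⟩ := involution_central hO hv hn hx hxa
    have hxi : x⁻¹ = x := inv_eq_of_mul_eq_one_right hxx
    rw [hxc u hu, mul_inv_cancel_right] at hconj
    exact orderOf_eq_prime (by rw [pow_two]; nth_rewrite 1 [hconj]; rw [inv_mul_cancel]) hu1
  · exfalso
    haveI := finite_points hO.hz
    have h := ncard_fixed hO hv hx
    rw [Nat.even_iff.mp (Nat.not_odd_iff_even.mp hn), Set.ncard_eq_zero (Set.toFinite _),
      Set.eq_empty_iff_forall_notMem] at h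
    exact h a hxa

end OddInv

end CfsgLib.Zassenhaus
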