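import Cfsg.Agent.Lib.Zassenhaus.OddGram
import Cfsg.Agent.Lib.Zassenhaus.OddSimple
import Cfsg.Agent.Lib.Char.SquareRoots
import Cfsg.Agent.Lib.Char.Central
import Cfsg.Agent.Lib.Char.Eigen
import Cfsg.Agent.Lib.TransLinear.Huppert

/-!
# The regular subgroup of odd order

In a simple Zassenhaus group with two-point stabilizers of odd order `k`, a regular subgroup of
odd prime-power order is abelian. The count of square roots pairs each linear character with one
non-real character and `(k - 1) / 2` real ones; integrality at the involution forces the non-real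
one to have degree `k`.
-/

set_option autoImplicit false
set_option linter.style.haveILetI false
set_option linter.unusedSectionVars false

open MulAction Cfsg
open scoped ComplexConjugate CfsgLib.Char

namespace CfsgLib.Zassenhaus

open CfsgLib.Char.TINilpotent

theorem exists_int_involution {G : Type*} [Group G] [Finite G] {t : G} (ht : t * t = 1) (χ : IrrCharacter G) :
    ∃ m : ℤ, (χ : G → ℂ) t = m := by
  obtain ⟨n, ρ, hρ, hχ⟩ := χ.2
  obtain ⟨b, μ, hμ, hb⟩ := CfsgLib.Char.exists_eigenBasis_of_pow_eq_one (ρ t) two_ne_zero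
    (by rw [pow_two, ← map_mul, ht, map_one])
  have hμ1 : ∀ i, ∃ e : ℤ, μ i = e := fun i => by
    rcases sq_eq_one_iff.mp (hμ i) with e | e
    · exact ⟨1, by simp [e]⟩
    · exact ⟨-1, by simp [e]⟩
  choose e he using hμ1
  refine ⟨∑ i, e i, ?_⟩
  rw [← hχ]
  show LinearMap.trace ℂ _ (ρ t) = _
  rw [CfsgLib.Char.trace_eq_sum_of_diag b _ _ hb, Int.cast_sum]
  exact Finset.sum_congr rfl fun i _ => he i

/-- A simple group of order twice an odd number has order two. -/
theorem four_dvd_of_simple {G : Type*} [Group G] [Finite G] [IsSimpleGroup G] (h2 : 2 ∣ Nat.card G)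
    (h3 : 2 < Nat.card G) : 4 ∣ Nat.card G := by
  by_contra h4
  haveI := Fact.mk Nat.prime_two
  obtain ⟨S⟩ : Nonempty (Sylow 2 G) := inferInstance
  have hcard : Nat.card S = 2 := by
    rw [S.card_eq_multiplicity, show (Nat.card G).factorization 2 = 1 from ?_, pow_one]
    refine le_antisymm ?_ ((Nat.prime_two.dvd_iff_one_le_factorization Nat.card_pos.ne').mp h2)
    by_contra h
    exact h4 ((Nat.prime_two.pow_dvd_iff_le_factorization Nat.card_pos.ne').mpr
      (show 2 ≤ (Nat.card G).factorization 2 by omega))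
  haveI hcyc : IsCyclic S := isCyclic_of_prime_card hcard
  obtain ⟨N, hN, hi⟩ := CfsgLib.TransLinear.exists_index_two_of_cyclic_sylow S hcyc h2
    (IsCyclic.normalizer_le_centralizer (p := 2) ((Nat.minFac_eq_two_iff _).mpr h2) (P := S) hcyc)
  rcases hN.eq_bot_or_eq_top with h | h
  · rw [h, Subgroup.index_bot] at hi
    omega
  · rw [h, Subgroup.index_top] at hi
    omega

namespace OddInv

variable {G Ω : Type*} [Group G] [MulAction G Ω] [Fintype G] {a b : Ω} {U : Subgroup G} {v : G}
  [Fintype U] [Fintype (D2 G a b)] [Fintype (stabilizer G a)] (hO : OddInv G Ω a b U v) (hv : v * v = 1)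
  (hq : Odd (Nat.card U))
include hO hv hq

/-- The degree is even and the involutions have no fixed point. -/
theorem no_fixed {t : G} (ht : IsConj v t) (c : Ω) : t • c ≠ c := by
  intro hc
  haveI := finite_points hO.hz
  obtain ⟨g, hg⟩ := isConj_iff.mp ht
  have h1 : orderOf t = 2 := by
    rw [← hg, ← MulAut.conj_apply, MulEquiv.orderOf_eq, orderOf_v hO hv]
  have h := ncard_fixed hO hv h1
  rw [card_points hO] at h
  obtain ⟨j, hj⟩ := hq
  rw [show (Nat.card U + 1) % 2 = 0 by omega, Set.ncard_eq_zero (Set.toFinite _),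
    Set.eq_empty_iff_forall_notMem] at h
  exact h c hc

/-- The involutions form one class of `q k` elements. -/
theorem index_centralizer :
    (Subgroup.centralizer ({v} : Set G)).index = Nat.card U * Nat.card (D2 G a b) := by
  classical
  rw [← CfsgLib.Char.card_isConj_eq_index v]
  have e : Nat.card {g : G // IsConj g v} = Nat.card {t : G // orderOf t = 2} :=
    Nat.card_congr (Equiv.subtypeEquivRight fun g => ⟨fun h => by
      obtain ⟨c, hc⟩ := isConj_iff.mp h.symm
      rw [← hc, ← MulAut.conj_apply, MulEquiv.orderOf_eq, orderOf_v hO hv],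
      fun h => (isConj_involution hO hv h).symm⟩)
  have h := card_involutions hO hv
  rw [card_points hO, Nat.add_sub_cancel] at h
  obtain ⟨j, hj⟩ := hq
  rw [show (Nat.card U + 1) % 2 = 0 by omega, Nat.sub_zero] at h
  rw [e]
  exact Nat.eq_of_mul_eq_mul_right (by omega : 0 < Nat.card U + 1) (by rw [h]; ring)

theorem card_centralizer : Nat.card (Subgroup.centralizer ({v} : Set G)) = Nat.card U + 1 := by
  have h := (Subgroup.centralizer ({v} : Set G)).card_mul_index
  rw [index_centralizer hO hv hq, (hO.hK.setting hO.hz hO.hb).card_group, mul_assoc (Nat.card U + 1)] at h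
  exact Nat.eq_of_mul_eq_mul_right (Nat.mul_pos Nat.card_pos Nat.card_pos) h

theorem I_v (l : IrrCharacter (D2 G a b)) : I hO l v = 0 := by
  rw [I_formula, CfsgLib.Char.extendByZero_notMem _ _ fun h => no_fixed hO hv hq (IsConj.refl v) a h, zero_add]
  refine Finset.sum_eq_zero fun u _ => CfsgLib.Char.extendByZero_notMem _ _ fun h => ?_
  exact no_fixed hO hv hq (isConj_iff.mpr ⟨((u : G) * v)⁻¹, by group⟩) a h

/-- The Steinberg character has value `-1` at the involution, multiplicity one on each non-trivial
linear character, and is the only member of the principal series, besides the trivial one, not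
vanishing there. -/
theorem steinberg_v : ∃ St : IrrCharacter G, (St : G → ℂ) ≠ (fun _ => 1) ∧ (St : G → ℂ) v = -1 ∧
    St ∈ S hO ∧ (∀ χ ∈ S hO, χ ≠ St → (χ : G → ℂ) ≠ (fun _ => 1) → (χ : G → ℂ) v = 0) ∧
    ∀ θ : IrrCharacter U, θ ≠ triv → deg θ = 1 → N θ St = 1 := by
  classical
  obtain ⟨St, hSt1, hSt⟩ := exists_steinberg hO
  let tr : IrrCharacter G := ⟨fun _ => 1, CfsgLib.Char.isIrrCharacter_one⟩
  have htrSt : tr ≠ St := fun e => hSt1 (congrArg Subtype.val e).symm
  have hvv : (St : G → ℂ) v = -1 := by
    have e := congrFun hSt v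
    rw [I_v hO hv hq, Pi.add_apply] at e
    linear_combination -e
  refine ⟨St, hSt1, hvv, ?_, ?_, ?_⟩
  · simp only [S, Finset.mem_filter, Finset.mem_univ, true_and]
    refine ⟨one hO, ?_⟩
    rw [hSt, CfsgLib.Char.classInner_add_left, show (fun _ : G => (1 : ℂ)) = (tr : G → ℂ) from rfl,
      CfsgLib.Char.classInner_coe, CfsgLib.Char.classInner_coe, if_neg htrSt, if_pos rfl, zero_add]
    exact one_ne_zero
  · intro χ hχ h1 h2
    simp only [S, Finset.mem_filter, Finset.mem_univ, true_and] at hχ
    obtain ⟨l, hl⟩ := hχ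
    by_cases hl1 : l = one hO
    · subst hl1
      exfalso
      rw [hSt, CfsgLib.Char.classInner_add_left, show (fun _ : G => (1 : ℂ)) = (tr : G → ℂ) from rfl,
        CfsgLib.Char.classInner_coe, CfsgLib.Char.classInner_coe, if_neg (Ne.symm h1),
        if_neg (fun e : tr = χ => h2 (congrArg Subtype.val e).symm), add_zero] at hl
      exact hl rfl
    · have e : (⟨I hO l, R_irr hO hl1⟩ : IrrCharacter G) = χ := by
        by_contra hne
        refine hl ?_
        rw [show I hO l = ((⟨I hO l, R_irr hO hl1⟩ : IrrCharacter G) : G → ℂ) from rfl,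
          CfsgLib.Char.classInner_coe, if_neg hne]
      subst e
      exact I_v hO hv hq l
  · intro θ hθ hd
    have e : (N θ St : ℂ) = 1 := by
      rw [N_cast, classInner]
      rw [Finset.sum_eq_single (1 : U)]
      · have h := congrFun hSt 1
        rw [I_deg, Pi.add_apply] at h
        rw [OneMemClass.coe_one, show (St : G → ℂ) 1 = (Nat.card U : ℂ) by linear_combination -h, deg_cast, hd]
        simp
      · intro u _ hu
        have h := congrFun hSt u
        rw [I_kernel hO _ u.2 (fun e => hu (Subtype.ext e)), Pi.add_apply] at h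
        rw [show (St : G → ℂ) u = 0 by linear_combination -h, zero_mul]
      · simp
    exact_mod_cast e

/-- Column orthogonality against the involution. -/
theorem sum_v_N {θ : IrrCharacter U} (hθ : θ ≠ triv) (hd : deg θ = 1) {x : IrrCharacter G → ℤ}
    (hx : ∀ χ : IrrCharacter G, (χ : G → ℂ) v = x χ) [DecidableEq (IrrCharacter G)] :
    ∑ χ ∈ (S hO)ᶜ, x χ * N θ χ = 1 := by
  classical
  obtain ⟨St, hSt1, hStv, hStS, h0, hN⟩ := steinberg_v hO hv hq
  have hall : ∑ χ : IrrCharacter G, x χ * N θ χ = 0 := by
    have e : ∑ χ : IrrCharacter G, (x χ : ℂ) * (N θ χ : ℂ) = 0 := by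
      calc ∑ χ : IrrCharacter G, (x χ : ℂ) * (N θ χ : ℂ)
          = (Nat.card U : ℂ)⁻¹ * ∑ u : U, conj ((θ : U → ℂ) u) *
              ∑ χ : IrrCharacter G, (χ : G → ℂ) u * conj ((χ : G → ℂ) v) := by
            simp only [N_cast, classInner, Finset.mul_sum]
            rw [Finset.sum_comm]
            refine Finset.sum_congr rfl fun u _ => Finset.sum_congr rfl fun χ _ => ?_
            rw [hx χ, map_intCast]
            ring
        _ = 0 := by
            rw [Finset.sum_eq_zero, mul_zero]
            intro u _
            rw [CfsgLib.Char.column_orthogonality, if_neg, mul_zero]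
            exact fun h => no_fixed hO hv hq h.symm a (hO.hK.le u.2)
    exact_mod_cast e
  rw [← Finset.sum_add_sum_compl (S hO)] at hall
  have hS : ∑ χ ∈ S hO, x χ * N θ χ = -1 := by
    rw [Finset.sum_eq_single_of_mem St hStS fun χ hχ hne => ?_]
    · rw [hN θ hθ hd, mul_one]
      have := hx St
      rw [hStv] at this
      exact_mod_cast this.symm
    · by_cases h1 : (χ : G → ℂ) = fun _ => 1
      · have e : (N θ χ : ℂ) = 0 := by
          rw [N_cast, h1]
          exact CfsgLib.Char.classInner_irr_ne (triv : IrrCharacter U).2 θ.2 fun e => hθ (Subtype.ext e.symm)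
        rw [show N θ χ = 0 by exact_mod_cast e, mul_zero]
      · have := hx χ
        rw [h0 χ hχ hne h1] at this
        rw [show x χ = 0 by exact_mod_cast this.symm, zero_mul]
  linarith

/-- The squares of the values at the involution outside the principal series. -/
theorem sum_v_sq {x : IrrCharacter G → ℤ} (hx : ∀ χ : IrrCharacter G, (χ : G → ℂ) v = x χ)
    [DecidableEq (IrrCharacter G)] {χ : IrrCharacter G} (hχ : χ ∉ S hO) :
    x χ * x χ ≤ (Nat.card U : ℤ) - 1 := by
  classical
  obtain ⟨St, hSt1, hStv, hStS, -, -⟩ := steinberg_v hO hv hq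
  let tr : IrrCharacter G := ⟨fun _ => 1, CfsgLib.Char.isIrrCharacter_one⟩
  have hall : ∑ χ : IrrCharacter G, x χ * x χ = (Nat.card U : ℤ) + 1 := by
    have e : ∑ χ : IrrCharacter G, (x χ : ℂ) * (x χ : ℂ) = (Nat.card U : ℂ) + 1 := by
      have h := CfsgLib.Char.column_orthogonality v v
      rw [if_pos (IsConj.refl v), card_centralizer hO hv hq, Nat.cast_add, Nat.cast_one] at h
      rw [← h]
      exact Finset.sum_congr rfl fun χ _ => by rw [hx χ, map_intCast]
    exact_mod_cast e
  have htrS : tr ∈ S hO := by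
    simp only [S, Finset.mem_filter, Finset.mem_univ, true_and]
    exact ⟨one hO, by rw [show (tr : G → ℂ) = (fun _ => 1) from rfl, I_trivial_inner, if_pos rfl]; exact one_ne_zero⟩
  have htSt : tr ≠ St := fun e => hSt1 (congrArg Subtype.val e).symm
  have h3 : ({tr, St, χ} : Finset (IrrCharacter G)).sum (fun ψ => x ψ * x ψ) ≤ (Nat.card U : ℤ) + 1 :=
    hall ▸ Finset.sum_le_sum_of_subset_of_nonneg (Finset.subset_univ _) fun ψ _ _ => mul_self_nonneg _
  rw [Finset.sum_insert (by
      simp only [Finset.mem_insert, Finset.mem_singleton, not_or]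
      exact ⟨htSt, fun e : tr = χ => hχ (e ▸ htrS)⟩),
    Finset.sum_pair (fun e : St = χ => hχ (e ▸ hStS)),
    show x tr = 1 by
      have := hx tr
      rw [show (tr : G → ℂ) v = 1 from rfl] at this
      exact_mod_cast this.symm,
    show x St = -1 by
      have := hx St
      rw [hStv] at this
      exact_mod_cast this.symm] at h3
  linarith

/-- The square roots, on the kernel. -/
theorem sum_indicator {θ : IrrCharacter U} (hθ : θ ≠ triv) (hd : deg θ = 1) :
    ∑ χ : IrrCharacter G, CfsgLib.Char.indicator (χ : G → ℂ) * (N θ χ : ℂ) = (Nat.card (D2 G a b) : ℂ) := by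
  classical
  have hS := hO.hK.setting hO.hz hO.hb
  have hroots : ∀ u : U, (Nat.card {x : G // x * x = u} : ℂ) =
      1 + if u = 1 then ((Nat.card U * Nat.card (D2 G a b) : ℕ) : ℂ) else 0 := by
    intro u
    by_cases hu : u = 1
    · subst hu
      rw [if_pos rfl, OneMemClass.coe_one, CfsgLib.Char.SquareRoots.card_sqrt_one_eq,
        ← index_centralizer hO hv hq, ← CfsgLib.Char.card_isConj_eq_index v, Nat.card_congr
          (Equiv.subtypeEquivRight (q := fun g => IsConj g v) fun g => ⟨fun h => (isConj_involution hO hv h).symm,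
            fun h => by
              obtain ⟨c, hc⟩ := isConj_iff.mp h.symm
              rw [← hc, ← MulAut.conj_apply, MulEquiv.orderOf_eq, orderOf_v hO hv]⟩)]
      push_cast
      ring
    · rw [if_neg hu, add_zero, CfsgLib.Char.SquareRoots.card_sqrt_of_odd, Nat.cast_one]
      refine hq.of_dvd_nat (Subgroup.card_dvd_of_le fun g hg => hS.cent u u.2 (fun e => hu (Subtype.ext e)) g ?_)
      exact (Subgroup.mem_centralizer_singleton_iff.mp hg)
  calc ∑ χ : IrrCharacter G, CfsgLib.Char.indicator (χ : G → ℂ) * (N θ χ : ℂ)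
      = (Nat.card U : ℂ)⁻¹ * ∑ u : U, conj ((θ : U → ℂ) u) * (Nat.card {x : G // x * x = u} : ℂ) := by
        simp only [N_cast, classInner, CfsgLib.Char.SquareRoots.card_sqrt, Finset.mul_sum]
        rw [Finset.sum_comm]
        exact Finset.sum_congr rfl fun u _ => Finset.sum_congr rfl fun χ _ => by ring
    _ = _ := by
        have h0 : ∑ u : U, conj ((θ : U → ℂ) u) = 0 := by
          have h := CfsgLib.Char.classInner_irr_ne (φ := (triv : IrrCharacter U).1) (ψ := θ.1) triv.2 θ.2
            (fun e => hθ (Subtype.ext e.symm))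
          rw [classInner, mul_eq_zero, or_iff_right (inv_ne_zero (Nat.cast_ne_zero.mpr Nat.card_pos.ne'))] at h
          simpa [triv] using h
        simp only [hroots, mul_add, mul_one, Finset.sum_add_distrib, h0, zero_add, mul_ite, mul_zero,
          Finset.sum_ite_eq', Finset.mem_univ, if_true, deg_cast, hd, Nat.cast_one, map_one, one_mul]
        push_cast
        rw [inv_mul_cancel_left₀ (Nat.cast_ne_zero.mpr Nat.card_pos.ne')]

end OddInv

end CfsgLib.Zassenhaus
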