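import Cfsg.Agent.Lib.Zassenhaus.OddKernel
import Cfsg.Agent.Lib.Zassenhaus.SimpleEven

/-!
# The regular subgroup of odd prime power order is abelian
-/

set_option autoImplicit false
set_option linter.style.haveILetI false
set_option linter.unusedSectionVars false

open MulAction Cfsg
open scoped ComplexConjugate CfsgLib.Char commutatorElement

namespace CfsgLib.Zassenhaus

open CfsgLib.Char.TINilpotent

variable {G : Type*} [Group G] [Fintype G] {U : Subgroup G} [Fintype U]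

/-- The degree of a character. -/
noncomputable def Dg (U : Subgroup G) [Fintype U] (χ : IrrCharacter G) : ℤ :=
  ∑ θ : IrrCharacter U, N θ χ * deg θ

theorem Dg_cast (χ : IrrCharacter G) : (χ : G → ℂ) 1 = Dg U χ := degree_expansion χ

theorem Dg_pos (χ : IrrCharacter G) : 0 < Dg U χ := by
  obtain ⟨n, hn, h⟩ := CfsgLib.Char.exists_nat_degree_irr χ.2
  rw [Dg_cast (U := U)] at h
  have : Dg U χ = n := by exact_mod_cast h
  omega

namespace OddInv

variable {Ω : Type*} [MulAction G Ω] {a b : Ω} {v : G}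
  [Fintype (D2 G a b)] [Fintype (stabilizer G a)] (hO : OddInv G Ω a b U v) (hv : v * v = 1)
  (hq : Odd (Nat.card U))
include hO hv hq

omit hv in
theorem conj_not_rel {θ : IrrCharacter U} (hθ : θ ≠ triv) :
    ¬ Rel (hO.hK.setting hO.hz hO.hb) θ (CfsgLib.Char.conjPerm θ) := by
  rintro ⟨h, e⟩
  set hS := hO.hK.setting hO.hz hO.hb
  have hrot : rot hS h (CfsgLib.Char.conjPerm θ) = CfsgLib.Char.conjPerm (rot hS h θ) :=
    Subtype.ext (funext fun u => by rw [rot_apply, CfsgLib.Char.conjPerm_apply, CfsgLib.Char.conjPerm_apply, rot_apply])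
  have hcc : CfsgLib.Char.conjPerm (CfsgLib.Char.conjPerm θ) = θ :=
    Subtype.ext (funext fun g => Complex.conj_conj _)
  have h2 : rot hS (h * h) θ = θ := by
    rw [← rot_rot hS h h θ, e, hrot, e, hcc]
  have h1 : h * h = 1 := free_irr hS hθ h2
  have h0 : h = 1 := by
    obtain ⟨i, hi⟩ := hO.odd
    have h3 := pow_card_eq_one' (x := h)
    rw [hi, pow_succ, pow_mul, pow_two, h1, one_pow, one_mul] at h3
    exact h3
  rw [h0, rot_one] at e
  refine hθ (Subtype.ext ?_)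
  exact CfsgLib.Char.irr_real_of_odd hq θ fun u => Complex.conj_eq_iff_im.mp
    (congrFun (congrArg Subtype.val e) u).symm

omit hv hq in
theorem conj_ne_triv {θ : IrrCharacter U} (hθ : θ ≠ triv) : CfsgLib.Char.conjPerm θ ≠ triv := fun e => by
  refine hθ ?_
  have h := congrArg CfsgLib.Char.conjPerm e
  rw [show CfsgLib.Char.conjPerm (CfsgLib.Char.conjPerm θ) = θ from Subtype.ext (funext fun g => Complex.conj_conj _)] at h
  rw [h]
  exact Subtype.ext (funext fun g => map_one (starRingEnd ℂ))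

omit hv hq in
theorem deg_conj (θ : IrrCharacter U) : deg (CfsgLib.Char.conjPerm θ) = deg θ := by
  have e : ((deg (CfsgLib.Char.conjPerm θ) : ℕ) : ℂ) = deg θ := by
    rw [← deg_cast, CfsgLib.Char.conjPerm_apply, deg_cast, Complex.conj_natCast]
  exact_mod_cast e

omit hv hq in
theorem N_conj_of_real (θ : IrrCharacter U) {χ : IrrCharacter G} (hr : ∀ g, ((χ : G → ℂ) g).im = 0) :
    N (CfsgLib.Char.conjPerm θ) χ = N θ χ := by
  have h1 : ∀ g, conj ((χ : G → ℂ) g) = (χ : G → ℂ) g := fun g => Complex.conj_eq_iff_im.mpr (hr g)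
  have e : (N (CfsgLib.Char.conjPerm θ) χ : ℂ) = conj (N θ χ : ℂ) := by
    simp only [N_cast, classInner, map_mul, map_inv₀, map_natCast, map_sum, h1,
      CfsgLib.Char.conjPerm_apply]
  rw [map_intCast] at e
  exact_mod_cast e

open scoped Classical in
/-- Each linear character has one non-real constituent and `k / 2` real ones. -/
theorem shape {θ : IrrCharacter U} (hθ : θ ≠ triv) (hd : deg θ = 1) :
    ∃ Y : IrrCharacter G, Y ∉ S hO ∧ (¬ ∀ g, ((Y : G → ℂ) g).im = 0) ∧ N θ Y = 1 ∧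
      N (CfsgLib.Char.conjPerm θ) Y = 0 ∧
      (∀ χ ∈ (S hO)ᶜ, (∀ g, ((χ : G → ℂ) g).im = 0) → N θ χ = 0 ∨ N θ χ = 1) ∧
      (∀ χ ∈ (S hO)ᶜ, (¬ ∀ g, ((χ : G → ℂ) g).im = 0) → χ ≠ Y → N θ χ = 0) ∧
      ((((S hO)ᶜ).filter fun χ : IrrCharacter G => ∀ g, ((χ : G → ℂ) g).im = 0).filter fun χ => N θ χ = 1).card =
        Nat.card (D2 G a b) / 2 := by
  set hS := hO.hK.setting hO.hz hO.hb with hSdef
  set g := Nat.card (D2 G a b) / 2 with hg
  set k := Nat.card (D2 G a b) with hk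
  set θ' := CfsgLib.Char.conjPerm θ with hθ'
  have hk2 : 2 * g + 1 = k := Nat.two_mul_div_two_add_one_of_odd hO.odd
  set X := (S hO)ᶜ with hX
  set Xr := X.filter fun χ : IrrCharacter G => ∀ g, ((χ : G → ℂ) g).im = 0 with hXr
  set Xn := X.filter fun χ : IrrCharacter G => ¬ ∀ g, ((χ : G → ℂ) g).im = 0 with hXn
  have hsplit : ∀ f : IrrCharacter G → ℤ, ∑ χ ∈ Xr, f χ + ∑ χ ∈ Xn, f χ = ∑ χ ∈ X, f χ :=
    fun f => Finset.sum_filter_add_sum_filter_not X _ f
  have e1 : ∑ χ ∈ X, N θ χ * N θ χ = (g : ℤ) + 1 := by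
    rw [hX, gram_X hO hθ hθ, hd,
      Finset.card_eq_one.mpr ⟨(1 : D2 G a b), Finset.ext fun h => ⟨fun hh => ?_, fun hh => ?_⟩⟩]
    · rw [hg, hk]; push_cast; ring
    · rw [Finset.mem_singleton]
      exact free_irr hS hθ (Finset.mem_filter.mp hh).2
    · rw [Finset.mem_singleton] at hh
      subst hh
      exact Finset.mem_filter.mpr ⟨Finset.mem_univ _, rot_one _ θ⟩
  have e2 : ∑ χ ∈ X, N θ χ * N θ' χ = (g : ℤ) := by
    rw [hX, gram_X hO hθ (conj_ne_triv hO hθ), hd, deg_conj hO, hd,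
      Finset.card_eq_zero.mpr (Finset.filter_eq_empty_iff.mpr fun h _ e => conj_not_rel hO hq hθ ⟨h, e⟩)]
    rw [hg, hk]; push_cast; ring
  have hzn : ∀ χ : IrrCharacter G, ∃ z : ℤ, CfsgLib.Char.indicator (χ : G → ℂ) = z ∧ (z = 1 ∨ z = -1 ∨ z = 0) ∧
      ((¬ ∀ g, ((χ : G → ℂ) g).im = 0) → z = 0) := fun χ => by
    rcases CfsgLib.Char.indicator_cases χ.2 with ⟨hr, h | h⟩ | ⟨⟨x, hx⟩, h⟩
    · exact ⟨1, by simp [h], Or.inl rfl, fun hn => absurd hr hn⟩
    · exact ⟨-1, by simp [h], Or.inr (Or.inl rfl), fun hn => absurd hr hn⟩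
    · exact ⟨0, by simp [h], Or.inr (Or.inr rfl), fun _ => rfl⟩
  choose ν hν hν3 hνn using hzn
  have e3 : ∑ χ : IrrCharacter G, ν χ * N θ χ = (k : ℤ) := by
    have h := sum_indicator hO hv hq hθ hd
    simp only [hν] at h
    exact_mod_cast h
  have hνle : ∀ χ, ν χ * N θ χ ≤ N θ χ * N θ χ := fun χ => by
    have := N_nonneg θ χ
    rcases hν3 χ with e | e | e <;> rw [e] <;> nlinarith
  have hSle : ∑ χ ∈ S hO, ν χ * N θ χ ≤ (g : ℤ) + 1 := by
    have hsum := gram_S hO hθ hθ (deg_eq_one_iff.mp hd) (deg_eq_one_iff.mp hd)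
    have := Finset.sum_le_sum fun χ (_ : χ ∈ S hO) => hνle χ
    omega
  rw [← Finset.sum_add_sum_compl (S hO), ← hX, ← hsplit] at e3
  rw [← hsplit] at e1 e2
  have hn0 : ∑ χ ∈ Xn, ν χ * N θ χ = 0 := Finset.sum_eq_zero fun χ hχ => by
    rw [hνn χ (Finset.mem_filter.mp hχ).2, zero_mul]
  have hA : (g : ℤ) ≤ ∑ χ ∈ Xr, ν χ * N θ χ := by omega
  have hA' := Finset.sum_le_sum fun χ (_ : χ ∈ Xr) => hνle χ
  have hP : 0 ≤ ∑ χ ∈ Xn, N θ χ * N θ' χ :=
    Finset.sum_nonneg fun χ _ => mul_nonneg (N_nonneg _ _) (N_nonneg _ _)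
  have hAeq : ∑ χ ∈ Xr, N θ χ * N θ' χ = ∑ χ ∈ Xr, N θ χ * N θ χ :=
    Finset.sum_congr rfl fun χ hχ => by rw [hθ', N_conj_of_real hO θ (Finset.mem_filter.mp hχ).2]
  have hreq : ∑ χ ∈ Xr, ν χ * N θ χ = ∑ χ ∈ Xr, N θ χ * N θ χ := by omega
  have h01 : ∀ χ ∈ Xr, N θ χ = 0 ∨ N θ χ = 1 := fun χ hχ => by
    have h := (Finset.sum_eq_sum_iff_of_le fun χ _ => hνle χ).mp hreq χ hχ
    rcases mul_eq_mul_right_iff.mp h with e | e
    · have := N_nonneg θ χ
      rcases hν3 χ with z | z | z <;> omega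
    · exact Or.inl e
  have hn1 : ∑ χ ∈ Xn, N θ χ * N θ χ = 1 := by omega
  have hn2 : ∑ χ ∈ Xn, N θ χ * N θ' χ = 0 := by omega
  obtain ⟨Y, hY, hY0⟩ := Finset.exists_ne_zero_of_sum_ne_zero (by rw [hn1]; exact one_ne_zero)
  have hle : N θ Y * N θ Y ≤ 1 :=
    hn1 ▸ Finset.single_le_sum (f := fun χ => N θ χ * N θ χ) (fun χ _ => mul_self_nonneg _) hY
  have hY1 : N θ Y = 1 := by
    have := N_nonneg θ Y
    have : N θ Y ≠ 0 := fun e => hY0 (by rw [e, zero_mul])
    have h1 : 1 ≤ N θ Y := by omega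
    nlinarith
  refine ⟨Y, Finset.mem_compl.mp (Finset.mem_filter.mp hY).1, (Finset.mem_filter.mp hY).2, hY1, ?_,
    fun χ hχ hr => h01 χ (Finset.mem_filter.mpr ⟨hχ, hr⟩), fun χ hχ hn hne => ?_, ?_⟩
  · have h := (Finset.sum_eq_zero_iff_of_nonneg fun χ _ => mul_nonneg (N_nonneg _ _) (N_nonneg _ _)).mp hn2 Y hY
    rwa [hY1, one_mul] at h
  · have h2 := Finset.add_le_sum (f := fun χ => N θ χ * N θ χ) (fun χ _ => mul_self_nonneg _)
      (Finset.mem_filter.mpr ⟨hχ, hn⟩ : χ ∈ Xn) hY hne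
    rw [hn1] at h2
    simp only [hY1] at h2
    exact mul_self_eq_zero.mp (le_antisymm (by linarith) (mul_self_nonneg _))
  · have h : (((Xr.filter fun χ => N θ χ = 1).card : ℕ) : ℤ) = g := by
      rw [Finset.card_filter, Nat.cast_sum, ← show ∑ χ ∈ Xr, N θ χ * N θ χ = (g : ℤ) by omega]
      refine Finset.sum_congr rfl fun χ hχ => ?_
      rcases h01 χ hχ with e | e <;> simp [e]
    exact_mod_cast h

/-- The linear characters agree on the real characters and share no non-real constituent unless they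
are conjugate under the two-point stabilizer. -/
theorem others {θ θ₁ : IrrCharacter U} (hθ : θ ≠ triv) (hd : deg θ = 1) (hθ₁ : θ₁ ≠ triv) (hd₁ : deg θ₁ = 1)
    {Y : IrrCharacter G} (hY : Y ∉ S hO) (hYn : ¬ ∀ g, ((Y : G → ℂ) g).im = 0) (hY1 : N θ Y = 1)
    (hYc : N (CfsgLib.Char.conjPerm θ) Y = 0) :
    (¬ Rel (hO.hK.setting hO.hz hO.hb) θ θ₁ → N θ₁ Y = 0) ∧
      ∀ χ ∈ (S hO)ᶜ, (∀ g, ((χ : G → ℂ) g).im = 0) → N θ₁ χ = N θ χ := by
  classical
  set hS := hO.hK.setting hO.hz hO.hb with hSdef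
  set g := Nat.card (D2 G a b) / 2 with hg
  set θ' := CfsgLib.Char.conjPerm θ with hθ'
  by_cases hr1 : Rel hS θ θ₁
  · exact ⟨fun h => absurd hr1 h, fun χ _ _ => by rw [hr1.N_eq]⟩
  by_cases hr2 : Rel hS θ' θ₁
  · refine ⟨fun _ => by rw [hr2.N_eq]; exact hYc, fun χ _ hr => by rw [hr2.N_eq, hθ', N_conj_of_real hO θ hr]⟩
  obtain ⟨Y₀, -, -, hY₀1, -, h01, hn, hcard⟩ := shape hO hv hq hθ hd
  obtain rfl : Y = Y₀ := by
    by_contra hne
    have := hn Y (Finset.mem_compl.mpr hY) hYn hne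
    omega
  have hd' : deg θ' = 1 := by rw [hθ', deg_conj hO, hd]
  obtain ⟨Y', hY'S, hY'n, hY'1, -, -, hn', -⟩ := shape hO hv hq (conj_ne_triv hO hθ) hd'
  obtain ⟨Y₁, hY₁S, hY₁n, hY₁1, -, h01₁, hn₁, hcard₁⟩ := shape hO hv hq hθ₁ hd₁
  set X := (S hO)ᶜ with hX
  set Xr := X.filter fun χ : IrrCharacter G => ∀ g, ((χ : G → ℂ) g).im = 0 with hXr
  set Xn := X.filter fun χ : IrrCharacter G => ¬ ∀ g, ((χ : G → ℂ) g).im = 0 with hXn
  have hsplit : ∀ f : IrrCharacter G → ℤ, ∑ χ ∈ Xr, f χ + ∑ χ ∈ Xn, f χ = ∑ χ ∈ X, f χ :=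
    fun f => Finset.sum_filter_add_sum_filter_not X _ f
  have hgr : ∀ φ : IrrCharacter U, φ ≠ triv → deg φ = 1 → ¬ Rel hS φ θ₁ →
      ∑ χ ∈ X, N φ χ * N θ₁ χ = (g : ℤ) := by
    intro φ hφ hφd hnr
    rw [hX, gram_X hO hφ hθ₁, hφd, hd₁,
      Finset.card_eq_zero.mpr (Finset.filter_eq_empty_iff.mpr fun h _ e => hnr ⟨h, e⟩)]
    rw [hg]; push_cast; ring
  have a1 := hgr θ hθ hd hr1
  have a2 := hgr θ' (conj_ne_triv hO hθ) hd' hr2
  rw [← hsplit] at a1 a2
  have hreal : ∑ χ ∈ Xr, N θ' χ * N θ₁ χ = ∑ χ ∈ Xr, N θ χ * N θ₁ χ :=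
    Finset.sum_congr rfl fun χ hχ => by rw [hθ', N_conj_of_real hO θ (Finset.mem_filter.mp hχ).2]
  have hone : ∀ φ : IrrCharacter U, ∀ Z : IrrCharacter G, N φ Z = 1 → Z ∉ S hO →
      (¬ ∀ g, ((Z : G → ℂ) g).im = 0) →
      (∀ χ ∈ X, (¬ ∀ g, ((χ : G → ℂ) g).im = 0) → χ ≠ Z → N φ χ = 0) →
      ∑ χ ∈ Xn, N φ χ * N θ₁ χ = N θ₁ Z := by
    intro φ Z hZ hZS hZn h0
    rw [Finset.sum_eq_single_of_mem Z (Finset.mem_filter.mpr ⟨Finset.mem_compl.mpr hZS, hZn⟩) fun χ hχ hne => by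
      rw [h0 χ (Finset.mem_filter.mp hχ).1 (Finset.mem_filter.mp hχ).2 hne, zero_mul], hZ, one_mul]
  rw [hone θ Y hY1 hY hYn hn] at a1
  rw [hone θ' Y' hY'1 hY'S hY'n hn'] at a2
  have hYY' : Y ≠ Y' := fun e => by rw [e, hY'1] at hYc; exact one_ne_zero hYc
  have hz : N θ₁ Y = 0 := by
    by_contra h
    have e : Y = Y₁ := by_contra fun hne => h (hn₁ Y (Finset.mem_compl.mpr hY) hYn hne)
    have : N θ₁ Y' = 0 := hn₁ Y' (Finset.mem_compl.mpr hY'S) hY'n (e ▸ hYY'.symm)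
    subst e
    omega
  refine ⟨fun _ => hz, ?_⟩
  set A := Xr.filter fun χ => N θ χ = 1 with hA
  set B := Xr.filter fun χ => N θ₁ χ = 1 with hB
  have hinter : (((A ∩ B).card : ℕ) : ℤ) = g := by
    rw [hA, hB, ← Finset.filter_and, Finset.card_filter, Nat.cast_sum,
      ← show ∑ χ ∈ Xr, N θ χ * N θ₁ χ = (g : ℤ) by omega]
    refine Finset.sum_congr rfl fun χ hχ => ?_
    rcases h01 χ (Finset.mem_filter.mp hχ).1 (Finset.mem_filter.mp hχ).2 with e | e <;>
      rcases h01₁ χ (Finset.mem_filter.mp hχ).1 (Finset.mem_filter.mp hχ).2 with e' | e' <;> simp [e, e']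
  have hinter' : (A ∩ B).card = g := by exact_mod_cast hinter
  have eA : A ∩ B = A := Finset.eq_of_subset_of_card_le Finset.inter_subset_left (by rw [hcard, hinter'])
  have eB : A ∩ B = B := Finset.eq_of_subset_of_card_le Finset.inter_subset_right (by rw [hcard₁, hinter'])
  have eAB : A = B := eA.symm.trans eB
  intro χ hχ hr
  have hm : χ ∈ A ↔ χ ∈ B := by rw [eAB]
  simp only [hA, hB, hXr, Finset.mem_filter, hχ, hr, true_and, implies_true] at hm
  rcases h01 χ hχ hr with e | e <;> rcases h01₁ χ hχ hr with e' | e' <;> simp [e, e'] at hm ⊢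

open scoped Classical in
/-- The pairing of a character of the kernel with the degrees. -/
theorem sum_N_Dg {φ : IrrCharacter U} (hφ : φ ≠ triv) :
    ∑ χ ∈ (S hO)ᶜ, N φ χ * Dg U χ =
      (((Nat.card (D2 G a b) / 2 : ℕ) : ℤ) * ((Nat.card U : ℤ) - 1) + Nat.card (D2 G a b)) * deg φ := by
  set hS := hO.hK.setting hO.hz hO.hb with hSdef
  have htot : ∑ ψ : IrrCharacter U, (deg ψ : ℤ) * deg ψ = Nat.card U := by
    have h := CfsgLib.Char.sum_sq_degree (G := U)
    simp only [deg_cast, sq] at h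
    exact_mod_cast h
  have hswap : ∑ χ ∈ (S hO)ᶜ, N φ χ * Dg U χ = ∑ ψ : IrrCharacter U, (deg ψ : ℤ) * ∑ χ ∈ (S hO)ᶜ, N φ χ * N ψ χ := by
    simp only [Dg, Finset.mul_sum]
    rw [Finset.sum_comm]
    exact Finset.sum_congr rfl fun ψ _ => Finset.sum_congr rfl fun χ _ => by ring
  have hterm : ∀ ψ : IrrCharacter U, (deg ψ : ℤ) * ∑ χ ∈ (S hO)ᶜ, N φ χ * N ψ χ =
      (if ψ = triv then 0 else ((Nat.card (D2 G a b) / 2 : ℕ) : ℤ) * deg φ * ((deg ψ : ℤ) * deg ψ)) +
        (deg φ : ℤ) * (Finset.univ.filter fun h : D2 G a b => rot hS h φ = ψ).card := by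
    intro ψ
    by_cases h : ψ = triv
    · subst h
      rw [if_pos rfl, Finset.sum_eq_zero fun χ hχ => by rw [N_triv_X hO (Finset.mem_compl.mp hχ), mul_zero],
        Finset.card_eq_zero.mpr (Finset.filter_eq_empty_iff.mpr fun h' _ e => not_rel_triv hφ (Rel.symm ⟨h', e⟩))]
      simp
    · rw [if_neg h, gram_X hO hφ h]
      by_cases hc : (Finset.univ.filter fun h : D2 G a b => rot hS h φ = ψ).card = 0
      · rw [hc]; push_cast; ring
      · obtain ⟨x, hx⟩ := Finset.card_pos.mp (Nat.pos_of_ne_zero hc)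
        have he : deg ψ = deg φ := Rel.deg_eq (hS := hS) ⟨x, (Finset.mem_filter.mp hx).2⟩
        rw [he]
        ring
  rw [hswap, Finset.sum_congr rfl fun ψ _ => hterm ψ, Finset.sum_add_distrib, ← Finset.mul_sum,
    ← Nat.cast_sum, ← Finset.card_eq_sum_card_fiberwise (fun x _ => Finset.mem_univ _), Finset.card_univ,
    ← Nat.card_eq_fintype_card, Finset.sum_ite, Finset.sum_const_zero, zero_add, ← Finset.mul_sum,
    Finset.filter_ne', Finset.sum_erase_eq_sub (Finset.mem_univ _), htot, deg_triv]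
  push_cast
  ring

omit hv hq in
/-- The orbits away from the identity are free. -/
theorem dvd_card_invariant_sub_one (W : Subgroup U)
    (hW : ∀ h : D2 G a b, ∀ u ∈ W, cj (hO.hK.setting hO.hz hO.hb) h u ∈ W) :
    Nat.card (D2 G a b) ∣ Nat.card W - 1 := by
  classical
  set hS := hO.hK.setting hO.hz hO.hb
  set T : Finset U := Finset.univ.filter fun u => u ∈ W ∧ u ≠ 1 with hT
  set o : U → Finset U := fun u => Finset.univ.image fun h : D2 G a b => cj hS h u with ho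
  have hcard : T.card = Nat.card W - 1 := by
    rw [show T = (Finset.univ.filter fun u => u ∈ W).erase 1 by ext u; simp [hT, and_comm],
      Finset.card_erase_of_mem (by simp [W.one_mem]), Nat.card_eq_fintype_card, Fintype.card_subtype]
  rw [← hcard, Finset.card_eq_sum_card_image o T]
  refine Finset.dvd_sum fun C hC => ?_
  obtain ⟨u, hu, rfl⟩ := Finset.mem_image.mp hC
  obtain ⟨huW, hu1⟩ := (Finset.mem_filter.mp hu).2
  have hinj : Function.Injective fun h : D2 G a b => cj hS h u := fun x y e => by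
    have e' := congrArg (cj hS y⁻¹) e
    simp only [cj_cj, inv_mul_cancel, cj_one] at e'
    refine (inv_mul_eq_one.mp ?_).symm
    exact Subtype.ext (hS.free _ (y⁻¹ * x).2 u u.2 (fun h => hu1 (Subtype.ext h))
      (congrArg (Subtype.val : U → G) e'))
  rw [show (T.filter fun w => o w = o u) = o u from ?_]
  · rw [ho, Finset.card_image_of_injective _ hinj, Finset.card_univ, ← Nat.card_eq_fintype_card]
  · ext w
    simp only [Finset.mem_filter]
    constructor
    · rintro ⟨-, e⟩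
      rw [← e]
      exact Finset.mem_image.mpr ⟨1, Finset.mem_univ _, cj_one hS w⟩
    · intro hw
      obtain ⟨x, -, rfl⟩ := Finset.mem_image.mp hw
      refine ⟨Finset.mem_filter.mpr ⟨Finset.mem_univ _, hW x u huW, fun h => hu1 ?_⟩, ?_⟩
      · exact (cj hS x).injective (h.trans (map_one (cj hS x)).symm)
      · ext z
        simp only [ho, Finset.mem_image, Finset.mem_univ, true_and, cj_cj]
        exact ⟨fun ⟨y, e⟩ => ⟨y * x, e⟩, fun ⟨y, e⟩ => ⟨y * x⁻¹, by rwa [inv_mul_cancel_right]⟩⟩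

/-- The kernel is abelian. -/
theorem comm_odd [IsSimpleGroup G] {p : ℕ} [hp : Fact p.Prime] (hU : IsPGroup p U) :
    ∀ x y : U, x * y = y * x := by
  classical
  by_contra hna
  set hS := hO.hK.setting hO.hz hO.hb with hSdef
  set k := Nat.card (D2 G a b) with hk
  set g := k / 2 with hg
  have hk2 : 2 * g + 1 = k := Nat.two_mul_div_two_add_one_of_odd hO.odd
  obtain ⟨n, hn⟩ := hU.exists_card_eq
  haveI := hO.hK.nil
  haveI : Nontrivial U := (Subgroup.nontrivial_iff_ne_bot U).mpr hS.ne_bot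
  have hUgt : 1 < Nat.card U := Finite.one_lt_card
  have hn0 : n ≠ 0 := by
    intro e; rw [e, pow_zero] at hn; omega
  have hp3 : 3 ≤ p := by
    have h2 := hp.out.two_le
    by_contra h
    obtain rfl : p = 2 := by omega
    obtain ⟨i, hi⟩ := hq
    have : 2 ∣ Nat.card U := hn ▸ dvd_pow_self 2 hn0
    omega
  obtain ⟨t₀, ht0, htl⟩ := exists_linear hO
  obtain ⟨Y, hY, hYn, hY1, hYc, h01, hnr, -⟩ := shape hO hv hq ht0 htl
  -- the linear characters
  set L : Finset (IrrCharacter U) := Finset.univ.filter fun θ => θ ≠ triv ∧ deg θ = 1 with hL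
  set T := commutator U with hTdef
  obtain ⟨i, hi⟩ : ∃ i, T.index = p ^ i := by
    obtain ⟨i, -, e⟩ := (Nat.dvd_prime_pow hp.out).mp (hn ▸ T.index_dvd_card)
    exact ⟨i, e⟩
  have hLcard : L.card + 1 = p ^ i := by
    rw [← hi, hTdef, ← linear_count, show L = (Finset.univ.filter fun θ : IrrCharacter U =>
      (θ : U → ℂ) 1 = 1).erase triv by ext θ; simp [hL, deg_eq_one_iff],
      Finset.card_erase_of_mem (by simp [← deg_eq_one_iff, deg_triv]), Nat.sub_add_cancel]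
    exact Finset.card_pos.mpr ⟨triv, by simp [← deg_eq_one_iff, deg_triv]⟩
  have h2k : 2 * k ≤ L.card := by
    have hne : CfsgLib.Char.conjPerm t₀ ≠ triv := conj_ne_triv hO ht0
    have hdisj : Disjoint (orb hS t₀) (orb hS (CfsgLib.Char.conjPerm t₀)) := Finset.disjoint_left.mpr
      fun φ h1 h2 => conj_not_rel hO hq ht0 ((mem_orb.mp h1).trans (mem_orb.mp h2).symm)
    have hsub : orb hS t₀ ∪ orb hS (CfsgLib.Char.conjPerm t₀) ⊆ L := fun φ hφ => by
      simp only [hL, Finset.mem_filter, Finset.mem_univ, true_and]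
      rcases Finset.mem_union.mp hφ with h | h
      · exact ⟨fun e => not_rel_triv ht0 (e ▸ mem_orb.mp h).symm, by rw [(mem_orb.mp h).deg_eq, htl]⟩
      · exact ⟨fun e => not_rel_triv hne (e ▸ mem_orb.mp h).symm,
          by rw [(mem_orb.mp h).deg_eq, deg_conj hO, htl]⟩
    have := Finset.card_le_card hsub
    rw [Finset.card_union_of_disjoint hdisj, card_orb hS ht0, card_orb hS hne] at this
    omega
  -- the derived subgroup
  have hTne : T ≠ ⊥ := fun h => hna fun x y => by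
    have hm : ⁅x, y⁆ ∈ T := Subgroup.commutator_mem_commutator (Subgroup.mem_top x) (Subgroup.mem_top y)
    rw [h, Subgroup.mem_bot] at hm
    exact commutatorElement_eq_one_iff_mul_comm.mp hm
  obtain ⟨j, hj⟩ := (hU.to_subgroup T).exists_card_eq
  have hnij : p ^ j * p ^ i = p ^ n := by rw [← hn, ← hj, ← hi, T.card_mul_index]
  have hTk : 2 * k + 1 ≤ p ^ j := by
    have hdvd : k ∣ p ^ j - 1 := hj ▸ dvd_card_invariant_sub_one hO T fun h u hu => by
      have hc : T.map (cj hS h).toMonoidHom = T :=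
        Subgroup.characteristic_iff_map_eq.mp inferInstance (cj hS h)
      exact hc ▸ Subgroup.mem_map_of_mem _ hu
    have hpo : Odd (p ^ j) := (hp.out.odd_of_ne_two (by omega)).pow
    have h1 : 1 < p ^ j := by
      rw [← hj]
      exact (Subgroup.one_lt_card_iff_ne_bot T).mpr hTne
    obtain ⟨c, hc⟩ := hdvd
    obtain ⟨c', hc'⟩ := hpo
    have hc2 : 2 ≤ c := by
      by_contra h
      obtain ⟨c'', hc''⟩ := hO.odd
      interval_cases c <;> omega
    have := Nat.mul_le_mul_left k hc2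
    omega
  have hij : i ≠ j := by
    intro e
    have h8 : (p ^ n + 1) % 4 = 2 := by
      rw [← hnij, e]
      obtain ⟨c, hc⟩ : Odd (p ^ j) := (hp.out.odd_of_ne_two (by omega)).pow
      rw [hc, show (2 * c + 1) * (2 * c + 1) + 1 = 4 * (c * c + c) + 2 by ring]
      omega
    have hG := hS.card_group
    have h2U : 2 ∣ Nat.card U + 1 := by rw [hn]; omega
    have h2G : 2 ∣ Nat.card G := by
      rw [hG, mul_assoc]
      exact h2U.mul_right _
    have hdvd : 4 ∣ Nat.card G := four_dvd_of_simple h2G (by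
      rw [hG]
      have h3 := Nat.mul_le_mul (Nat.mul_le_mul (show 2 ≤ Nat.card U + 1 by omega) (show 1 ≤ Nat.card U by omega)) hO.nt
      rw [← hk] at h3 ⊢
      omega)
    rw [hG, hn] at hdvd
    have hodd2 : Odd (p ^ n * k) := ((hp.out.odd_of_ne_two (by omega)).pow).mul hO.odd
    rw [mul_assoc] at hdvd
    have := (hodd2.coprime_two_left.pow_left 2).dvd_of_dvd_mul_right hdvd
    omega
  have hsize : 3 * ((2 * k + 1) * (2 * k + 1)) ≤ p ^ n := by
    have key : ∀ {r s : ℕ}, r < s → 2 * k + 1 ≤ p ^ r → 3 * ((2 * k + 1) * (2 * k + 1)) ≤ p ^ r * p ^ s := by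
      intro r s hrs hr
      have h2 : p * p ^ r ≤ p ^ s := by
        rw [← pow_succ']; exact Nat.pow_le_pow_right (by omega) hrs
      calc 3 * ((2 * k + 1) * (2 * k + 1)) ≤ p * (p ^ r * p ^ r) :=
            Nat.mul_le_mul hp3 (Nat.mul_le_mul hr hr)
        _ = p ^ r * (p * p ^ r) := by ring
        _ ≤ p ^ r * p ^ s := Nat.mul_le_mul_left _ h2
    rw [← hnij]
    rcases Nat.lt_or_gt_of_ne hij with h | h
    · exact (key h (by omega)).trans_eq (mul_comm _ _)
    · exact key h hTk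
  -- degrees modulo the prime
  have hdegp : ∀ θ : IrrCharacter U, deg θ = 1 ∨ p ∣ deg θ := fun θ => by
    obtain ⟨m, hm, -, hdvd⟩ := CfsgLib.Char.exists_degree_dvd_card θ.2
    rw [deg_cast, Nat.cast_inj] at hm
    rw [hn, ← hm] at hdvd
    obtain ⟨r, -, hr⟩ := (Nat.dvd_prime_pow hp.out).mp hdvd
    rcases Nat.eq_zero_or_pos r with e | e
    · exact Or.inl (by rw [hr, e, pow_zero])
    · exact Or.inr (hr ▸ dvd_pow_self p e.ne')
  have hmod : ∀ χ ∉ S hO, (p : ℤ) ∣ Dg U χ - ∑ θ ∈ L, N θ χ := by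
    intro χ hχ
    rw [Dg, ← Finset.sum_add_sum_compl L, add_sub_assoc]
    rw [show ∑ θ ∈ L, N θ χ * (deg θ : ℤ) + (∑ θ ∈ Lᶜ, N θ χ * (deg θ : ℤ) - ∑ θ ∈ L, N θ χ) =
      ∑ θ ∈ Lᶜ, N θ χ * (deg θ : ℤ) + (∑ θ ∈ L, N θ χ * (deg θ : ℤ) - ∑ θ ∈ L, N θ χ) by ring,
      Finset.sum_congr rfl (fun θ hθ => by rw [(Finset.mem_filter.mp hθ).2.2, Nat.cast_one, mul_one] :
        ∀ θ ∈ L, N θ χ * (deg θ : ℤ) = N θ χ), sub_self, add_zero]
    refine Finset.dvd_sum fun θ hθ => ?_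
    by_cases h : θ = triv
    · rw [h, N_triv_X hO hχ, zero_mul]; exact dvd_zero _
    · rcases hdegp θ with e | e
      · exact absurd (Finset.mem_filter.mpr ⟨Finset.mem_univ _, h, e⟩) (Finset.mem_compl.mp hθ)
      · exact Dvd.dvd.mul_left (Int.natCast_dvd_natCast.mpr e) _
  have hpZ : Prime (p : ℤ) := Nat.prime_iff_prime_int.mp hp.out
  have hYmod : ¬ (p : ℤ) ∣ Dg U Y := by
    intro h
    have hsum : ∑ θ ∈ L, N θ Y = (k : ℤ) := by
      rw [← Finset.sum_subset (s₁ := orb hS t₀) (fun φ hφ => Finset.mem_filter.mpr ⟨Finset.mem_univ _,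
        fun e => not_rel_triv ht0 (e ▸ mem_orb.mp hφ).symm, by rw [(mem_orb.mp hφ).deg_eq, htl]⟩) fun φ hφ hno =>
          (others hO hv hq ht0 htl (Finset.mem_filter.mp hφ).2.1 (Finset.mem_filter.mp hφ).2.2 hY hYn hY1 hYc).1
            fun hr => hno (mem_orb.mpr hr),
        Finset.sum_congr rfl (fun φ hφ => by rw [(mem_orb.mp hφ).N_eq, hY1] : ∀ φ ∈ orb hS t₀, N φ Y = 1),
        Finset.sum_const, card_orb hS ht0, nsmul_eq_mul, mul_one]
    have h2 := dvd_sub h (hmod Y hY)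
    rw [hsum, sub_sub_cancel, Int.natCast_dvd_natCast] at h2
    have hkq : k ∣ p ^ n - 1 := by
      rw [← hn, hO.hK.card_eq hO.hz hO.hb, show Nat.card Ω - 1 - 1 = Nat.card Ω - 2 by omega]
      exact card_D2_dvd hO.hz hO.hb.symm
    have h3 := Nat.dvd_sub (dvd_pow_self p hn0) (h2.trans hkq)
    rw [Nat.sub_sub_self (Nat.one_le_pow _ _ (by omega)), Nat.dvd_one] at h3
    omega
  have hRmod : ∀ χ ∉ S hO, (∀ g, ((χ : G → ℂ) g).im = 0) → N t₀ χ = 1 → ¬ (p : ℤ) ∣ Dg U χ := by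
    intro χ hχ hr h1 h
    have hsum : ∑ θ ∈ L, N θ χ = (L.card : ℤ) := by
      rw [Finset.sum_congr rfl (g := fun _ => (1 : ℤ)) fun φ hφ => by
        rw [(others hO hv hq ht0 htl (Finset.mem_filter.mp hφ).2.1 (Finset.mem_filter.mp hφ).2.2 hY hYn hY1
          hYc).2 χ (Finset.mem_compl.mpr hχ) hr, h1],
        Finset.sum_const, nsmul_eq_mul, mul_one]
    have h2 := dvd_sub h (hmod χ hχ)
    rw [hsum, sub_sub_cancel, Int.natCast_dvd_natCast] at h2
    have hi0 : i ≠ 0 := fun e => by rw [e, pow_zero] at hLcard; omega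
    have h3 := Nat.dvd_sub (dvd_pow_self p hi0) h2
    rw [show p ^ i - L.card = 1 by omega, Nat.dvd_one] at h3
    omega
  -- integrality at the involution
  choose x hx using exists_int_involution (t := v) hv
  have hdvd : ∀ χ : IrrCharacter G, ¬ (p : ℤ) ∣ Dg U χ → Dg U χ ∣ (k : ℤ) * x χ := by
    intro χ hχ
    have hint := CfsgLib.Char.isIntegral_omega_irr χ.2 v
    rw [CfsgLib.Char.omega, index_centralizer hO hv hq, hx, Dg_cast (U := U), ← hk] at hint
    obtain ⟨m, hm⟩ := CfsgLib.Char.exists_int_of_isIntegral_rat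
      (q := ((Nat.card U * k : ℕ) : ℚ) * (x χ : ℚ) / (Dg U χ : ℚ)) (by push_cast at hint ⊢; exact hint)
    rw [div_eq_iff (by exact_mod_cast (Dg_pos (U := U) χ).ne')] at hm
    have hm' : ((Nat.card U : ℤ) * k) * x χ = m * Dg U χ := by exact_mod_cast hm
    refine IsCoprime.dvd_of_dvd_mul_left (y := ((p : ℤ) ^ n)) ?_ ⟨m, ?_⟩
    · exact ((Prime.coprime_iff_not_dvd hpZ).mpr hχ).symm.pow_right
    · rw [hn] at hm'
      push_cast at hm'
      linear_combination hm'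
  have hsumx := sum_v_N hO hv hq ht0 htl hx
  by_cases hcase : ∀ χ ∈ (S hO)ᶜ, (∀ g, ((χ : G → ℂ) g).im = 0) → N t₀ χ = 1 → x χ = 0
  · -- the non-real character has degree `k`
    rw [Finset.sum_eq_single_of_mem Y (Finset.mem_compl.mpr hY) fun χ hχ hne => ?_, hY1, mul_one] at hsumx
    swap
    · by_cases hr : ∀ g, ((χ : G → ℂ) g).im = 0
      · rcases h01 χ hχ hr with e | e
        · rw [e, mul_zero]
        · rw [hcase χ hχ hr e, zero_mul]
      · rw [hnr χ hχ hr hne, mul_zero]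
    have hle := Int.le_of_dvd (show (0 : ℤ) < k by exact_mod_cast (Nat.card_pos : 0 < k)) (by simpa [hsumx] using hdvd Y hYmod)
    refine hna (comm_of_linear ht0 (P := Y) (by rw [hY1]; exact one_ne_zero) fun θ hθ => ?_)
    by_contra hd
    have hmem : θ ∉ orb hS t₀ := fun h => hd (by rw [(mem_orb.mp h).deg_eq, htl])
    have h1 : ∑ φ ∈ orb hS t₀, N φ Y * (deg φ : ℤ) = k := by
      rw [Finset.sum_congr rfl (fun φ hφ => by
        rw [(mem_orb.mp hφ).N_eq, hY1, (mem_orb.mp hφ).deg_eq, htl]; rfl : ∀ φ ∈ orb hS t₀, N φ Y * (deg φ : ℤ) = 1),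
        Finset.sum_const, card_orb hS ht0, nsmul_eq_mul, mul_one]
    have h2 : ∑ φ ∈ insert θ (orb hS t₀), N φ Y * (deg φ : ℤ) ≤ Dg U Y :=
      Finset.sum_le_sum_of_subset_of_nonneg (Finset.subset_univ _) fun φ _ _ =>
        mul_nonneg (N_nonneg _ _) (Int.natCast_nonneg _)
    rw [Finset.sum_insert hmem, h1] at h2
    have := N_nonneg θ Y
    have : (1 : ℤ) ≤ N θ Y := by omega
    have : (1 : ℤ) ≤ deg θ := by exact_mod_cast deg_pos θ
    nlinarith
  · -- a real character of small degree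
    push Not at hcase
    obtain ⟨R, hRX, hRr, hR1, hRx⟩ := hcase
    have hRS := Finset.mem_compl.mp hRX
    set M : ℤ := (Nat.card U : ℤ) - 1 with hM
    have hMk : 12 * ((k : ℤ) * k) ≤ M := by
      rw [hM, hn]
      have : (3 * ((2 * k + 1) * (2 * k + 1)) : ℤ) ≤ ((p ^ n : ℕ) : ℤ) := by exact_mod_cast hsize
      nlinarith
    set D := Dg U R with hD
    have hDpos : 0 < D := Dg_pos R
    have hD2 : D * D ≤ (k : ℤ) * k * M := by
      have h := hdvd R (hRmod R hRS hRr hR1)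
      have h1 : D ≤ |(k : ℤ) * x R| := Int.le_of_dvd (abs_pos.mpr (mul_ne_zero
        (by exact_mod_cast Nat.card_pos.ne') hRx)) ((dvd_abs _ _).mpr h)
      have h2 := mul_le_mul h1 h1 hDpos.le (abs_nonneg _)
      rw [abs_mul_abs_self] at h2
      have h3 := sum_v_sq hO hv hq hx hRS
      rw [← hM] at h3
      nlinarith [mul_le_mul_of_nonneg_left h3 (mul_self_nonneg (k : ℤ))]
    set t₁ := CfsgLib.Char.conjPerm t₀ with ht₁
    have ht1 : t₁ ≠ triv := conj_ne_triv hO ht0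
    have h11 : ∀ φ : IrrCharacter U, φ ≠ triv → deg φ = 1 →
        ∑ χ ∈ (S hO)ᶜ, N φ χ * N φ χ = (g : ℤ) + 1 := by
      intro φ hφ hd
      rw [gram_X hO hφ hφ, hd,
        Finset.card_eq_one.mpr ⟨(1 : D2 G a b), Finset.ext fun h => ⟨fun hh => ?_, fun hh => ?_⟩⟩]
      · rw [hg, hk]; push_cast; ring
      · rw [Finset.mem_singleton]
        exact free_irr hS hφ (Finset.mem_filter.mp hh).2
      · rw [Finset.mem_singleton] at hh
        subst hh
        exact Finset.mem_filter.mpr ⟨Finset.mem_univ _, rot_one _ φ⟩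
    have h12 : ∑ χ ∈ (S hO)ᶜ, N t₀ χ * N t₁ χ = (g : ℤ) := by
      rw [gram_X hO ht0 ht1, htl, deg_conj hO, htl,
        Finset.card_eq_zero.mpr (Finset.filter_eq_empty_iff.mpr fun h _ e => conj_not_rel hO hq ht0 ⟨h, e⟩)]
      rw [hg, hk]; push_cast; ring
    have hND := fun φ (hφ : φ ≠ triv) => sum_N_Dg hO hv hq (φ := φ) hφ
    have hDD : ∑ χ ∈ (S hO)ᶜ, Dg U χ * Dg U χ = ((g : ℤ) * M + k) * M := by
      have htot : ∑ ψ : IrrCharacter U, (deg ψ : ℤ) * deg ψ = Nat.card U := by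
        have h := CfsgLib.Char.sum_sq_degree (G := U)
        simp only [deg_cast, sq] at h
        exact_mod_cast h
      have hsw : ∑ χ ∈ (S hO)ᶜ, Dg U χ * Dg U χ =
          ∑ φ : IrrCharacter U, (deg φ : ℤ) * ∑ χ ∈ (S hO)ᶜ, N φ χ * Dg U χ := by
        simp only [Finset.mul_sum]
        rw [Finset.sum_comm]
        refine Finset.sum_congr rfl fun χ _ => ?_
        conv_lhs => enter [1]; rw [Dg]
        rw [Finset.sum_mul]
        exact Finset.sum_congr rfl fun ψ _ => by ring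
      rw [hsw, ← Finset.add_sum_erase _ _ (Finset.mem_univ (triv : IrrCharacter U)),
        Finset.sum_eq_zero (s := (S hO)ᶜ) (fun χ hχ => by rw [N_triv_X hO (Finset.mem_compl.mp hχ), zero_mul]),
        mul_zero, zero_add,
        Finset.sum_congr rfl fun φ hφ => by rw [hND φ (Finset.ne_of_mem_erase hφ), ← hk, ← hg, ← hM, mul_comm (((g : ℤ) * M + k)), ← mul_assoc],
        ← Finset.sum_mul, Finset.sum_erase_eq_sub (Finset.mem_univ _), htot, deg_triv]
      push_cast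
      rw [hM]; ring
    set z : IrrCharacter G → ℤ := fun χ => M * (N t₀ χ + N t₁ χ) - 2 * Dg U χ with hz
    have hzsum : ∑ χ ∈ (S hO)ᶜ, z χ * z χ = 2 * (M * M) - 4 * (k : ℤ) * M := by
      have e : ∀ χ, z χ * z χ = M * M * (N t₀ χ * N t₀ χ) + 2 * (M * M) * (N t₀ χ * N t₁ χ) +
          M * M * (N t₁ χ * N t₁ χ) - 4 * M * (N t₀ χ * Dg U χ) - 4 * M * (N t₁ χ * Dg U χ) +
          4 * (Dg U χ * Dg U χ) := fun χ => by simp only [hz]; ring
      simp only [e, Finset.sum_add_distrib, Finset.sum_sub_distrib, ← Finset.mul_sum]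
      rw [h11 t₀ ht0 htl, h12, h11 t₁ ht1 (by rw [ht₁, deg_conj hO, htl]), hND t₀ ht0, hND t₁ ht1, hDD,
        htl, show deg t₁ = 1 by rw [ht₁, deg_conj hO, htl], ← hk, ← hg, ← hM]
      push_cast
      ring
    have hzR : z R * z R ≤ 2 * (M * M) - 4 * (k : ℤ) * M :=
      hzsum ▸ Finset.single_le_sum (f := fun χ => z χ * z χ) (fun χ _ => mul_self_nonneg _) hRX
    simp only [hz] at hzR
    rw [ht₁, N_conj_of_real hO t₀ hRr, hR1, ← hD] at hzR
    have hk0 : (0 : ℤ) < k := by exact_mod_cast Nat.card_pos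
    have hM0 : 0 ≤ M := le_trans (mul_nonneg (by norm_num) (mul_self_nonneg (k : ℤ))) hMk
    have h12 : 12 * (D * D) ≤ M * M :=
      le_trans (by linarith [hD2] : 12 * (D * D) ≤ 12 * ((k : ℤ) * k) * M)
        (mul_le_mul_of_nonneg_right hMk hM0)
    have hA : M * M + 2 * (D * D) ≤ 4 * (M * D) := by
      nlinarith only [hzR, mul_nonneg hk0.le hM0]
    have hB := mul_le_mul hA hA
      (add_nonneg (mul_self_nonneg M) (mul_nonneg (by norm_num) (mul_self_nonneg D)))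
      (le_trans (add_nonneg (mul_self_nonneg M) (mul_nonneg (by norm_num) (mul_self_nonneg D))) hA)
    nlinarith only [hB, mul_le_mul_of_nonneg_left h12 (mul_self_nonneg M), mul_pos (mul_pos hDpos hDpos) (mul_pos hDpos hDpos)]

end OddInv

end CfsgLib.Zassenhaus
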