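import Cfsg.Agent.Lib.Zassenhaus.SwapInduced
import Cfsg.Agent.Lib.Char.FixedOddDegree
import Cfsg.Agent.Lib.Char.TIVectors
import Cfsg.Agent.Lib.Char.Kernel

/-!
# Sharply triply transitive groups of even degree have a subgroup of index two

A character of odd degree of the two-point stabilizer fixed by a swapping involution induces to the
sum of two irreducible characters, one of which is trivial on the regular normal subgroup of a point
stabilizer.
-/

set_option autoImplicit false
set_option linter.style.haveILetI false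
set_option linter.unusedSectionVars false

open MulAction Cfsg
open scoped ComplexConjugate CfsgLib.Char

namespace CfsgLib.Zassenhaus

variable {G Ω : Type*} [Group G] [MulAction G Ω] [Finite G] (hz : ZG G Ω)
include hz

/-- A two-point stabilizer of order `n - 2` is transitive on the remaining points. -/
theorem D2_transitive {a b : Ω} (hab : a ≠ b) (hcard : Nat.card (D2 G a b) + 2 = Nat.card Ω) {c d : Ω}
    (hca : c ≠ a) (hcb : c ≠ b) (hda : d ≠ a) (hdb : d ≠ b) : ∃ h ∈ D2 G a b, h • c = d := by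
  classical
  haveI := finite_points hz
  let f : D2 G a b → {x : Ω // x ∉ ({a, b} : Set Ω)} := fun h => ⟨(h : G) • c, by
    rintro (e | e)
    · exact hca ((smul_left_cancel_iff (h : G)).mp (e.trans h.2.1.symm))
    · exact hcb ((smul_left_cancel_iff (h : G)).mp (e.trans h.2.2.symm))⟩
  have hf : Function.Injective f := fun h h' e => Subtype.ext
    (eq_of_three hz hab hcb.symm hca.symm ((show (h : G) • a = a from h.2.1).trans h'.2.1.symm)
      ((show (h : G) • b = b from h.2.2).trans h'.2.2.symm) (congrArg Subtype.val e))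
  have hc : Nat.card (D2 G a b) = Nat.card {x : Ω // x ∉ ({a, b} : Set Ω)} := by
    rw [show Nat.card {x : Ω // x ∉ ({a, b} : Set Ω)} = ({a, b} : Set Ω)ᶜ.ncard from Nat.card_coe_set_eq _,
      Set.ncard_compl, Set.ncard_pair hab]
    omega
  obtain ⟨h, hh⟩ := ((Nat.bijective_iff_injective_and_card f).mpr ⟨hf, hc⟩).2 ⟨d, by
    rintro (e | e)
    · exact hda e
    · exact hdb e⟩
  exact ⟨h, h.2, congrArg Subtype.val hh⟩

/-- An involution swapping two points and fixing a third. -/
theorem exists_swap_fix {a b c : Ω} (hab : a ≠ b) (hcard : Nat.card (D2 G a b) + 2 = Nat.card Ω)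
    (hca : c ≠ a) (hcb : c ≠ b) : ∃ s : G, s • a = b ∧ s • b = a ∧ s • c = c ∧ s * s = 1 := by
  obtain ⟨g, hga, hgb⟩ := exists_swapping hz hab
  obtain ⟨h, hh, hhc⟩ := D2_transitive hz hab hcard
    (fun e => hcb ((smul_left_cancel_iff g).mp (e.trans hgb.symm)) : g • c ≠ a)
    (fun e => hca ((smul_left_cancel_iff g).mp (e.trans hga.symm)) : g • c ≠ b) hca hcb
  have ha : (h * g) • a = b := by rw [mul_smul, hga, hh.2]
  have hb : (h * g) • b = a := by rw [mul_smul, hgb, hh.1]
  have hc : (h * g) • c = c := by rw [mul_smul, hhc]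
  exact ⟨h * g, ha, hb, hc, hz.free _ a b c hab hcb.symm hca.symm (by rw [mul_smul, ha, hb])
    (by rw [mul_smul, hb, ha]) (by rw [mul_smul, hc, hc])⟩

/-- The arithmetic of the two constituents. -/
theorem no_two_constituents {q k e p : ℕ} (hp : p.Prime) {m : ℕ} (hq : q = p ^ m) (hm : 0 < m) (hqk : q = k + 1) (he : e ∣ k)
    (hee : e * e < k) (heo : Odd e) {N N' d d' : ℕ} (hN : 0 < N) (hN' : 0 < N') (hsum : N + N' = e)
    (hd : d = e + k * N) (hd' : d' = e + k * N') (hdG : d ∣ (k + 2) * q * k) (hdG' : d' ∣ (k + 2) * q * k) :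
    False := by
  have key : ∀ N N' d : ℕ, 0 < N → 0 < N' → N + N' = e → d = e + k * N → d ∣ (k + 2) * q * k →
      p ∣ N' := by
    intro N N' d hN hN' hsum hd hdG
    by_contra hpn
    have hdq : d = N' + q * N := by rw [hd, hqk]; linarith [add_one_mul k N]
    have hcop : d.Coprime q := by
      rw [hq]
      refine (Nat.Coprime.pow_right m ((Nat.Prime.coprime_iff_not_dvd hp).mpr fun h => hpn ?_).symm)
      rw [hdq] at h
      exact (Nat.dvd_add_left (dvd_mul_of_dvd_left (hq ▸ dvd_pow_self p hm.ne') N)).mp h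
    have h1 : d ∣ (k + 2) * k := hcop.dvd_of_dvd_mul_right (by rwa [mul_right_comm])
    have h2 : (d : ℤ) ∣ (e : ℤ) * ((e : ℤ) - 2 * N) := by
      have h3 : (d : ℤ) ∣ (N : ℤ) * N * ((k + 2) * k) := dvd_mul_of_dvd_right (by exact_mod_cast h1) _
      have h4 : (N : ℤ) * N * ((k + 2) * k) = (d : ℤ) * ((d : ℤ) - 2 * e + 2 * N) + (e : ℤ) * ((e : ℤ) - 2 * N) := by
        rw [hd]; push_cast; ring
      rw [h4] at h3
      exact (dvd_add_right (dvd_mul_right _ _)).mp h3
    have h5 : ((e : ℤ) * ((e : ℤ) - 2 * N)).natAbs < d := by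
      rw [Int.natAbs_mul, Int.natAbs_natCast]
      have : ((e : ℤ) - 2 * N).natAbs ≤ e := by omega
      calc e * ((e : ℤ) - 2 * N).natAbs ≤ e * e := Nat.mul_le_mul_left _ this
        _ < k := hee
        _ ≤ d := by rw [hd]; nlinarith
    have h6 := Int.eq_zero_of_dvd_of_natAbs_lt_natAbs h2 (by rwa [Int.natAbs_natCast])
    rcases mul_eq_zero.mp h6 with h | h
    · omega
    · exact (Nat.not_even_iff_odd.mpr heo) ⟨N, by omega⟩
  have h := dvd_add (key N N' d hN hN' hsum hd hdG) (key N' N d' hN' hN (by omega) hd' hdG')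
  rw [show N' + N = e by omega] at h
  have h1 : p ∣ k + 1 := hqk ▸ hq ▸ dvd_pow_self p hm.ne'
  exact hp.one_lt.ne' (Nat.dvd_one.mp ((Nat.dvd_add_right (h.trans he)).mp h1))

/-- A sharply triply transitive group of even degree has a subgroup of index two which does not
contain the two-point stabilizers. -/
theorem exists_index_two {a b : Ω} (hab : a ≠ b) (hcard : Nat.card (D2 G a b) + 2 = Nat.card Ω)
    (heven : Even (Nat.card Ω)) :
    ∃ M : Subgroup G, M.Normal ∧ M.index = 2 ∧ ¬ D2 G a b ≤ M := by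
  classical
  haveI := finite_points hz
  haveI := Fintype.ofFinite G
  haveI := Fintype.ofFinite Ω
  have hn3 := hz.three
  set H := D2 G a b with hH
  set X := stabilizer G a with hX
  set k := Nat.card H with hk
  have hkeven : Even k := (Nat.even_add.mp (hcard.symm ▸ heven)).mpr even_two
  have hk1 : 1 < k := by rcases hkeven with ⟨r, hr⟩; omega
  have hHne : H ≠ ⊥ := fun h => by rw [hk, h, Subgroup.card_bot] at hk1; omega
  obtain ⟨U, hU⟩ := exists_regKernel hz hab hHne
  have hb : b ≠ a := hab.symm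
  have hS := hU.setting hz hb
  haveI := Fintype.ofFinite U
  haveI := Fintype.ofFinite H
  haveI := Fintype.ofFinite X
  haveI := hU.nil
  set q := Nat.card U with hq
  have hqk : q = k + 1 := by rw [hq, hU.card_eq hz hb]; omega
  -- `H` is transitive on the nonidentity elements of `U`
  have hconj : ∀ u ∈ U, u ≠ 1 → ∀ w ∈ U, w ≠ 1 → ∃ h ∈ H, h * u * h⁻¹ = w := by
    intro u hu hu1 w hw hw1
    obtain ⟨h, hh, he⟩ := D2_transitive hz hab hcard
      (hU.ne_base hz hu hb) (fun e => hu1 (hU.free hz hu hb e))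
      (hU.ne_base hz hw hb) (fun e => hw1 (hU.free hz hw hb e))
    refine ⟨h, hh, congrArg Subtype.val ((hU.reg b _ hb (hU.ne_base hz hw hb)).unique
      (y₁ := ⟨h * u * h⁻¹, hS.norm h hh u hu⟩) (y₂ := ⟨w, hw⟩) ?_ rfl)⟩
    show (h * u * h⁻¹) • b = w • b
    rw [mul_smul, mul_smul, inv_smul_eq_iff.mpr hh.2.symm, he]
  have hUne : U ≠ ⊥ := hS.ne_bot
  haveI hUnt : Nontrivial U := U.nontrivial_iff_ne_bot.mpr hUne
  obtain ⟨p, hp, hpd⟩ := Nat.exists_prime_and_dvd (show q ≠ 1 by omega)
  haveI : Fact p.Prime := ⟨hp⟩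
  obtain ⟨u₁, hu₁⟩ := exists_prime_orderOf_dvd_card' (G := U) p hpd
  have hu₁1 : (u₁ : G) ≠ 1 := fun h => by
    rw [← Subgroup.orderOf_coe, h, orderOf_one] at hu₁; exact hp.one_lt.ne hu₁
  have hUp : IsPGroup p U := fun u => ⟨1, by
    by_cases hu : (u : G) = 1
    · exact Subtype.ext (by simp [hu])
    obtain ⟨h, -, he⟩ := hconj u₁ u₁.2 hu₁1 u u.2 hu
    refine Subtype.ext ?_
    rw [Subgroup.coe_pow, pow_one, ← he, conj_pow, ← hu₁, ← Subgroup.orderOf_coe, pow_orderOf_eq_one]
    simp⟩
  obtain ⟨m, hqm⟩ := hUp.exists_card_eq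
  have hm : 0 < m := Nat.pos_of_ne_zero fun h => by rw [h, pow_zero] at hqm; omega
  -- a nontrivial linear character of `U`
  obtain ⟨ψ, hψ⟩ : ∃ ψ : U →* ℂˣ, ψ ≠ 1 := by
    have hlt : commutator U ≠ ⊤ := (IsSolvable.commutator_lt_top_of_nontrivial U).ne
    haveI : Nontrivial (Abelianization U) := (QuotientGroup.nontrivial_iff.mpr hlt : Nontrivial (U ⧸ commutator U))
    obtain ⟨x, hx⟩ := exists_ne (1 : Abelianization U)
    obtain ⟨f, hf⟩ := CommGroup.exists_apply_ne_one_of_hasEnoughRootsOfUnity (Abelianization U) ℂ hx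
    obtain ⟨y, rfl⟩ := QuotientGroup.mk_surjective x
    exact ⟨f.comp Abelianization.of, fun e => hf (DFunLike.congr_fun e y)⟩
  have hψsum : ∑ u : U, ((ψ u : ℂ)) = 0 := by
    have h := sum_hom_units_eq_zero (Units.coeHom ℂ |>.comp ψ) (fun e => hψ (MonoidHom.ext fun u =>
      Units.ext (DFunLike.congr_fun e u)))
    exact h
  -- the swapping involution
  obtain ⟨c, hca, hcb⟩ := exists_third hz a b
  obtain ⟨s, hsa, hsb, hsc, hs2⟩ := exists_swap_fix hz hab hcard hca hcb
  have hsi : s⁻¹ = s := inv_eq_of_mul_eq_one_right hs2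
  have hs1 : s ≠ 1 := fun h => hab (by rw [h, one_smul] at hsa; exact hsa)
  have hsH : ∀ h ∈ H, s * h * s ∈ H := fun h hh => mem_D2.mpr
    ⟨by rw [mul_smul, mul_smul, hsa, show h • b = b from hh.2, hsb],
     by rw [mul_smul, mul_smul, hsb, show h • a = a from hh.1, hsa]⟩
  have hss : ∀ h : G, s * (s * h * s) * s = h := fun h => by
    calc s * (s * h * s) * s = (s * s) * h * (s * s) := by group
      _ = h := by rw [hs2, one_mul, mul_one]
  let θ : H ≃* H :=
    { toFun := fun h => ⟨s * h * s, hsH h h.2⟩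
      invFun := fun h => ⟨s * h * s, hsH h h.2⟩
      left_inv := fun h => Subtype.ext (hss h)
      right_inv := fun h => Subtype.ext (hss h)
      map_mul' := fun x y => Subtype.ext (by
        show s * ((x : G) * y) * s = s * x * s * (s * y * s)
        calc s * ((x : G) * y) * s = s * x * 1 * y * s := by group
          _ = s * x * (s * s) * y * s := by rw [hs2]
          _ = _ := by group) }
  obtain ⟨l, e, hle, heo, hlθ, hl1, hek, hee⟩ := CfsgLib.Char.exists_fixed_odd_degree hkeven θ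
    (fun h => Subtype.ext (hss h))
  obtain ⟨π, hπH, hπU, hπs⟩ := exists_projection hz hU hb
  set L : X → ℂ := fun x => (l : H → ℂ) (π x) with hL
  have hLirr : IsIrrCharacter X L := CfsgLib.Blocks.isIrrCharacter_comp_of_surjective l.2 π hπs
  have hLchar := CfsgLib.Char.isCharacter_of_isIrr hLirr
  have hLcl := CfsgLib.Char.isClassFunction_of_isCharacter hLchar
  have hLU : ∀ x : X, (x : G) ∈ U → L x = e := fun x hx => by simp only [hL, hπU x hx, hle]
  have hLcoe : ∀ (x : X) (h : H), (x : G) = h → L x = (l : H → ℂ) h := fun x h e => by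
    simp only [hL, hπH x h e]
  set I := indFun X L with hI
  have hIcl := CfsgLib.Char.isClassFunction_indFun X L
  have hIform : ∀ g, I g = extendByZero X L g +
      ∑ u : U, extendByZero X L (((u : G) * s)⁻¹ * g * ((u : G) * s)) := indFun_stab_eq hz hU hb L hLcl hsa
  -- which conjugates of an element of the stabilizer lie in it
  have hmemX : ∀ (u : U) (g : G), g ∈ X → ((u : G) * s)⁻¹ * g * ((u : G) * s) ∈ X →
      (u : G)⁻¹ * g * u ∈ H := by
    intro u g hg hgu
    refine mem_D2.mpr ⟨?_, ?_⟩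
    · have hua : (u : G) • a = a := hU.le u.2
      rw [mul_smul, mul_smul, hua, show g • a = a from hg, inv_smul_eq_iff, hua]
    · have := show _ • a = a from hgu
      simp only [mul_smul, hsa, mul_inv_rev, hsi] at this
      rw [mul_smul, mul_smul]
      have h' := congrArg (s • ·) this
      simpa [smul_smul, ← mul_assoc, hs2, hsa] using h'
  have hXmul : (Nat.card X : ℂ) = (q : ℂ) * k := by
    rw [hX, card_stab hz hab, hq, hU.card_eq hz hb, ← hk]; push_cast; ring
  have hkC : (k : ℂ) ≠ 0 := Nat.cast_ne_zero.mpr (by omega)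
  have hqC : (q : ℂ) ≠ 0 := Nat.cast_ne_zero.mpr (by omega)
  -- norm two
  have hnorm : classInner I I = 2 := by
    conv_lhs => arg 1; rw [hI]
    rw [CfsgLib.Char.frobenius_reciprocity X L hIcl]
    have hB : ∀ u : U, ∑ x : X, L x * conj (extendByZero X L (((u : G) * s)⁻¹ * x * ((u : G) * s))) =
        (k : ℂ) := by
      intro u
      have hin : ∀ y : H, (u : G) * y * (u : G)⁻¹ ∈ X := fun y =>
        X.mul_mem (X.mul_mem (hU.le u.2) y.2.1) (X.inv_mem (hU.le u.2))
      have hl : ∑ y : H, (l : H → ℂ) y * conj ((l : H → ℂ) y) = (k : ℂ) := by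
        have := CfsgLib.Char.classInner_irr_self l.2
        rwa [classInner, inv_mul_eq_iff_eq_mul₀ (Nat.cast_ne_zero.mpr Nat.card_pos.ne'), mul_one] at this
      rw [← hl]
      refine (Fintype.sum_of_injective (fun y : H => (⟨_, hin y⟩ : X)) (fun y y' h => ?_) _ _
        (fun x hx => ?_) fun y => ?_).symm
      · exact Subtype.ext (mul_left_cancel (mul_right_cancel (congrArg Subtype.val h)))
      · by_cases hm : ((u : G) * s)⁻¹ * x * ((u : G) * s) ∈ X
        · exact absurd ⟨⟨_, hmemX u x x.2 hm⟩, Subtype.ext (by simp [mul_assoc])⟩ hx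
        · rw [CfsgLib.Char.extendByZero_notMem X L hm, map_zero, mul_zero]
      · have e1 : ((u : G) * s)⁻¹ * ((u : G) * y * (u : G)⁻¹) * ((u : G) * s) = ((θ y : H) : G) := by
          show _ = s * (y : G) * s
          rw [mul_inv_rev, hsi]; group
        rw [e1, CfsgLib.Char.extendByZero_mem X L (θ y).2.1, hLcoe ⟨((θ y : H) : G), (θ y).2.1⟩ (θ y) rfl, hlθ]
        congr 1
        have hu' : L ⟨_, hin y⟩ = L ⟨(y : G), y.2.1⟩ := hLcl ⟨(y : G), y.2.1⟩ ⟨(u : G), hU.le u.2⟩
        rw [hu', hLcoe _ y rfl]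
    have hLL : ∑ x : X, L x * conj (L x) = (Nat.card X : ℂ) := by
      have := CfsgLib.Char.classInner_irr_self hLirr
      rwa [classInner, inv_mul_eq_iff_eq_mul₀ (Nat.cast_ne_zero.mpr Nat.card_pos.ne'), mul_one] at this
    rw [classInner]
    simp only [← hI, hIform, map_add, map_sum, mul_add, Finset.mul_sum, CfsgLib.Char.extendByZero_coe,
      Finset.sum_add_distrib]
    rw [← Finset.mul_sum, hLL, Finset.sum_comm]
    simp only [← Finset.mul_sum, hB, Finset.sum_const, Finset.card_univ, nsmul_eq_mul,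
      ← Nat.card_eq_fintype_card (α := U), ← hq, hXmul]
    field_simp
    norm_num
  -- two constituents
  have hIchar := CfsgLib.Char.isCharacter_indFun X hLchar
  obtain ⟨mult, hmult⟩ := CfsgLib.Char.exists_multiplicities hIchar
  have hmult' : I = ∑ χ : IrrCharacter G, (mult χ : ℂ) • (χ : G → ℂ) := hmult
  have hsq : ∑ χ : IrrCharacter G, (mult χ : ℤ) * mult χ = 2 := by
    rw [hmult', CfsgLib.Char.classInner_sum_smul_sum_smul] at hnorm
    simp only [Complex.conj_natCast] at hnorm
    exact_mod_cast hnorm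
  obtain ⟨χ₁, χ₂, h12, hsupp⟩ := Finset.card_eq_two.mp (CfsgLib.Char.TIVectors.card_supp hsq)
  have hm1 : ∀ χ, mult χ = if χ = χ₁ ∨ χ = χ₂ then 1 else 0 := by
    intro χ
    have h01 := CfsgLib.Char.TIVectors.abs_le_one (D := fun χ => (mult χ : ℤ)) (by rw [hsq]; norm_num) χ
    have hiff := Finset.ext_iff.mp hsupp χ
    simp only [Finset.mem_filter, Finset.mem_univ, true_and, Finset.mem_insert, Finset.mem_singleton,
      ne_eq, Nat.cast_eq_zero] at hiff
    split_ifs with h
    · have := hiff.mpr h; omega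
    · exact not_not.mp fun h' => h (hiff.mp h')
  have hIsum : ∀ g, I g = (χ₁ : G → ℂ) g + (χ₂ : G → ℂ) g := by
    intro g
    rw [hmult', Finset.sum_apply, ← Finset.sum_subset (Finset.subset_univ ({χ₁, χ₂} : Finset _)),
      Finset.sum_pair h12]
    · simp [hm1]
    · intro χ _ h
      simp only [Finset.mem_insert, Finset.mem_singleton] at h
      simp [hm1, h]
  -- values on `U`
  obtain ⟨⟨u₀, hu₀⟩, hu₀1⟩ := exists_ne (1 : U)
  have hu₀1' : u₀ ≠ 1 := fun h => hu₀1 (Subtype.ext h)
  have hI1 : I 1 = ((k : ℂ) + 2) * e := by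
    rw [hI, CfsgLib.Char.indFun_one]
    haveI := transitive hz
    have hidx : X.index = Nat.card Ω := index_stabilizer_of_transitive G a
    rw [hidx, ← hcard, hLU 1 U.one_mem]
    push_cast; ring
  have hIu : I u₀ = e := by
    rw [hIform, CfsgLib.Char.extendByZero_mem X L (hU.le hu₀), hLU _ hu₀, Finset.sum_eq_zero, add_zero]
    intro u _
    refine CfsgLib.Char.extendByZero_notMem X L fun hm => ?_
    have h1 := hS.inter (U.mul_mem (U.mul_mem (U.inv_mem u.2) hu₀) u.2) (hmemX u u₀ (hU.le hu₀) hm)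
    refine hu₀1' ?_
    calc u₀ = u * ((u : G)⁻¹ * u₀ * u) * (u : G)⁻¹ := by group
      _ = 1 := by rw [h1]; group
  have hconst : ∀ χ : IrrCharacter G, ∀ u ∈ U, u ≠ 1 → (χ : G → ℂ) u = (χ : G → ℂ) u₀ := by
    intro χ u hu hu1
    obtain ⟨h, -, he⟩ := hconj u₀ hu₀ hu₀1' u hu hu1
    rw [← he, CfsgLib.Char.isClassFunction_irr χ u₀ h]
  -- the two multiplicities in the restriction to `U`
  have hdata : ∀ χ : IrrCharacter G, χ = χ₁ ∨ χ = χ₂ → ∃ d z N : ℕ, (χ : G → ℂ) 1 = d ∧ d ∣ Nat.card G ∧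
      (q : ℂ) * z = d + k * (χ : G → ℂ) u₀ ∧ (q : ℂ) * N = d - (χ : G → ℂ) u₀ ∧ e ≤ z ∧
      classInner L (fun x : X => (χ : G → ℂ) x) = 1 := by
    intro χ hχ
    obtain ⟨d, hd, -, hdG⟩ := CfsgLib.Char.exists_degree_dvd_card χ.2
    have hχc := CfsgLib.Char.isCharacter_of_isIrr χ.2
    have hresU : ∀ f : U → ℂ, f 1 = 1 → (q : ℂ) * classInner (fun u : U => (χ : G → ℂ) u) f =
        d + (χ : G → ℂ) u₀ * (conj (∑ u : U, f u) - 1) := by
      intro f hf
      rw [classInner, ← mul_assoc, mul_inv_cancel₀ hqC, one_mul, map_sum,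
        ← Finset.add_sum_erase _ _ (Finset.mem_univ (1 : U)),
        ← Finset.add_sum_erase _ _ (Finset.mem_univ (1 : U)), hf, map_one, mul_one, add_sub_cancel_left,
        Finset.mul_sum, OneMemClass.coe_one, hd]
      congr 1
      refine Finset.sum_congr rfl fun u hu => ?_
      rw [hconst χ u u.2 (fun h => (Finset.ne_of_mem_erase hu) (Subtype.ext h))]
    obtain ⟨z, hz'⟩ := CfsgLib.Char.exists_nat_classInner (CfsgLib.Char.isCharacter_restrict U hχc)
      (CfsgLib.Char.isCharacter_one (G := U))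
    obtain ⟨N, hN⟩ := CfsgLib.Char.exists_nat_classInner (CfsgLib.Char.isCharacter_restrict U hχc)
      (CfsgLib.Char.isCharacter_monoidHom ψ)
    have hin : classInner L (fun x : X => (χ : G → ℂ) x) = 1 := by
      rw [← CfsgLib.Char.frobenius_reciprocity X L (CfsgLib.Char.isClassFunction_irr χ), ← hI, hmult',
        CfsgLib.Char.classInner_sum_smul_irr, hm1, if_pos hχ, Nat.cast_one]
    refine ⟨d, z, N, hd, hdG, ?_, ?_, ?_, hin⟩
    · rw [← hz', hresU (fun _ => 1) rfl]
      simp only [Finset.sum_const, Finset.card_univ, nsmul_eq_mul, mul_one, map_natCast,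
        ← Nat.card_eq_fintype_card, ← hq, hqk]
      push_cast; ring
    · rw [← hN, hresU (fun u => ((ψ u : ℂ))) (by simp), hψsum, map_zero]
      ring
    · obtain ⟨mu, hmu⟩ := CfsgLib.Char.exists_multiplicities (CfsgLib.Char.isCharacter_restrict X hχc)
      set LX : IrrCharacter X := ⟨L, hLirr⟩
      have hmL : mu LX = 1 := by
        have h := hin
        rw [← CfsgLib.Char.classInner_conj_symm, hmu] at h
        rw [show L = (LX : X → ℂ) from rfl, CfsgLib.Char.classInner_sum_smul_irr, Complex.conj_natCast] at h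
        exact_mod_cast h
      have hUX : U ≤ X := hU.le
      let ι : U →* X := Subgroup.inclusion hUX
      choose n hn using fun φ : IrrCharacter X => CfsgLib.Char.exists_nat_classInner
        (CfsgLib.Char.isCharacter_comp ι (CfsgLib.Char.isCharacter_of_isIrr φ.2))
        (CfsgLib.Char.isCharacter_one (G := U))
      have hze : (z : ℂ) = ∑ φ : IrrCharacter X, (mu φ : ℂ) * n φ := by
        rw [← hz', show (fun u : U => (χ : G → ℂ) u) =
          ∑ φ : IrrCharacter X, (mu φ : ℂ) • (fun u : U => (φ : X → ℂ) (ι u)) from funext fun u => by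
            have := congrFun hmu (ι u)
            simp only [Finset.sum_apply, Pi.smul_apply] at this ⊢
            exact this, CfsgLib.Char.classInner_sum_left]
        refine Finset.sum_congr rfl fun φ _ => ?_
        rw [CfsgLib.Char.classInner_smul_left]
        exact congrArg _ (hn φ)
      have hnL : n LX = e := by
        have h := (hn LX).symm
        rw [classInner, Finset.sum_congr rfl fun u _ => (by
          show (LX : X → ℂ) (ι u) * conj (1 : ℂ) = (e : ℂ)
          rw [map_one, mul_one]; exact hLU (ι u) u.2 : _ = (fun _ : U => (e : ℂ)) u)] at h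
        rw [Finset.sum_const, Finset.card_univ, nsmul_eq_mul, ← Nat.card_eq_fintype_card,
          inv_mul_cancel_left₀ (Nat.cast_ne_zero.mpr Nat.card_pos.ne')] at h
        exact_mod_cast h
      have hze' : z = ∑ φ : IrrCharacter X, mu φ * n φ := by exact_mod_cast hze
      have := Finset.single_le_sum (f := fun φ => mu φ * n φ) (fun _ _ => Nat.zero_le _) (Finset.mem_univ LX)
      rw [hmL, hnL, one_mul] at this
      omega
  obtain ⟨d₁, z₁, N₁, hd₁, hdG₁, hz₁, hN₁, hez₁, hin₁⟩ := hdata χ₁ (Or.inl rfl)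
  obtain ⟨d₂, z₂, N₂, hd₂, hdG₂, hz₂, hN₂, hez₂, hin₂⟩ := hdata χ₂ (Or.inr rfl)
  rw [hIsum, hd₁, hd₂] at hI1
  rw [hIsum] at hIu
  have hqk' : (q : ℂ) = k + 1 := by exact_mod_cast hqk
  have hzsum : z₁ + z₂ = 2 * e := by
    have h : (q : ℂ) * (z₁ + z₂) = (q : ℂ) * (2 * e) := by
      rw [mul_add, hz₁, hz₂, hqk']; linear_combination hI1 + (k : ℂ) * hIu
    exact_mod_cast mul_left_cancel₀ hqC h
  have hNsum : N₁ + N₂ = e := by
    have h : (q : ℂ) * (N₁ + N₂) = (q : ℂ) * e := by
      rw [mul_add, hN₁, hN₂, hqk']; linear_combination hI1 - hIu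
    exact_mod_cast mul_left_cancel₀ hqC h
  have hdeg : ∀ {d z N : ℕ} {w : ℂ}, (q : ℂ) * z = d + k * w → (q : ℂ) * N = d - w → z = e →
      d = e + k * N ∧ (N = 0 → w = d) := by
    intro d z N w h1 h2 hze
    refine ⟨?_, fun h0 => ?_⟩
    · have h : (q : ℂ) * d = (q : ℂ) * (e + k * N) := by
        rw [← hze]
        linear_combination (d : ℂ) * hqk' - h1 - (k : ℂ) * h2
      exact_mod_cast mul_left_cancel₀ hqC h
    · rw [h0, Nat.cast_zero, mul_zero] at h2
      linear_combination h2
  obtain ⟨hd₁', hw₁⟩ := hdeg hz₁ hN₁ (by omega)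
  obtain ⟨hd₂', hw₂⟩ := hdeg hz₂ hN₂ (by omega)
  have hGcard : Nat.card G = (k + 2) * q * k := by
    rw [card_group hz hab, hqk, ← hk, ← hcard]; rfl
  obtain ⟨χ, d, hχd, hχu, hin⟩ : ∃ (χ : IrrCharacter G) (d : ℕ), (χ : G → ℂ) 1 = d ∧ (χ : G → ℂ) u₀ = d ∧
      classInner L (fun x : X => (χ : G → ℂ) x) = 1 := by
    rcases Nat.eq_zero_or_pos N₁ with h | h
    · exact ⟨χ₁, d₁, hd₁, hw₁ h, hin₁⟩
    rcases Nat.eq_zero_or_pos N₂ with h' | h'
    · exact ⟨χ₂, d₂, hd₂, hw₂ h', hin₂⟩
    exact (no_two_constituents hz hp (hq ▸ hqm) hm hqk hek hee heo h h' hNsum hd₁' hd₂'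
      (hGcard ▸ hdG₁) (hGcard ▸ hdG₂)).elim
  obtain ⟨K, hKn, hKmem, hKmul⟩ := CfsgLib.Char.exists_kernel (CfsgLib.Char.isCharacter_of_isIrr χ.2)
  have hUK : U ≤ K := fun u hu => (hKmem u).mpr (by
    by_cases h : u = 1
    · rw [h]
    · rw [hconst χ u hu h, hχu, hχd])
  have hKtop : K ≠ ⊤ := by
    intro h
    let one : IrrCharacter X := ⟨fun _ => 1, CfsgLib.Char.isIrrCharacter_one⟩
    have hne : (⟨L, hLirr⟩ : IrrCharacter X) ≠ one := fun e' => hl1 (funext fun h' => by
      have h0 : L ⟨(h' : G), h'.2.1⟩ = 1 := congrFun (congrArg Subtype.val e') ⟨(h' : G), h'.2.1⟩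
      rwa [hLcoe _ h' rfl] at h0)
    have e0 : (fun x : X => (χ : G → ℂ) x) = (χ : G → ℂ) 1 • (one : X → ℂ) := funext fun x => by
      rw [(hKmem (x : G)).mp (h ▸ Subgroup.mem_top _)]
      simp [one]
    rw [e0, CfsgLib.Char.classInner_smul_right, show L = ((⟨L, hLirr⟩ : IrrCharacter X) : X → ℂ) from rfl,
      CfsgLib.Char.classInner_coe, if_neg hne, mul_zero] at hin
    exact zero_ne_one hin
  -- `G = K H`
  have hKH : ∀ g : G, ∃ h ∈ H, h⁻¹ * g ∈ K ∧ g * h⁻¹ ∈ K := by
    have hb' : ∀ u ∈ U, s * u * s ∈ K := fun u hu => by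
      have := hKn.conj_mem u (hUK hu) s
      rwa [hsi] at this
    have hmove : ∀ x : Ω, x ≠ b → ∃ r ∈ K, r • a = x := by
      intro x hxb
      have hsx : s • x ≠ a := fun e' => hxb (by
        rw [← hsa, ← e', smul_smul, hs2, one_smul])
      obtain ⟨⟨u, hu⟩, hub, -⟩ := hU.reg b (s • x) hb hsx
      refine ⟨s * u * s, hb' u hu, ?_⟩
      rw [mul_smul, mul_smul, hsa, show u • b = s • x from hub, smul_smul, hs2, one_smul]
    intro g
    obtain ⟨r, hr, hra⟩ : ∃ r ∈ K, r • a = g • a := by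
      by_cases hgb : g • a = b
      · obtain ⟨r, hr, hra⟩ := hmove c hcb
        obtain ⟨⟨u, hu⟩, hub, -⟩ := hU.reg c b hca hb
        exact ⟨u * r, K.mul_mem (hUK hu) hr, by rw [mul_smul, hra, hgb]; exact hub⟩
      · exact hmove _ hgb
    obtain ⟨u, hu, σ, hσ, e'⟩ := hU.factor hz
      (show (r⁻¹ * g) • a = a by rw [mul_smul, ← hra, inv_smul_smul]) hb
    have hg : g = r * u * σ := by rw [mul_assoc, ← e', mul_inv_cancel_left]
    refine ⟨σ, hσ, ?_, ?_⟩
    · have := hKn.conj_mem _ (K.mul_mem hr (hUK hu)) σ⁻¹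
      rw [inv_inv] at this
      rwa [hg, ← mul_assoc σ⁻¹]
    · rw [hg, mul_inv_cancel_right]
      exact K.mul_mem hr (hUK hu)
  haveI := hKn
  let π' := QuotientGroup.mk' K
  haveI : Finite (G ⧸ K) := inferInstance
  haveI := Fintype.ofFinite (G ⧸ K)
  have hQnt : Nontrivial (G ⧸ K) := QuotientGroup.nontrivial_iff.mpr hKtop
  set t := π' s with ht
  have ht2 : t * t = 1 := by rw [ht, ← map_mul, hs2, map_one]
  -- the centralizer of `t` has order at most two
  have hcent : Nat.card (Subgroup.centralizer ({t} : Set (G ⧸ K))) ≤ 2 := by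
    set cls := Finset.univ.filter fun y : G ⧸ K => IsConj y t with hcls
    have hsurj : ∀ y : G ⧸ K, ∃ h : H, π' h = y := fun y => by
      obtain ⟨g, rfl⟩ := QuotientGroup.mk'_surjective K y
      obtain ⟨h, hh, hk', -⟩ := hKH g
      exact ⟨⟨h, hh⟩, QuotientGroup.eq.mpr hk'⟩
    set Hf : Finset G := Finset.univ.filter fun h => h ∈ H with hHf
    have hHfc : Hf.card = k := by rw [hk, Nat.card_eq_fintype_card, Fintype.card_subtype]
    set B := Hf.image fun h => h * s * h⁻¹ with hB'
    have h1 : k ≤ 2 * B.card := by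
      rw [← hHfc]
      refine (Finset.card_le_mul_card_image _ 2 fun y hy => ?_)
      obtain ⟨h₀, hh₀, rfl⟩ := Finset.mem_image.mp hy
      simp only [hHf, Finset.mem_filter, Finset.mem_univ, true_and] at hh₀
      by_contra hgt
      push Not at hgt
      obtain ⟨h₁, h₂, h₃, m1, m2, m3, n12, n13, n23⟩ := Finset.two_lt_card_iff.mp hgt
      have hpt : ∀ h : G, h ∈ (Hf.filter fun x => x * s * x⁻¹ = h₀ * s * h₀⁻¹) →
          h ∈ H ∧ (h₀ * s * h₀⁻¹) • h • c = h • c := by
        intro h hh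
        simp only [hHf, Finset.mem_filter, Finset.mem_univ, true_and] at hh
        refine ⟨hh.1, ?_⟩
        rw [← hh.2, smul_smul, inv_mul_cancel_right, mul_smul, hsc]
      have hne : ∀ h h' : G, h ∈ H → h' ∈ H → h ≠ h' → h • c ≠ h' • c := fun h h' hh hh' hne e' =>
        hne (eq_of_three hz hab hcb.symm hca.symm ((show h • a = a from hh.1).trans hh'.1.symm)
          ((show h • b = b from hh.2).trans hh'.2.symm) e')
      obtain ⟨p1, q1⟩ := hpt h₁ m1
      obtain ⟨p2, q2⟩ := hpt h₂ m2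
      obtain ⟨p3, q3⟩ := hpt h₃ m3
      exact hs1 (conj_eq_one_iff.mp (hz.free _ _ _ _ (hne _ _ p1 p2 n12) (hne _ _ p2 p3 n23)
        (hne _ _ p1 p3 n13) q1 q2 q3))
    have hmapB : ∀ y ∈ B, π' y ∈ cls := by
      intro y hy
      obtain ⟨h, -, rfl⟩ := Finset.mem_image.mp hy
      simp only [hcls, Finset.mem_filter, Finset.mem_univ, true_and]
      exact (isConj_iff.mpr ⟨π' h, by simp [ht]⟩ : IsConj t _).symm
    have h2 : B.card ≤ (Hf.filter fun h => π' h = 1).card * cls.card := by
      refine Finset.card_le_mul_card_image_of_maps_to hmapB _ fun y _ => ?_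
      by_cases hne : (B.filter fun x => π' x = y).Nonempty
      · obtain ⟨x₀, hx₀⟩ := hne
        refine Finset.card_le_card_of_injOn (fun x => x * x₀⁻¹) (fun x hx => ?_)
          fun x _ x' _ h => mul_right_cancel h
        simp only [Finset.coe_filter, Set.mem_setOf_eq, Finset.mem_filter] at hx hx₀
        simp only [hHf, Finset.coe_filter, Set.mem_setOf_eq, Finset.mem_filter, Finset.mem_univ, true_and]
        refine ⟨?_, by rw [map_mul, map_inv, hx.2, hx₀.2, mul_inv_cancel]⟩
        have hsw : ∀ x ∈ B, x • a = b ∧ x • b = a := by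
          intro x hx
          obtain ⟨h, hh, rfl⟩ := Finset.mem_image.mp hx
          simp only [hHf, Finset.mem_filter, Finset.mem_univ, true_and] at hh
          rw [mul_smul, mul_smul, inv_smul_eq_iff.mpr hh.1.symm, hsa, show h • b = b from hh.2,
            mul_smul, mul_smul, inv_smul_eq_iff.mpr hh.2.symm, hsb]
          exact ⟨rfl, hh.1⟩
        obtain ⟨e1, e2⟩ := hsw x hx.1
        obtain ⟨e3, e4⟩ := hsw x₀ hx₀.1
        exact mem_D2.mpr ⟨by rw [mul_smul, inv_smul_eq_iff.mpr e4.symm, e2],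
          by rw [mul_smul, inv_smul_eq_iff.mpr e3.symm, e1]⟩
      · rw [Finset.not_nonempty_iff_eq_empty.mp hne, Finset.card_empty]
        exact Nat.zero_le _
    have h3 : k = (Hf.filter fun h => π' h = 1).card * Fintype.card (G ⧸ K) := by
      rw [← hHfc, mul_comm, ← Finset.card_univ (α := G ⧸ K), ← smul_eq_mul, ← Finset.sum_const,
        Finset.card_eq_sum_card_fiberwise (f := π') (t := Finset.univ) fun _ _ => Finset.mem_univ _]
      refine Finset.sum_congr rfl fun y _ => ?_
      obtain ⟨⟨h₀, hh₀⟩, rfl⟩ := hsurj y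
      refine Finset.card_bij (fun h _ => h * h₀⁻¹) (fun h hh => ?_) (fun _ _ _ _ e' => mul_right_cancel e') ?_
      · simp only [hHf, Finset.mem_filter, Finset.mem_univ, true_and] at hh ⊢
        exact ⟨H.mul_mem hh.1 (H.inv_mem hh₀), by rw [map_mul, map_inv, hh.2, mul_inv_cancel]⟩
      · intro h hh
        simp only [hHf, Finset.mem_filter, Finset.mem_univ, true_and] at hh
        refine ⟨h * h₀, ?_, mul_inv_cancel_right _ _⟩
        simp only [hHf, Finset.mem_filter, Finset.mem_univ, true_and]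
        exact ⟨H.mul_mem hh.1 hh₀, by rw [map_mul, hh.2, one_mul]⟩
    have hK0 : 0 < (Hf.filter fun h => π' h = 1).card :=
      Finset.card_pos.mpr ⟨1, by simp [hHf, H.one_mem]⟩
    have h4 : Fintype.card (G ⧸ K) ≤ 2 * cls.card := by
      refine Nat.le_of_mul_le_mul_left ?_ hK0
      rw [← h3]
      calc k ≤ 2 * B.card := h1
        _ ≤ 2 * ((Hf.filter fun h => π' h = 1).card * cls.card) := Nat.mul_le_mul_left _ h2
        _ = _ := by ring
    have h5 := CfsgLib.Char.card_centralizer_mul_index (G := G ⧸ K) t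
    have h6 := CfsgLib.Char.card_isConj_eq_index (G := G ⧸ K) t
    rw [Nat.card_eq_fintype_card, Fintype.card_subtype] at h6
    rw [← h6, Nat.card_eq_fintype_card (α := G ⧸ K), ← hcls] at h5
    by_contra hgt
    push Not at hgt
    have hc0 : 0 < cls.card := Finset.card_pos.mpr ⟨t, by
      simp only [hcls, Finset.mem_filter, Finset.mem_univ, true_and]; exact IsConj.refl t⟩
    have h5' : Nat.card (Subgroup.centralizer ({t} : Set (G ⧸ K))) * cls.card = Fintype.card (G ⧸ K) := by
      exact_mod_cast h5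
    nlinarith
  -- an index two subgroup of the quotient
  haveI : Fact (Nat.Prime 2) := ⟨Nat.prime_two⟩
  obtain ⟨M', hM'n, hM'i⟩ : ∃ M' : Subgroup (G ⧸ K), M'.Normal ∧ M'.index = 2 := by
    by_cases ht1 : t = 1
    · refine ⟨⊥, inferInstance, ?_⟩
      rw [ht1, show Subgroup.centralizer ({1} : Set (G ⧸ K)) = ⊤ from
        SetLike.ext fun g => by simp [Subgroup.mem_centralizer_singleton_iff], Subgroup.card_top] at hcent
      rw [Subgroup.index_bot]
      have := Finite.one_lt_card (α := G ⧸ K)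
      omega
    have hto : orderOf t = 2 := orderOf_eq_prime (by rw [pow_two, ht2]) ht1
    obtain ⟨P, hP⟩ := (IsPGroup.of_card (p := 2) (n := 1) (G := Subgroup.zpowers t)
      (by rw [Nat.card_zpowers, hto, pow_one])).exists_le_sylow
    have htP : t ∈ (P : Subgroup (G ⧸ K)) := hP (Subgroup.mem_zpowers t)
    haveI : Nontrivial P := ⟨⟨⟨t, htP⟩, 1, fun e' => ht1 (congrArg Subtype.val e')⟩⟩
    haveI := P.2.center_nontrivial
    obtain ⟨⟨⟨w, hwP⟩, hwc⟩, hw1⟩ := exists_ne (1 : Subgroup.center P)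
    have hcomm : ∀ x ∈ (P : Subgroup (G ⧸ K)), x * w = w * x := fun x hx =>
      congrArg Subtype.val (Subgroup.mem_center_iff.mp hwc ⟨x, hx⟩)
    have hw : w = t := by
      by_contra hne
      have hw1' : w ≠ 1 := fun e' => hw1 (Subtype.ext (Subtype.ext e'))
      have hsub : ({1, t, w} : Finset (G ⧸ K)) ⊆
          Finset.univ.filter fun x => x ∈ Subgroup.centralizer ({t} : Set (G ⧸ K)) := by
        intro x hx
        simp only [Finset.mem_insert, Finset.mem_singleton] at hx
        simp only [Finset.mem_filter, Finset.mem_univ, true_and, Subgroup.mem_centralizer_singleton_iff]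
        rcases hx with rfl | rfl | rfl
        · rw [one_mul, mul_one]
        · rfl
        · exact (hcomm t htP).symm
      have h3 := Finset.card_le_card hsub
      rw [Finset.card_eq_three.mpr ⟨1, t, w, Ne.symm ht1, Ne.symm hw1', Ne.symm hne, rfl⟩,
        ← Fintype.card_subtype, ← Nat.card_eq_fintype_card] at h3
      omega
    have hP2 : Nat.card P = 2 := by
      refine le_antisymm ((Nat.card_le_card_of_injective (fun x : P => (⟨(x : G ⧸ K),
        Subgroup.mem_centralizer_singleton_iff.mpr (hw ▸ hcomm x x.2)⟩ :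
          Subgroup.centralizer ({t} : Set (G ⧸ K)))) fun x y e' =>
            Subtype.ext (congrArg Subtype.val e' :)).trans hcent) Finite.one_lt_card
    have hmin : (Nat.card (G ⧸ K)).minFac = 2 := by
      rw [Nat.minFac_eq_two_iff]
      exact hP2 ▸ (P : Subgroup (G ⧸ K)).card_subgroup_dvd_card
    haveI : IsCyclic P := isCyclic_of_prime_card (p := 2) hP2
    have hle' := IsCyclic.normalizer_le_centralizer hmin (P := P) inferInstance
    refine ⟨(MonoidHom.transferSylow P hle').ker, inferInstance, ?_⟩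
    rw [(MonoidHom.ker_transferSylow_isComplement' P hle').symm.index_eq_card]
    exact hP2
  refine ⟨M'.comap π', inferInstance, ?_, fun hle' => ?_⟩
  · rw [Subgroup.index_comap_of_surjective _ (QuotientGroup.mk'_surjective K), hM'i]
  · have : M' = ⊤ := eq_top_iff.mpr fun y _ => by
      obtain ⟨g, rfl⟩ := QuotientGroup.mk'_surjective K y
      obtain ⟨h, hh, hk', -⟩ := hKH g
      have : π' h = π' g := QuotientGroup.eq.mpr hk'
      rw [← this]
      exact hle' hh
    rw [this, Subgroup.index_top] at hM'i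
    omega

end CfsgLib.Zassenhaus
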