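import Cfsg.Agent.Lib.Zassenhaus.OddExceptional
import Cfsg.Agent.Lib.Zassenhaus.CubeArith
import Cfsg.Agent.Lib.Zassenhaus.OddKernelMain

/-!
# The regular subgroup does not have cube order

With `|U| = q³`, `q - 1` the order of the two-point stabilizer and at least `q²` linear characters the
degrees outside the principal series contradict their Gram matrix.
-/

set_option autoImplicit false
set_option linter.style.haveILetI false
set_option linter.unusedSectionVars false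

open MulAction Cfsg
open scoped CfsgLib.Char Classical

namespace CfsgLib.Zassenhaus

open CfsgLib.Char.TINilpotent

namespace OddInv

variable {G Ω : Type*} [Group G] [MulAction G Ω] [Fintype G] {a b : Ω} {U : Subgroup G} {v : G}
  [Fintype U] [Fintype (D2 G a b)] [Fintype (stabilizer G a)] (hO : OddInv G Ω a b U v)
include hO

theorem comm_of_cube [IsSimpleGroup G] {n : ℕ} (hk : Nat.card (D2 G a b) + 1 = 2 ^ n)
    (hcard : Nat.card U = (2 ^ n) ^ 3) (hidx : (2 ^ n) ^ 2 ≤ (commutator U).index) :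
    ∀ x y : U, x * y = y * x := by
  by_contra hna
  set hS := hO.hK.setting hO.hz hO.hb with hSdef
  set k := Nat.card (D2 G a b) with hkdef
  set g := k / 2 with hg
  have hk2 : 2 * g + 1 = k := Nat.two_mul_div_two_add_one_of_odd hO.odd
  have hk3 : 3 ≤ k := by
    have : 1 < k := hO.nt
    omega
  have hn2 : 2 ≤ n := by
    by_contra h
    have : 2 ^ n ≤ 2 ^ 1 := Nat.pow_le_pow_right (by norm_num) (by omega)
    omega
  set q := 2 ^ n with hq
  obtain ⟨t₀, h0, hl⟩ := exists_linear hO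
  set L : Finset (IrrCharacter U) := Finset.univ.filter fun θ => θ ≠ triv ∧ deg θ = 1 with hL
  have hLcard : L.card + 1 = (commutator U).index := by
    rw [← linear_count, show L = (Finset.univ.filter fun θ : IrrCharacter U =>
      (θ : U → ℂ) 1 = 1).erase triv by ext θ; simp [hL, deg_eq_one_iff],
      Finset.card_erase_of_mem (by simp [← deg_eq_one_iff, deg_triv]), Nat.sub_add_cancel]
    exact Finset.card_pos.mpr ⟨triv, by simp [← deg_eq_one_iff, deg_triv]⟩
  set A : Finset (IrrCharacter U) := L \ orb hS t₀ with hA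
  have memA : ∀ φ, φ ∈ A ↔ φ ≠ triv ∧ deg φ = 1 ∧ ¬ Rel hS t₀ φ := by
    intro φ; simp [hA, hL, mem_orb, and_assoc]
  have horb : orb hS t₀ ⊆ L := fun φ hφ => Finset.mem_filter.mpr ⟨Finset.mem_univ _,
    fun e => not_rel_triv h0 (e ▸ mem_orb.mp hφ).symm, by rw [(mem_orb.mp hφ).deg_eq, hl]⟩
  have hAcard : k * q ≤ A.card := by
    have h1 := Finset.card_sdiff_of_subset horb
    rw [card_orb hS h0, ← hkdef, ← hA] at h1
    have e : k * q + k + 1 = q ^ 2 := by rw [← hk]; ring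
    omega
  obtain ⟨P, F, hPS, hP, hF, hfib⟩ := exists_exceptional hO h0 hl A memA
    (by rw [← hkdef, ← hg]; exact lt_of_lt_of_le (Nat.mul_lt_mul_of_pos_left (by omega) (by omega)) hAcard)
    (by rw [← hkdef]; exact lt_of_lt_of_le (by nlinarith) hAcard)
  set img := A.image F with himg
  have himgq : q ≤ img.card := Nat.le_of_mul_le_mul_left (hAcard.trans hfib) (by omega)
  have hPimg : P ∉ img := fun h => by
    obtain ⟨s, hs, e⟩ := Finset.mem_image.mp h
    exact (hF s hs).1 e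
  -- the non-linear characters
  have key : ∀ θ : IrrCharacter U, θ ≠ triv → deg θ ≠ 1 →
      (∀ s ∈ A, N θ (F s) = N θ P) ∧ (N θ P ≠ 0 → N θ P * (img.card + 1) ≤ 2 * deg θ) := by
    intro θ hθ hd
    have hnr : ¬ Rel hS t₀ θ := fun h => hd (by rw [h.deg_eq, hl])
    set c := N θ P with hc
    have hVP : V t₀ θ P = c - deg θ := by rw [V, hP, mul_one]
    have hVF : ∀ s ∈ A, V t₀ θ (F s) = c := by
      intro s hs
      obtain ⟨h1, h2, h3, h4, h5, h6⟩ := hF s hs
      obtain ⟨hs0, hsd, hsr⟩ := (memA s).mp hs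
      have hnr2 : ¬ Rel hS θ s := fun h => hd (by rw [← h.deg_eq, hsd])
      have h := V_mul hS h0 hl hsr hnr hnr2
      rw [Finset.sum_eq_add_of_mem P (F s) (Finset.mem_univ _) (Finset.mem_univ _) (Ne.symm h1)
        fun χ _ hχ => by rw [show V t₀ s χ = 0 by rw [V, hsd, h6 χ hχ.1 hχ.2]; simp, mul_zero],
        hVP, show V t₀ s P = -1 by rw [V, hsd, hP, h4]; simp,
        show V t₀ s (F s) = 1 by rw [V, hsd, h3, h5]; simp, hsd] at h
      push_cast at h
      linarith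
    refine ⟨fun s hs => by
      have := hVF s hs
      rw [V, (hF s hs).2.2.1, mul_zero, sub_zero] at this
      exact this, fun hc0 => ?_⟩
    set R := (Finset.univ.erase P) \ img with hR
    have hsub : img ⊆ Finset.univ.erase P := fun χ hχ =>
      Finset.mem_erase.mpr ⟨fun e => hPimg (e ▸ hχ), Finset.mem_univ _⟩
    have hsplit : ∀ f : IrrCharacter G → ℤ, ∑ χ, f χ = f P + (∑ χ ∈ img, f χ + ∑ χ ∈ R, f χ) := fun f => by
      rw [hR, add_comm (∑ χ ∈ img, f χ), Finset.sum_sdiff hsub, Finset.add_sum_erase _ _ (Finset.mem_univ P)]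
    have e1 := V_sq hS h0 hl hθ hnr
    have e2 : ∑ χ : IrrCharacter G, V t₀ θ χ * N t₀ χ = -(deg θ : ℤ) := by
      simp only [V, sub_mul, Finset.sum_sub_distrib, mul_assoc, ← Finset.mul_sum]
      rw [gram_off hS fun h => hnr h.symm, gram_self hS h0, hl]
      push_cast
      ring
    rw [hsplit] at e1 e2
    have hi1 : ∑ χ ∈ img, V t₀ θ χ * V t₀ θ χ = img.card * (c * c) := by
      rw [Finset.sum_congr rfl (g := fun _ => c * c) fun χ hχ => by
        obtain ⟨s, hs, rfl⟩ := Finset.mem_image.mp hχ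
        rw [hVF s hs], Finset.sum_const, nsmul_eq_mul]
    have hi2 : ∑ χ ∈ img, V t₀ θ χ * N t₀ χ = 0 := Finset.sum_eq_zero fun χ hχ => by
      obtain ⟨s, hs, rfl⟩ := Finset.mem_image.mp hχ
      rw [(hF s hs).2.2.1, mul_zero]
    rw [hi1, hVP] at e1
    rw [hi2, hVP, hP] at e2
    have hrest : ∑ χ ∈ R, V t₀ θ χ * N t₀ χ = -c := by linarith
    obtain ⟨χ, hχ, hne⟩ := Finset.exists_ne_zero_of_sum_ne_zero (by rw [hrest]; exact neg_ne_zero.mpr hc0)
    have h1 : 1 ≤ ∑ χ ∈ R, V t₀ θ χ * V t₀ θ χ := by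
      refine le_trans ?_ (Finset.single_le_sum (f := fun χ => V t₀ θ χ * V t₀ θ χ) (fun χ _ => mul_self_nonneg _) hχ)
      have h2 : 0 < V t₀ θ χ * V t₀ θ χ := mul_self_pos.mpr (left_ne_zero_of_mul hne)
      omega
    have hcpos : 0 < c := lt_of_le_of_ne (N_nonneg θ P) (Ne.symm hc0)
    refine le_of_mul_le_mul_left (a := c) ?_ hcpos
    linarith
  -- a character of degree `q`
  obtain ⟨φ, hφ, hφd, hφc⟩ : ∃ φ : IrrCharacter U, φ ≠ triv ∧ deg φ ≠ 1 ∧ N φ P ≠ 0 := by
    by_contra h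
    push Not at h
    exact hna (comm_of_linear h0 (P := P) (by rw [hP]; exact one_ne_zero) fun θ hθ => by
      by_contra hd
      exact hθ (h θ (fun e => hd (by rw [e, deg_triv])) hd))
  have hcpos : 1 ≤ N φ P := by have := N_nonneg φ P; omega
  obtain ⟨hφF, hφb⟩ := key φ hφ hφd
  have hφb' := hφb hφc
  have hdq : q ≤ deg φ := by
    obtain ⟨m, hm, -, hdvd⟩ := CfsgLib.Char.exists_degree_dvd_card φ.2
    rw [deg_cast, Nat.cast_inj] at hm
    rw [hcard, ← hm, hq, ← pow_mul] at hdvd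
    obtain ⟨i, -, hi⟩ := (Nat.dvd_prime_pow Nat.prime_two).mp hdvd
    have h2 : (q : ℤ) + 1 ≤ 2 * deg φ := le_trans (le_trans (by exact_mod_cast Nat.add_le_add_right himgq 1 :
      (q : ℤ) + 1 ≤ (img.card : ℤ) + 1) (le_mul_of_one_le_left (by positivity) hcpos)) hφb'
    rw [hi] at h2 ⊢
    have h3 : 2 ^ n < 2 ^ (i + 1) := by
      rw [pow_succ']
      have : ((2 ^ n + 1 : ℕ) : ℤ) ≤ ((2 * 2 ^ i : ℕ) : ℤ) := by push_cast; exact_mod_cast h2
      omega
    exact Nat.pow_le_pow_right (by norm_num) (Nat.lt_succ_iff.mp ((Nat.pow_lt_pow_iff_right (by norm_num)).mp h3))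
  have htot : ∑ θ : IrrCharacter U, deg θ * deg θ = q ^ 3 := by
    have h := CfsgLib.Char.sum_sq_degree (G := U)
    simp only [deg_cast, sq] at h
    rw [← hcard]
    exact_mod_cast h
  set O := orb hS φ with hOd
  have hOcard : O.card = k := card_orb hS hφ
  have hLO : Disjoint L O := Finset.disjoint_left.mpr fun θ h1 h2 =>
    hφd (by rw [← (mem_orb.mp h2).deg_eq]; exact (Finset.mem_filter.mp h1).2.2)
  have htriv : (triv : IrrCharacter U) ∉ L ∪ O := by
    simp only [Finset.mem_union, hL, Finset.mem_filter, Finset.mem_univ, true_and, hOd, mem_orb]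
    rintro (h | h)
    · exact h.1 rfl
    · exact not_rel_triv hφ h.symm
  set C := insert triv (L ∪ O) with hC
  have hsumC : ∑ θ ∈ C, deg θ * deg θ = 1 + L.card + k * (deg φ * deg φ) := by
    rw [hC, Finset.sum_insert htriv, Finset.sum_union hLO, deg_triv,
      Finset.sum_congr rfl (fun θ hθ => by rw [(Finset.mem_filter.mp hθ).2.2] : ∀ θ ∈ L, deg θ * deg θ = 1),
      Finset.sum_congr rfl (fun θ hθ => by rw [(mem_orb.mp hθ).deg_eq] : ∀ θ ∈ O, deg θ * deg θ = deg φ * deg φ),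
      Finset.sum_const, Finset.sum_const, hOcard, smul_eq_mul, smul_eq_mul]
    ring
  have hCle : ∑ θ ∈ C, deg θ * deg θ ≤ q ^ 3 := htot ▸ Finset.sum_le_sum_of_subset (Finset.subset_univ _)
  rw [hsumC] at hCle
  have hd2 : q * q ≤ deg φ * deg φ := Nat.mul_le_mul hdq hdq
  have hq3 : q ^ 3 = q ^ 2 + k * (q * q) := by rw [← hk]; ring
  have hkd := Nat.mul_le_mul_left k hd2
  have hLq : L.card + 1 = q ^ 2 := by omega
  have hdeq : deg φ = q := by
    have h1 : k * (deg φ * deg φ) = k * (q * q) := by omega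
    exact Nat.mul_self_inj.mp (Nat.eq_of_mul_eq_mul_left (by omega) h1)
  have hrest : ∀ θ : IrrCharacter U, θ ∈ C := by
    intro θ
    by_contra hθ
    have h1 : ∑ θ ∈ insert θ C, deg θ * deg θ ≤ q ^ 3 := htot ▸ Finset.sum_le_sum_of_subset (Finset.subset_univ _)
    rw [Finset.sum_insert hθ, hsumC, hdeq] at h1
    have := Nat.mul_pos (deg_pos θ) (deg_pos θ)
    omega
  have hc1 : N φ P = 1 := by
    rw [hdeq] at hφb'
    have h1 : ((q : ℤ) + 1) ≤ (img.card : ℤ) + 1 := by exact_mod_cast Nat.add_le_add_right himgq 1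
    by_contra h
    have h2 := mul_le_mul (show (2 : ℤ) ≤ N φ P by omega) h1 (by positivity) (by omega)
    linarith
  -- the remaining characters
  set X := (S hO)ᶜ with hX
  set R := (X.erase P) \ img with hR
  have hsub : img ⊆ X.erase P := fun χ hχ => by
    obtain ⟨s, hs, rfl⟩ := Finset.mem_image.mp hχ
    exact Finset.mem_erase.mpr ⟨(hF s hs).1, Finset.mem_compl.mpr (hF s hs).2.1⟩
  have hsplit : ∀ f : IrrCharacter G → ℤ, ∑ χ ∈ X, f χ = f P + (∑ χ ∈ img, f χ + ∑ χ ∈ R, f χ) := fun f => by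
    rw [hR, add_comm (∑ χ ∈ img, f χ), Finset.sum_sdiff hsub,
      Finset.add_sum_erase _ _ (Finset.mem_compl.mpr hPS)]
  have hone : ∀ θ : IrrCharacter U, θ ≠ triv →
      (Finset.univ.filter fun h : D2 G a b => rot hS h θ = θ).card = 1 := fun θ hθ =>
    Finset.card_eq_one.mpr ⟨1, Finset.ext fun h => ⟨fun hh => Finset.mem_singleton.mpr
      (free_irr hS hθ (Finset.mem_filter.mp hh).2), fun hh => by
        rw [Finset.mem_singleton] at hh
        subst hh
        exact Finset.mem_filter.mpr ⟨Finset.mem_univ _, rot_one _ θ⟩⟩⟩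
  have g1 : ∑ χ ∈ X, N t₀ χ * N t₀ χ = (g : ℤ) + 1 := by
    rw [hX, gram_X hO h0 h0, hone t₀ h0, hl, hg, hkdef]; push_cast; ring
  have g2 : ∑ χ ∈ X, N t₀ χ * N φ χ = (g : ℤ) * q := by
    rw [hX, gram_X hO h0 hφ, Finset.card_eq_zero.mpr (Finset.filter_eq_empty_iff.mpr fun h _ e =>
      hφd (by rw [Rel.deg_eq (hS := hS) ⟨h, e⟩, hl])), hl, hdeq, hg, hkdef]
    push_cast; ring
  have g3 : ∑ χ ∈ X, N φ χ * N φ χ = (g : ℤ) * q * q + 1 := by
    rw [hX, gram_X hO hφ hφ, hone φ hφ, hdeq, hg, hkdef]; push_cast; ring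
  rw [hsplit] at g1 g2 g3
  have himg0 : ∀ χ ∈ img, N t₀ χ = 0 ∧ N φ χ = 1 := fun χ hχ => by
    obtain ⟨s, hs, rfl⟩ := Finset.mem_image.mp hχ
    exact ⟨(hF s hs).2.2.1, (hφF s hs).trans hc1⟩
  rw [Finset.sum_eq_zero fun χ hχ => by rw [(himg0 χ hχ).1, zero_mul], hP] at g1
  rw [Finset.sum_eq_zero fun χ hχ => by rw [(himg0 χ hχ).1, zero_mul], hP, hc1] at g2
  rw [Finset.sum_congr rfl (g := fun _ => (1 : ℤ)) fun χ hχ => by rw [(himg0 χ hχ).2, one_mul],
    Finset.sum_const, nsmul_eq_mul, mul_one, hc1] at g3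
  have eA : ∑ χ ∈ R, N t₀ χ * N t₀ χ = (g : ℤ) := by linarith
  set bb : IrrCharacter G → ℤ := fun χ => N φ χ - q * N t₀ χ with hbb
  have eAB : ∑ χ ∈ R, N t₀ χ * bb χ = -1 := by
    have e : ∑ χ ∈ R, N t₀ χ * bb χ =
        ∑ χ ∈ R, N t₀ χ * N φ χ - (q : ℤ) * ∑ χ ∈ R, N t₀ χ * N t₀ χ := by
      rw [Finset.mul_sum, ← Finset.sum_sub_distrib]
      exact Finset.sum_congr rfl fun χ _ => by simp only [hbb]; ring
    rw [e, eA]
    linarith
  have eB : ∑ χ ∈ R, bb χ * bb χ ≤ (q : ℤ) := by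
    have e : ∑ χ ∈ R, bb χ * bb χ = ∑ χ ∈ R, N φ χ * N φ χ - 2 * (q : ℤ) * ∑ χ ∈ R, N t₀ χ * N φ χ +
        (q : ℤ) * q * ∑ χ ∈ R, N t₀ χ * N t₀ χ := by
      rw [Finset.mul_sum, Finset.mul_sum, ← Finset.sum_sub_distrib, ← Finset.sum_add_distrib]
      exact Finset.sum_congr rfl fun χ _ => by simp only [hbb]; ring
    have h1 : ∑ χ ∈ R, N t₀ χ * N φ χ = (g : ℤ) * q - 1 := by linarith
    rw [e, eA, h1]
    have h2 : (q : ℤ) ≤ img.card := by exact_mod_cast himgq
    linear_combination g3 + h2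
  have hb2 : ∀ χ ∈ R, N t₀ χ * bb χ = -2 * (N t₀ χ * N t₀ χ) := by
    intro χ hχ
    by_cases hz : N t₀ χ = 0
    · rw [hz]; ring
    obtain ⟨hχ1, hχimg⟩ := Finset.mem_sdiff.mp hχ
    obtain ⟨hχP, hχX⟩ := Finset.mem_erase.mp hχ1
    set f := N t₀ χ with hf
    have hf0 : 0 ≤ f := N_nonneg t₀ χ
    obtain ⟨fn, hfn⟩ := Int.eq_ofNat_of_zero_le hf0
    have hfle : f * f ≤ (g : ℤ) :=
      eA ▸ Finset.single_le_sum (f := fun χ => N t₀ χ * N t₀ χ) (fun χ _ => mul_self_nonneg _) hχ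
    have hble : bb χ * bb χ ≤ (q : ℤ) :=
      le_trans (Finset.single_le_sum (f := fun χ => bb χ * bb χ) (fun χ _ => mul_self_nonneg _) hχ) eB
    have hlin : ∀ s ∈ L, N s χ = f := by
      intro s hs
      by_cases hr : Rel hS t₀ s
      · rw [hr.N_eq]
      · have hsA : s ∈ A := (memA s).mpr ⟨(Finset.mem_filter.mp hs).2.1, (Finset.mem_filter.mp hs).2.2, hr⟩
        exact (hF s hsA).2.2.2.2.2 χ hχP fun e => hχimg (e ▸ Finset.mem_image_of_mem F hsA)
    have hD : Dg U χ = (k : ℤ) * (f * (q * q + q + 1) + bb χ * q) := by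
      rw [Dg, ← Finset.sum_subset (Finset.subset_univ C) fun θ _ h => absurd (hrest θ) h, hC,
        Finset.sum_insert htriv, Finset.sum_union hLO, N_triv_X hO (Finset.mem_compl.mp hχX), zero_mul,
        Finset.sum_congr rfl (fun θ hθ => by rw [hlin θ hθ, (Finset.mem_filter.mp hθ).2.2, Nat.cast_one, mul_one] :
          ∀ θ ∈ L, N θ χ * (deg θ : ℤ) = f),
        Finset.sum_congr rfl (fun θ hθ => by rw [(mem_orb.mp hθ).N_eq, (mem_orb.mp hθ).deg_eq, hdeq] :
          ∀ θ ∈ O, N θ χ * (deg θ : ℤ) = N φ χ * q),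
        Finset.sum_const, Finset.sum_const, hOcard, nsmul_eq_mul, nsmul_eq_mul]
      have hL' : (L.card : ℤ) + 1 = (q : ℤ) ^ 2 := by exact_mod_cast hLq
      have hk' : (k : ℤ) + 1 = q := by exact_mod_cast hk
      simp only [hbb]
      linear_combination f * hL' - f * ((q : ℤ) + 1) * hk'
    obtain ⟨m, hm, -, hdvd⟩ := CfsgLib.Char.exists_degree_dvd_card χ.2
    rw [Dg_cast (U := U)] at hm
    have hm' : Dg U χ = (m : ℤ) := by exact_mod_cast hm
    rw [hS.card_group, hcard, ← hkdef] at hdvd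
    have hdvd' : Dg U χ ∣ ((q : ℤ) ^ 3 + 1) * (q : ℤ) ^ 3 * k := by
      rw [hm']; exact_mod_cast hdvd
    rw [hD, mul_comm (k : ℤ)] at hdvd'
    have hdvd'' := Int.dvd_of_mul_dvd_mul_right (show (k : ℤ) ≠ 0 by positivity) hdvd'
    rw [hfn] at hdvd'' hfle
    have hfn1 : 1 ≤ fn := by omega
    have h2 : 2 * fn * fn ≤ 2 ^ n := by
      have h' : fn * fn ≤ g := by exact_mod_cast hfle
      rw [mul_assoc, ← hq]
      omega
    rw [hq] at hdvd'' hble
    push_cast at hdvd'' hble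
    rw [cube_degree hn2 hfn1 h2 hble hdvd'', hfn]
    push_cast
    ring
  rw [Finset.sum_congr rfl hb2, ← Finset.mul_sum, eA] at eAB
  omega

end OddInv

end CfsgLib.Zassenhaus
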