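import Cfsg.Agent.Lib.Zassenhaus.OddSimple
import Cfsg.Agent.Lib.PGroup.SuzukiQuotient
import Cfsg.Prelude.Def_LieRecognition

/-!
# A non-abelian regular 2-group is a Suzuki 2-group

The two-point stabilizer acts regularly on the involutions of the regular subgroup, which are central.
-/

set_option autoImplicit false
set_option linter.style.haveILetI false
set_option linter.unusedSectionVars false

open MulAction
open scoped Classical

namespace CfsgLib.Zassenhaus

open CfsgLib.Char.TINilpotent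

namespace OddInv

variable {G Ω : Type*} [Group G] [MulAction G Ω] [Fintype G] {a b : Ω} {U : Subgroup G} {v : G}
  (hO : OddInv G Ω a b U v) (hv : v * v = 1) (hU : IsPGroup 2 U)
include hO hv hU

theorem odd_points : Odd (Nat.card Ω) := by
  haveI := finite_points hO.hz
  haveI : Nontrivial U := (Subgroup.nontrivial_iff_ne_bot U).mpr (hO.hK.setting hO.hz hO.hb).ne_bot
  obtain ⟨n, hn⟩ := hU.exists_card_eq
  have h1 : 1 < Nat.card U := Finite.one_lt_card
  have h2 : 2 ∣ Nat.card U := by
    rcases Nat.eq_zero_or_pos n with rfl | h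
    · rw [pow_zero] at hn; omega
    · exact hn ▸ dvd_pow_self 2 h.ne'
  rw [hO.hK.card_eq hO.hz hO.hb] at h2 h1
  rw [Nat.odd_iff]
  omega

/-- The involutions of the regular subgroup are conjugate under the two-point stabilizer. -/
theorem involution_orbit {x y : U} (hx : x ≠ 1) (hx2 : x * x = 1) (hy : y ≠ 1) (hy2 : y * y = 1) :
    ∃ h : D2 G a b, cj (hO.hK.setting hO.hz hO.hb) h x = y := by
  haveI := finite_points hO.hz
  haveI := Fintype.ofFinite Ω
  haveI := transitive hO.hz
  set hS := hO.hK.setting hO.hz hO.hb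
  set I : Finset U := Finset.univ.filter fun u => u ≠ 1 ∧ u * u = 1 with hI
  have hinj : Function.Injective fun h : D2 G a b => cj hS h x := fun g h e => by
    have e' := congrArg (cj hS h⁻¹) e
    simp only [cj_cj, inv_mul_cancel, cj_one] at e'
    refine (inv_mul_eq_one.mp ?_).symm
    exact Subtype.ext (hS.free _ (h⁻¹ * g).2 x x.2 (fun h => hx (Subtype.ext h))
      (congrArg (Subtype.val : U → G) e'))
  have hord : ∀ {u : U}, u ∈ I → orderOf (u : G) = 2 := fun hu => by
    obtain ⟨h1, h2⟩ := (Finset.mem_filter.mp hu).2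
    rw [Subgroup.orderOf_coe]
    exact orderOf_eq_prime (by rw [pow_two, h2]) h1
  have hle : I.card ≤ Nat.card (D2 G a b) := by
    -- each point carries as many involutions
    have hcount : I.card * Nat.card Ω ≤ Nat.card {t : G // orderOf t = 2} := by
      choose g hg using fun c : Ω => exists_smul_eq G a c
      have e : I.card * Nat.card Ω = Fintype.card (Ω × {u : U // u ∈ I}) := by
        rw [Fintype.card_prod, Fintype.card_coe, Nat.card_eq_fintype_card, mul_comm]
      rw [e, ← Nat.card_eq_fintype_card]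
      refine Nat.card_le_card_of_injective (fun p => ⟨g p.1 * (p.2.1 : G) * (g p.1)⁻¹, by
        rw [← MulAut.conj_apply, MulEquiv.orderOf_eq, hord p.2.2]⟩) ?_
      rintro ⟨c, u⟩ ⟨d, w⟩ e
      have e' : g c * (u.1 : G) * (g c)⁻¹ = g d * (w.1 : G) * (g d)⁻¹ := congrArg Subtype.val e
      have hfix : ∀ (c : Ω) (u : {u : U // u ∈ I}), (g c * (u.1 : G) * (g c)⁻¹) • c = c := by
        intro c u
        have h1 : (g c)⁻¹ • c = a := inv_smul_eq_iff.mpr (hg c).symm
        rw [mul_smul, mul_smul, h1, show (u.1 : G) • a = a from hO.hK.le u.1.2, hg c]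
      have hcd : c = d := fixed_unique hO hv (odd_points hO hv hU)
        (t := g c * (u.1 : G) * (g c)⁻¹) (by rw [← MulAut.conj_apply, MulEquiv.orderOf_eq, hord u.2])
        (hfix c u) (e' ▸ hfix d w)
      subst hcd
      exact Prod.ext rfl (Subtype.ext (Subtype.ext (mul_left_cancel (mul_right_cancel e'))))
    have h := card_involutions hO hv
    rw [Nat.odd_iff.mp (odd_points hO hv hU)] at h
    have h3 := hO.hz.three
    have hpos : 0 < Nat.card Ω - 1 := by omega
    have h' := Nat.mul_le_mul_right (Nat.card Ω - 1) hcount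
    rw [h] at h'
    refine Nat.le_of_mul_le_mul_right ?_ (Nat.mul_pos (by omega : 0 < Nat.card Ω) hpos)
    calc I.card * (Nat.card Ω * (Nat.card Ω - 1)) = I.card * Nat.card Ω * (Nat.card Ω - 1) := by ring
      _ ≤ _ := h'
      _ = _ := by ring
  have himg : (Finset.univ.image fun h : D2 G a b => cj hS h x) = I := by
    refine Finset.eq_of_subset_of_card_le (fun u hu => ?_) ?_
    · obtain ⟨h, -, rfl⟩ := Finset.mem_image.mp hu
      refine Finset.mem_filter.mpr ⟨Finset.mem_univ _, fun e => hx ?_, by rw [← map_mul, hx2, map_one]⟩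
      exact (cj hS h).injective (e.trans (map_one _).symm)
    · rwa [Finset.card_image_of_injective _ hinj, Finset.card_univ, ← Nat.card_eq_fintype_card]
  have hyI : y ∈ I := Finset.mem_filter.mpr ⟨Finset.mem_univ _, hy, hy2⟩
  rw [← himg] at hyI
  obtain ⟨h, -, e⟩ := Finset.mem_image.mp hyI
  exact ⟨h, e⟩

/-- Conjugation by the two-point stabilizer. -/
theorem exists_setting :
    ∃ K : Subgroup (MulAut U), CfsgLib.SuzukiCenter.Setting K ∧ Nat.card K = Nat.card (D2 G a b) ∧
      (∀ k ∈ K, ∃ h : D2 G a b, cj (hO.hK.setting hO.hz hO.hb) h = k) ∧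
      (IsCyclic (D2 G a b) → (∃ x y : U, x * y ≠ y * x) → Cfsg.IsSuzukiTwoGroup U) := by
  set hS := hO.hK.setting hO.hz hO.hb
  haveI : Nontrivial U := (Subgroup.nontrivial_iff_ne_bot U).mpr hS.ne_bot
  let φ : D2 G a b →* MulAut U :=
    { toFun := cj hS
      map_one' := MulEquiv.ext fun u => cj_one hS u
      map_mul' := fun g h => MulEquiv.ext fun u => (cj_cj hS g h u).symm }
  have hφ : Function.Injective φ := by
    rw [injective_iff_map_eq_one]
    intro h hh
    obtain ⟨u, hu⟩ := exists_ne (1 : U)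
    exact Subtype.ext (hS.free h h.2 u u.2 (fun e => hu (Subtype.ext e))
      (congrArg (Subtype.val : U → G) (DFunLike.congr_fun hh u)))
  have hodd := odd_points hO hv hU
  have hinv : ∀ {w : U}, w * w = 1 → ∀ g : U, g * w = w * g := fun {w} hw g => by
    by_cases h1 : w = 1
    · simp [h1]
    have ho : orderOf (w : G) = 2 := by
      rw [Subgroup.orderOf_coe]
      exact orderOf_eq_prime (by rw [pow_two, hw]) h1
    exact Subtype.ext ((involution_central hO hv hodd ho (hO.hK.le w.2)).2 g g.2).symm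
  obtain ⟨z, hz1, hz2⟩ : ∃ z : U, z ≠ 1 ∧ z * z = 1 := by
    haveI : Fact (Nat.Prime 2) := ⟨Nat.prime_two⟩
    obtain ⟨i, hi0, hi⟩ := hU.nontrivial_iff_card.mp inferInstance
    obtain ⟨z, hz⟩ := exists_prime_orderOf_dvd_card' (G := U) 2 (hi ▸ dvd_pow_self 2 hi0.ne')
    exact ⟨z, fun e => by rw [e, orderOf_one] at hz; omega, by rw [← pow_two, ← hz, pow_orderOf_eq_one]⟩
  obtain ⟨w, hw, hwz⟩ : ∃ w : U, (w ≠ 1 ∧ w * w = 1) ∧ w ≠ z := by
    obtain ⟨h, hh⟩ : ∃ h : D2 G a b, h ≠ 1 := @exists_ne _ (Finite.one_lt_card_iff_nontrivial.mp hO.nt) 1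
    refine ⟨cj hS h z, ⟨fun e => hz1 ((cj hS h).injective (e.trans (map_one _).symm)),
      by rw [← map_mul, hz2, map_one]⟩, fun e => hh ?_⟩
    exact Subtype.ext (hS.free h h.2 z z.2 (fun e => hz1 (Subtype.ext e)) (congrArg (Subtype.val : U → G) e))
  refine ⟨φ.range, ?_, (Nat.card_congr (MonoidHom.ofInjective hφ).toEquiv).symm,
    fun k hk => hk, fun hcyc hna => ?_⟩
  · refine ⟨hU, ?_, fun v hv => hinv hv, ?_, ?_, z, w, hwz.symm, hz1, hz2, hw.1, hw.2⟩
    · rintro _ ⟨g, rfl⟩ _ ⟨h, rfl⟩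
      rw [← map_mul, ← map_mul, hO.comm]
    · intro x y hx hx2 hy hy2
      obtain ⟨h, hh⟩ := involution_orbit hO hv hU hx hx2 hy hy2
      exact ⟨φ h, ⟨h, rfl⟩, hh⟩
    · rintro _ ⟨h, rfl⟩ x hx - e
      rw [show h = 1 from Subtype.ext (hS.free h h.2 x x.2 (fun e => hx (Subtype.ext e))
        (congrArg (Subtype.val : U → G) e)), map_one]
  · refine ⟨inferInstance, hU, hna, ⟨z, w, hwz.symm, hz1, hz2, hw.1, hw.2⟩, φ.range, ?_, ?_⟩
    · exact isCyclic_of_surjective φ.rangeRestrict φ.rangeRestrict_surjective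
    · intro x y hx hx2 hy hy2
      obtain ⟨h, hh⟩ := involution_orbit hO hv hU hx hx2 hy hy2
      refine ⟨⟨φ h, h, rfl⟩, hh, ?_⟩
      rintro ⟨_, g, rfl⟩ hg
      refine Subtype.ext (congrArg φ ?_)
      have e' := congrArg (cj hS h⁻¹) (hg.trans hh.symm)
      change cj hS h⁻¹ (cj hS g x) = cj hS h⁻¹ (cj hS h x) at e'
      simp only [cj_cj, inv_mul_cancel, cj_one] at e'
      refine (inv_mul_eq_one.mp ?_).symm
      exact Subtype.ext (hS.free _ (h⁻¹ * g).2 x x.2 (fun h => hx (Subtype.ext h))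
        (congrArg (Subtype.val : U → G) e'))

end OddInv

end CfsgLib.Zassenhaus
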