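import Cfsg.Agent.Lib.Zassenhaus.SuzukiKernel
import Cfsg.Agent.Lib.Zassenhaus.SuzukiCube
import Cfsg.Agent.Lib.Zassenhaus.FeitOdd

/-!
# The orders in the Suzuki case

The regular subgroup has square order and three does not divide the order of the two-point stabilizer:
otherwise the centre, the stabilizer and a swapping involution would leave invariant a set of `q + 1`
points, and `q + 1` would divide the group order.
-/

set_option autoImplicit false
set_option linter.style.haveILetI false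
set_option linter.unusedSectionVars false

open MulAction
open scoped Classical commutatorElement Pointwise

namespace CfsgLib.Zassenhaus

open CfsgLib.Char.TINilpotent

namespace OddInv

variable {G Ω : Type*} [Group G] [MulAction G Ω] [Fintype G] {a b : Ω} {U : Subgroup G} {v : G}
  (hO : OddInv G Ω a b U v) (hv : v * v = 1)
include hO hv

omit hv in
/-- Every swapping element inverts the two-point stabilizer. -/
theorem swap_inv {s : G} (sa : s • a = b) (sb : s • b = a) {h : G} (hh : h ∈ D2 G a b) :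
    s * h * s⁻¹ = h⁻¹ := by
  have hd : v⁻¹ * s ∈ D2 G a b := mem_D2.mpr
    ⟨by rw [mul_smul, sa, inv_smul_eq_iff, hO.va], by rw [mul_smul, sb, inv_smul_eq_iff, hO.vb]⟩
  have e : v⁻¹ * s * h = h * (v⁻¹ * s) := congrArg Subtype.val (hO.comm ⟨_, hd⟩ ⟨h, hh⟩)
  calc s * h * s⁻¹ = v * (v⁻¹ * s * h) * s⁻¹ := by group
    _ = v * h * v⁻¹ := by rw [e]; group
    _ = h⁻¹ := hO.inv h hh

/-- Three does not divide the order of the two-point stabilizer. -/
theorem not_three_dvd (hU : IsPGroup 2 U) {n : ℕ} (hn : 2 ≤ n) (hk : Nat.card (D2 G a b) + 1 = 2 ^ n)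
    (hcard : Nat.card U = (2 ^ n) ^ 2)
    (hI : Nat.card {u : U // u * u = 1} = 2 ^ n) : ¬ 3 ∣ Nat.card (D2 G a b) := by
  intro h3
  haveI := finite_points hO.hz
  haveI := Fintype.ofFinite Ω
  haveI : Fact (Nat.Prime 3) := ⟨Nat.prime_three⟩
  set hS := hO.hK.setting hO.hz hO.hb
  set q := 2 ^ n with hq
  obtain ⟨d, hd⟩ := exists_prime_orderOf_dvd_card' (G := D2 G a b) 3 h3
  have hd3 : (d : G) * d * d = 1 := by
    have h := pow_orderOf_eq_one d
    rw [hd, pow_succ, pow_two] at h
    exact congrArg Subtype.val h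
  have hd1 : (d : G) ≠ 1 := fun e => by
    rw [show d = 1 from Subtype.ext e, orderOf_one] at hd; omega
  have hvd : v * d * v = (d : G)⁻¹ := by
    have h := hO.inv d d.2
    rwa [inv_eq_of_mul_eq_one_right hv] at h
  set t₁ := v * (d : G) with ht₁
  have ht₁2 : t₁ * t₁ = 1 := by
    rw [ht₁]
    calc v * (d : G) * (v * d) = (v * d * v) * d := by group
      _ = 1 := by rw [hvd, inv_mul_cancel]
  have hbraid : v * t₁ * v = t₁ * v * t₁ := by
    rw [ht₁]
    calc v * (v * (d : G)) * v = (v * v) * d * v := by group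
      _ = (d : G) * v := by rw [hv, one_mul]
      _ = (v * v) * d * v := by rw [hv, one_mul]
      _ = v * (v * d * v) := by group
      _ = v * (d : G)⁻¹ := by rw [hvd]
      _ = v * (d * d) := by rw [inv_eq_of_mul_eq_one_left hd3]
      _ = (v * d) * (v * v) * d := by rw [hv]; group
      _ = v * (d : G) * v * (v * d) := by group
  have ho : orderOf t₁ = 2 := orderOf_eq_prime (by rw [pow_two, ht₁2]) fun e => by
    have h1 : (v * (d : G)) • a = a := by rw [← ht₁, e, one_smul]
    rw [mul_smul, show (d : G) • a = a from d.2.1, hO.va] at h1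
    exact hO.hb h1
  have hodd := odd_points hO hv hU
  obtain ⟨c, hc⟩ : ∃ c, t₁ • c = c := by
    have h := ncard_fixed hO hv ho
    rw [Nat.odd_iff.mp hodd] at h
    obtain ⟨c, hc⟩ := Set.ncard_eq_one.mp h
    exact ⟨c, (Set.ext_iff.mp hc c).mpr rfl⟩
  haveI := transitive hO.hz
  obtain ⟨g, hg⟩ := exists_smul_eq G c a
  set t := g * t₁ * g⁻¹ with ht
  have hta : t • a = a := by
    rw [ht, ← hg, mul_smul, mul_smul, inv_smul_smul, hc]
  have hot : orderOf t = 2 := by rw [ht, ← MulAut.conj_apply, MulEquiv.orderOf_eq, ho]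
  obtain ⟨htU, htc⟩ := involution_central hO hv hodd hot hta
  set s₁ := g * v * g⁻¹ with hs₁
  have hs₁2 : s₁ * s₁ = 1 := by
    rw [hs₁]
    calc g * v * g⁻¹ * (g * v * g⁻¹) = g * (v * v) * g⁻¹ := by group
      _ = 1 := by rw [hv]; group
  have hbr₁ : s₁ * t * s₁ = t * s₁ * t := by
    rw [hs₁, ht]
    calc g * v * g⁻¹ * (g * t₁ * g⁻¹) * (g * v * g⁻¹) = g * (v * t₁ * v) * g⁻¹ := by group
      _ = g * (t₁ * v * t₁) * g⁻¹ := by rw [hbraid]
      _ = _ := by group
  have hsa : s₁ • a ≠ a := by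
    intro e
    -- otherwise `t₁` and `v` have the same fixed point
    have hvc : v • c = c := by
      have e' : g⁻¹ • (s₁ • a) = g⁻¹ • a := by rw [e]
      rw [hs₁, ← hg, mul_smul, mul_smul, inv_smul_smul, inv_smul_smul] at e'
      exact e'
    have hdc : (d : G) • c = c := by
      conv_rhs => rw [← hvc]
      rw [← one_smul G ((d : G) • c), ← hv, mul_smul, ← mul_smul v (d : G), ← ht₁, hc]
    rcases fixed_of_mem hO.hz hO.hb.symm d.2 hd1 hdc with rfl | rfl
    · exact hO.hb (hO.va.symm.trans hvc)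
    · exact hO.hb (hvc.symm.trans hO.vb)
  obtain ⟨⟨u, hu⟩, hub, -⟩ := hO.hK.reg (s₁ • a) b hsa hO.hb
  set s := u * s₁ * u⁻¹ with hs
  have hua : u⁻¹ • a = a := inv_smul_eq_iff.mpr (show u • a = a from hO.hK.le hu).symm
  have hsab : s • a = b := by
    rw [hs, mul_smul, mul_smul, hua]
    exact hub
  have hs2 : s * s = 1 := by
    rw [hs]
    calc u * s₁ * u⁻¹ * (u * s₁ * u⁻¹) = u * (s₁ * s₁) * u⁻¹ := by group
      _ = 1 := by rw [hs₁2]; group
  have hsba : s • b = a := by rw [← hsab, smul_smul, hs2, one_smul]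
  have hut : u * t * u⁻¹ = t := by rw [← htc u hu, mul_inv_cancel_right]
  have hbr : s * t * s = t * s * t := by
    calc s * t * s = u * s₁ * u⁻¹ * (u * t * u⁻¹) * (u * s₁ * u⁻¹) := by rw [hut, ← hs]
      _ = u * (s₁ * t * s₁) * u⁻¹ := by group
      _ = u * (t * s₁ * t) * u⁻¹ := by rw [hbr₁]
      _ = (u * t * u⁻¹) * s * (u * t * u⁻¹) := by rw [hs]; group
      _ = _ := by rw [hut]
  -- the invariant set
  set Δ : Finset Ω := insert a (Finset.univ.image fun w : {u : U // u * u = 1} => ((w.1 : U) : G) • b) with hΔ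
  have hΔcard : Δ.card = q + 1 := by
    rw [hΔ, Finset.card_insert_of_notMem, Finset.card_image_of_injective, Finset.card_univ,
      ← Nat.card_eq_fintype_card, hI]
    · intro x y e
      exact Subtype.ext ((hO.hK.reg b _ hO.hb (hO.hK.ne_base hO.hz y.1.2 hO.hb)).unique (y₁ := x.1) (y₂ := y.1) e rfl)
    · rw [Finset.mem_image]
      rintro ⟨x, -, e⟩
      exact hO.hK.ne_base hO.hz x.1.2 hO.hb e
  have hmem : ∀ {w : U}, w * w = 1 → (w : G) • b ∈ Δ := fun {w} hw =>
    Finset.mem_insert_of_mem (Finset.mem_image_of_mem (fun w : {u : U // u * u = 1} => ((w.1 : U) : G) • b)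
      (Finset.mem_univ (⟨w, hw⟩ : {u : U // u * u = 1})))
  have hbΔ : b ∈ Δ := by simpa using hmem (w := 1) (one_mul 1)
  have hcases : ∀ x ∈ Δ, x = a ∨ ∃ w : U, w * w = 1 ∧ (w : G) • b = x := by
    intro x hx
    rcases Finset.mem_insert.mp hx with h | h
    · exact Or.inl h
    · obtain ⟨w, -, e⟩ := Finset.mem_image.mp h
      exact Or.inr ⟨w.1, w.2, e⟩
  have ht2 : (⟨t, htU⟩ : U) * ⟨t, htU⟩ = 1 := Subtype.ext (show t * t = 1 by rw [← pow_two, ← hot, pow_orderOf_eq_one])
  have ht1 : (⟨t, htU⟩ : U) ≠ 1 := fun e => by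
    rw [show t = 1 from congrArg Subtype.val e, orderOf_one] at hot; omega
  have hsΔ : ∀ x ∈ Δ, s • x ∈ Δ := by
    intro x hx
    rcases hcases x hx with h | ⟨w, hw, rfl⟩
    · rw [h, hsab]; exact hbΔ
    by_cases hw1 : w = 1
    · subst hw1
      rw [OneMemClass.coe_one, one_smul, hsba]
      exact Finset.mem_insert_self _ _
    obtain ⟨h, hh⟩ := involution_orbit hO hv hU ht1 ht2 hw1 hw
    have hwG : (w : G) = (h : G) * t * (h : G)⁻¹ := (congrArg Subtype.val hh).symm
    have hsh : s * h * s = (h : G)⁻¹ := by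
      have e := swap_inv hO hsab hsba h.2
      rwa [inv_eq_of_mul_eq_one_right hs2] at e
    have hsh' : s * (h : G)⁻¹ * s = h := by
      have e := swap_inv hO hsab hsba (inv_mem h.2)
      rwa [inv_inv, inv_eq_of_mul_eq_one_right hs2] at e
    have e : s * (w : G) * s = (h : G)⁻¹ * (t * s * t) * h := by
      rw [hwG, ← hbr]
      calc s * ((h : G) * t * (h : G)⁻¹) * s = (s * h * s) * (s⁻¹ * t * s⁻¹) * (s * (h : G)⁻¹ * s) := by group
        _ = _ := by rw [hsh, hsh', inv_eq_of_mul_eq_one_right hs2]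
    have hha : (h : G) • a = a := h.2.1
    have hhb : (h : G)⁻¹ • b = b := inv_smul_eq_iff.mpr h.2.2.symm
    have key : s • (w : G) • b = ((cj hS h⁻¹ ⟨t, htU⟩ : U) : G) • b := by
      have e' : (s * (w : G) * s) • a = s • (w : G) • b := by rw [mul_smul, mul_smul, hsab]
      rw [← e', e]
      rw [cj_coe, Subgroup.coe_inv, inv_inv]
      simp only [mul_smul, hha, show (h : G) • b = b from h.2.2, hta, hsab]
    rw [key]
    exact hmem (by rw [← map_mul, ht2, map_one])
  have hzΔ : ∀ w : U, w * w = 1 → ∀ x ∈ Δ, (w : G) • x ∈ Δ := by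
    intro w hw x hx
    rcases hcases x hx with h | ⟨w', hw', rfl⟩
    · rw [h, show (w : G) • a = a from hO.hK.le w.2]
      exact Finset.mem_insert_self _ _
    · rw [smul_smul]
      refine hmem (w := w * w') ?_
      by_cases h1 : w = 1
      · rw [h1, one_mul, hw']
      have how : orderOf (w : G) = 2 := by
        rw [Subgroup.orderOf_coe]
        exact orderOf_eq_prime (by rw [pow_two, hw]) h1
      have hc' : w * w' = w' * w := Subtype.ext ((involution_central hO hv hodd how (hO.hK.le w.2)).2 w' w'.2)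
      calc w * w' * (w * w') = w * (w' * w) * w' := by group
        _ = (w * w) * (w' * w') := by rw [← hc']; group
        _ = 1 := by rw [hw, hw', one_mul]
  -- a transitive subgroup
  set H := stabilizer G (Δ : Set Ω) with hH
  have hmemH : ∀ g : G, (∀ x ∈ Δ, g • x ∈ Δ) → g ∈ H := fun g hg =>
    mem_stabilizer_iff.mpr ((Set.toFinite _).eq_of_subset_of_card_le (Set.smul_set_subset_iff.mpr
      fun x hx => hg x hx) (by rw [Nat.card_coe_set_eq, Nat.card_coe_set_eq, Set.ncard_smul_set]))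
  have horbit : (orbit H a : Set Ω) = (Δ : Set Ω) := by
    refine Set.Subset.antisymm ?_ fun x hx => ?_
    · rintro _ ⟨g, rfl⟩
      have h := mem_stabilizer_iff.mp g.2
      rw [Finset.mem_coe, ← Finset.mem_coe]
      exact h ▸ Set.smul_mem_smul_set (Finset.mem_coe.mpr (Finset.mem_insert_self a _))
    · rcases hcases x hx with h | ⟨w, hw, rfl⟩
      · rw [h]; exact mem_orbit_self _
      · refine ⟨⟨(w : G) * s, hmemH _ fun y hy => ?_⟩, ?_⟩
        · rw [mul_smul]; exact hzΔ w hw _ (hsΔ y hy)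
        · show ((w : G) * s) • a = (w : G) • b
          rw [mul_smul, hsab]
  have hdvd : q + 1 ∣ Nat.card G := by
    have h1 : Nat.card (orbit H a) * Nat.card (stabilizer H a) = Nat.card H := by
      rw [← Nat.card_prod]
      exact Nat.card_congr (orbitProdStabilizerEquivGroup H a)
    rw [horbit, Nat.card_coe_set_eq, Set.ncard_coe_finset, hΔcard] at h1
    exact (Dvd.intro _ h1).trans H.card_subgroup_dvd_card
  rw [hS.card_group, hcard] at hdvd
  -- coprimality
  have hqe : 2 ∣ q := dvd_pow_self 2 (by omega)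
  have hq4 : 4 ≤ q := by
    calc 4 = 2 ^ 2 := rfl
      _ ≤ q := Nat.pow_le_pow_right (by norm_num) hn
  have hc1 : Nat.Coprime (q + 1) q := by simp
  have hc2 : Nat.Coprime (q + 1) (q ^ 2 + 1) := by
    refine Nat.coprime_of_dvd' fun p hp h1 h2 => ?_
    have hz1 : (p : ℤ) ∣ (q : ℤ) + 1 := by exact_mod_cast h1
    have hz2 : (p : ℤ) ∣ (q : ℤ) ^ 2 + 1 := by exact_mod_cast h2
    have h3 : (p : ℤ) ∣ ((2 : ℕ) : ℤ) := by
      have := dvd_sub hz2 (hz1.mul_right ((q : ℤ) - 1))
      rwa [show (q : ℤ) ^ 2 + 1 - ((q : ℤ) + 1) * ((q : ℤ) - 1) = ((2 : ℕ) : ℤ) by push_cast; ring] at this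
    rw [Int.natCast_dvd_natCast, Nat.prime_dvd_prime_iff_eq hp Nat.prime_two] at h3
    subst h3
    omega
  have h4 := (hc1.pow_right 2)
  rw [mul_comm ((q ^ 2 + 1)) (q ^ 2), mul_assoc] at hdvd
  have h5 := hc2.dvd_of_dvd_mul_left (h4.dvd_of_dvd_mul_left hdvd)
  have := Nat.le_of_dvd Nat.card_pos h5
  omega

/-- The structure in the Suzuki case. -/
theorem suzuki_structure [IsSimpleGroup G] (hU : IsPGroup 2 U) (hna : ∃ x y : U, x * y ≠ y * x) :
    ∃ n : ℕ, Odd n ∧ 1 < n ∧ Nat.card (D2 G a b) + 1 = 2 ^ n ∧ Nat.card U = (2 ^ n) ^ 2 ∧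
      ∃ K : Subgroup (MulAut U), ∃ hK : CfsgLib.SuzukiCenter.Setting K, Nat.card hK.inv = 2 ^ n := by
  haveI : Fintype U := Fintype.ofFinite U
  haveI : Fintype (D2 G a b) := Fintype.ofFinite _
  haveI : Fintype (stabilizer G a) := Fintype.ofFinite _
  obtain ⟨K, hK, hKcard, -, -⟩ := exists_setting hO hv hU
  have hinv := CfsgLib.SuzukiQuotient.card_K hK
  rw [hKcard] at hinv
  obtain ⟨n, hn⟩ := (hU.to_subgroup hK.inv).exists_card_eq
  rw [hn] at hinv
  have hn2 : 2 ≤ n := by
    by_contra h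
    have h' : 2 ^ n ≤ 2 ^ 1 := Nat.pow_le_pow_right (by norm_num) (by omega)
    have : 1 < Nat.card (D2 G a b) := hO.nt
    omega
  have hidx : Nat.card hK.inv * (commutator U).index ≥ Nat.card U := by
    have hle : commutator U ≤ hK.inv := by
      rw [_root_.commutator_def, Subgroup.commutator_le]
      intro x _ y _
      rw [commutatorElement_def]
      exact ((CfsgLib.SuzukiQuotient.upper_inv_eq_top hK hna) y).2 x
    rw [← (commutator U).card_mul_index]
    exact Nat.mul_le_mul_right _ (Nat.le_of_dvd Nat.card_pos (Subgroup.card_dvd_of_le hle))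
  have hsq : Nat.card U = (2 ^ n) ^ 2 := by
    rcases CfsgLib.SuzukiQuotient.card_cases hK hna with h | h
    · rw [h, hn]
    · exfalso
      rw [hn] at h hidx
      obtain ⟨x, y, hxy⟩ := hna
      refine hxy (comm_of_cube hO hinv h ?_ x y)
      rw [h] at hidx
      refine Nat.le_of_mul_le_mul_left ?_ (Nat.two_pow_pos n)
      calc 2 ^ n * (2 ^ n) ^ 2 = (2 ^ n) ^ 3 := by ring
        _ ≤ _ := hidx
  refine ⟨n, ?_, by omega, hinv, hsq, K, hK, hn⟩
  by_contra hodd
  rw [Nat.not_odd_iff_even] at hodd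
  obtain ⟨r, hr⟩ := hodd
  refine not_three_dvd hO hv hU hn2 hinv hsq ?_ ?_
  · rw [← hn]
    exact Nat.card_congr (Equiv.subtypeEquivRight fun u => hK.mem_inv.symm)
  · have h4 : 3 ∣ 4 ^ r - 1 := by
      have h := Nat.sub_dvd_pow_sub_pow 4 1 r
      rwa [one_pow] at h
    rw [show Nat.card (D2 G a b) = 4 ^ r - 1 from ?_]
    · exact h4
    · rw [show 4 ^ r = 2 ^ n by rw [hr, ← two_mul, pow_mul]; norm_num]
      omega

end OddInv

end CfsgLib.Zassenhaus
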