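import Cfsg.Agent.Lib.Zassenhaus.FrobeniusKernel
import Cfsg.Agent.Lib.Char.Induced

/-!
# Induced characters from a point stabilizer of a Zassenhaus group

A point stabilizer is `U` extended by a two-point stabilizer; an element swapping two points gives a
transversal.
-/

set_option autoImplicit false
set_option linter.style.haveILetI false
set_option linter.unusedSectionVars false

open MulAction Cfsg
open scoped ComplexConjugate

namespace CfsgLib.Zassenhaus

variable {G Ω : Type*} [Group G] [MulAction G Ω] [Finite G] (hz : ZG G Ω) {a b : Ω} {U : Subgroup G}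
  (hK : RegKernel a U) (hb : b ≠ a)
include hz hK hb

theorem factor_unique {u u' σ σ' : G} (hu : u ∈ U) (hu' : u' ∈ U) (hσ : σ ∈ D2 G a b) (hσ' : σ' ∈ D2 G a b)
    (e : u * σ = u' * σ') : σ = σ' := by
  have h : u'⁻¹ * u = σ' * σ⁻¹ := by
    rw [eq_mul_inv_iff_mul_eq, mul_assoc, e, inv_mul_cancel_left]
  have h1 := (hK.setting hz hb).inter (U.mul_mem (U.inv_mem hu') hu)
    (h ▸ (D2 G a b).mul_mem hσ' ((D2 G a b).inv_mem hσ))
  rw [h] at h1
  exact (mul_inv_eq_one.mp h1).symm

/-- The projection of the point stabilizer onto the two-point stabilizer along `U`. -/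
theorem exists_projection :
    ∃ π : stabilizer G a →* D2 G a b, (∀ (x : stabilizer G a) (σ : D2 G a b), (x : G) = σ → π x = σ) ∧
      (∀ x : stabilizer G a, (x : G) ∈ U → π x = 1) ∧ Function.Surjective π := by
  classical
  choose u hu σ hσ e using fun x : stabilizer G a => hK.factor hz (show (x : G) • a = a from x.2) hb
  let π : stabilizer G a →* D2 G a b :=
    MonoidHom.mk' (fun x => ⟨σ x, hσ x⟩) fun x y => Subtype.ext (by
      show σ (x * y) = σ x * σ y
      have h : u (x * y) * σ (x * y) = u x * (σ x * u y * (σ x)⁻¹) * (σ x * σ y) := by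
        rw [← e (x * y), Subgroup.coe_mul, e x, e y]; group
      exact factor_unique hz hK hb (hu _) (U.mul_mem (hu x) (hK.normal _ (hσ x).1 _ (hu y))) (hσ _)
        ((D2 G a b).mul_mem (hσ x) (hσ y)) h)
  have hπ : ∀ (x : stabilizer G a) (τ : D2 G a b), (x : G) = τ → π x = τ := fun x τ h => Subtype.ext
    (factor_unique hz hK hb (hu x) U.one_mem (hσ x) τ.2
      (show u x * σ x = 1 * (τ : G) by rw [one_mul, ← e x, h]))
  refine ⟨π, hπ, fun x hx => Subtype.ext ?_, fun τ => ⟨⟨τ, τ.2.1⟩, hπ _ τ rfl⟩⟩
  exact factor_unique hz hK hb (hu x) hx (hσ x) (D2 G a b).one_mem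
    (show u x * σ x = (x : G) * 1 by rw [mul_one, ← e x])

omit [Finite G] in
variable [Fintype G] [Fintype U] in
/-- The induced function, along the transversal given by a swapping element. -/
theorem indFun_stab_eq (f : stabilizer G a → ℂ) (hf : IsClassFunction (stabilizer G a) f) {s : G}
    (hs : s • a = b) (g : G) :
    indFun (stabilizer G a) f g = extendByZero (stabilizer G a) f g +
      ∑ u : U, extendByZero (stabilizer G a) f (((u : G) * s)⁻¹ * g * ((u : G) * s)) := by
  classical
  haveI := finite_points hz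
  set F : G → ℂ := fun x => extendByZero (stabilizer G a) f (x⁻¹ * g * x) with hF
  let t : Option U → G := fun o => o.elim 1 (fun u => (u : G) * s)
  have hinv : ∀ (x : G) (y : (stabilizer G a)), F (x * y) = F x := by
    intro x y
    simp only [hF]
    by_cases hm : x⁻¹ * g * x ∈ (stabilizer G a)
    · have hm' : (x * (y : G))⁻¹ * g * (x * y) ∈ (stabilizer G a) := by
        rw [show (x * (y : G))⁻¹ * g * (x * y) = (y : G)⁻¹ * (x⁻¹ * g * x) * y by group]
        exact (stabilizer G a).mul_mem ((stabilizer G a).mul_mem ((stabilizer G a).inv_mem y.2) hm) y.2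
      rw [CfsgLib.Char.extendByZero_mem (stabilizer G a) f hm, CfsgLib.Char.extendByZero_mem (stabilizer G a) f hm', ← hf ⟨_, hm⟩ y⁻¹]
      exact congrArg f (Subtype.ext (by simp [mul_assoc]))
    · rw [CfsgLib.Char.extendByZero_notMem (stabilizer G a) f hm, CfsgLib.Char.extendByZero_notMem]
      intro hm'
      refine hm ?_
      rw [show x⁻¹ * g * x = (y : G) * ((x * (y : G))⁻¹ * g * (x * y)) * (y : G)⁻¹ by group]
      exact (stabilizer G a).mul_mem ((stabilizer G a).mul_mem y.2 hm') ((stabilizer G a).inv_mem y.2)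
  have hta : ∀ u : U, ((u : G) * s) • a = (u : G) • b := fun u => by rw [mul_smul, hs]
  have hbij : Function.Bijective fun p : Option U × (stabilizer G a) => t p.1 * (p.2 : G) := by
    constructor
    · rintro ⟨o, y⟩ ⟨o', y'⟩ h
      have ha : t o • a = t o' • a := by
        have := congrArg (· • a) h
        simpa [mul_smul, show (y : G) • a = a from y.2, show (y' : G) • a = a from y'.2] using this
      have ho : o = o' := by
        rcases o with - | u <;> rcases o' with - | u'
        · rfl
        · exact absurd ((hta u').symm.trans (ha.symm.trans (one_smul G a))) (hK.ne_base hz u'.2 hb)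
        · exact absurd ((hta u).symm.trans (ha.trans (one_smul G a))) (hK.ne_base hz u.2 hb)
        · exact congrArg some ((hK.reg b _ hb (hK.ne_base hz u'.2 hb)).unique
            ((hta u).symm.trans (ha.trans (hta u'))) rfl)
      subst ho
      exact Prod.ext rfl (Subtype.ext (mul_left_cancel h))
    · intro x
      by_cases hx : x • a = a
      · exact ⟨⟨none, ⟨x, hx⟩⟩, one_mul x⟩
      obtain ⟨u, hu, -⟩ := hK.reg b (x • a) hb hx
      exact ⟨⟨some u, ⟨((u : G) * s)⁻¹ * x, show _ • a = a by
        rw [mul_smul, inv_smul_eq_iff, hta, hu]⟩⟩, mul_inv_cancel_left ((u : G) * s) x⟩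
  have hsum : ∑ x : G, F x = (Nat.card (stabilizer G a) : ℂ) * (F 1 + ∑ u : U, F ((u : G) * s)) := by
    rw [← hbij.sum_comp F, Fintype.sum_prod_type]
    simp only [hinv, Finset.sum_const, Finset.card_univ, nsmul_eq_mul, ← Finset.mul_sum]
    rw [Fintype.sum_option, Nat.card_eq_fintype_card]
    rfl
  simp only [indFun]
  rw [hsum, inv_mul_cancel_left₀ (Nat.cast_ne_zero.mpr Nat.card_pos.ne')]
  simp [hF]

end CfsgLib.Zassenhaus
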